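import Mathlib

/-!
Polynomial algebras are standard smooth of relative dimension the number of variables.
-/

set_option autoImplicit false

universe u

namespace Groth.Agent.Grass60

open MvPolynomial

theorem isStandardSmoothOfRelativeDimension_mvPolynomial (R : Type u) [CommRing R] (ι : Type)
    [Finite ι] :
    Algebra.IsStandardSmoothOfRelativeDimension (Nat.card ι) R (MvPolynomial ι R) := by
  classical
  let G := Algebra.Generators.mvPolynomial R ι
  have hker : G.ker = ⊥ := by
    rw [Algebra.Generators.ker_eq_ker_aeval_val, eq_bot_iff]
    intro x hx
    have hv : G.val = (X : ι → MvPolynomial ι R) := by simp [G]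
    rw [RingHom.mem_ker, hv, aeval_X_left_apply] at hx
    exact hx
  let P : Algebra.Presentation R (MvPolynomial ι R) ι PEmpty.{1} :=
    { toGenerators := G
      relation := PEmpty.elim
      span_range_relation_eq_ker := by rw [hker, Set.range_eq_empty, Ideal.span_empty] }
  let P' : Algebra.PreSubmersivePresentation R (MvPolynomial ι R) ι PEmpty.{1} :=
    { toPresentation := P
      map := PEmpty.elim
      map_inj := fun a => a.elim }
  let P'' : Algebra.SubmersivePresentation R (MvPolynomial ι R) ι PEmpty.{1} :=
    { toPreSubmersivePresentation := P'
      jacobian_isUnit := by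
        rw [Algebra.PreSubmersivePresentation.jacobian_eq_jacobiMatrix_det,
          Matrix.det_isEmpty, map_one]
        exact isUnit_one }
  refine P''.isStandardSmoothOfRelativeDimension ?_
  simp [Algebra.Presentation.dimension]

end Groth.Agent.Grass60
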