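import Groth.Agent.Synt29.LGScheme
import Groth.Agent.Grass60.Std

/-!
The standard affine charts of a scheme representing the Grassmannian functor of a free module.
-/

set_option autoImplicit false
set_option backward.isDefEq.respectTransparency false
set_option linter.style.haveILetI false

universe u

open TensorProduct CategoryTheory AlgebraicGeometry

namespace Groth.Agent.Grass60

open Synt29.GrassGraph Synt29.RepOpen
open Module (Grassmannian)

variable (R : Type u) [CommRing R] (n k : ℕ)

/-- The Grassmannian functor of the free module. -/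
noncomputable abbrev gFun : CommAlgCat.{u} R ⥤ Type u :=
  Module.Grassmannian.functor (R := R) (M := Fin n → R) k

/-- The variables of a chart. -/
abbrev Var (S : Finset (Fin n)) := {c // c ∉ S} × {c // c ∈ S}

variable {n k}

/-- The universal matrix of a chart. -/
noncomputable def uUniv (S : Finset (Fin n)) (c : {c // c ∉ S}) (c' : S) : MvPolynomial (Var n S) R :=
  MvPolynomial.X (c, c')

/-- The chart attached to a set of columns. -/
noncomputable def chart (S : Finset (Fin n)) (hS : S.card = k) : Chart (gFun R n k) where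
  P _ N := InChart S N
  C := CommAlgCat.of R (MvPolynomial (Var n S) R)
  univ := graph (R := R) S hS (uUniv R S)
  mem_univ := graph_inChart S hS _
  map_mem {_ _} φ {N} h := InChart.map φ.hom hS h
  lift {A N} h := by
    obtain ⟨u, hu, hu'⟩ := InChart.exists_eq h hS
    let ρ : MvPolynomial (Var n S) R →ₐ[R] A := MvPolynomial.aeval fun v => u v.1 v.2
    refine ⟨CommAlgCat.ofHom ρ, ?_, fun ρ' hρ' => ?_⟩
    · show Grassmannian.map ρ (graph (R := R) S hS (uUniv R S)) = _
      rw [map_graph, hu]
      congr 1
      funext c c'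
      simp [ρ, uUniv]
    · refine CommAlgCat.hom_ext (MvPolynomial.algHom_ext fun v => ?_)
      have h1 : Grassmannian.map ρ'.hom (graph (R := R) S hS (uUniv R S)) = N := hρ'
      rw [map_graph] at h1
      have h2 := congrFun (congrFun (hu' _ h1.symm) v.1) v.2
      exact h2.trans (by simp [ρ])
  isOpen {A} N L hL ψ h := by
    letI := hL.toField
    obtain ⟨a, ha, ha'⟩ := Synt29.LG.exists_ne_zero_inChart (κ := Unit) (fun _ => S) (fun _ => N) ψ.hom
      fun _ => h
    exact ⟨a, ha, ha' _ _ (IsLocalization.Away.algebraMap_isUnit a) ()⟩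

variable {R}
variable {X : Over (Spec (CommRingCat.of R))} {e : ∀ A, (sp A ⟶ X) ≃ (gFun R n k).obj A}

/-- Base change compatibility, stated for morphisms. -/
theorem isNat (he : ∀ (A B : CommAlgCat.{u} R) (φ : A ⟶ B) (g : sp A ⟶ X) (g' : sp B ⟶ X),
      g'.left = Spec.map (CommRingCat.ofHom φ.hom.toRingHom) ≫ g.left →
        e B g' = (gFun R n k).map φ (e A g)) : IsNat X (gFun R n k) e :=
  fun A B φ g => he A B φ g _ rfl

/-- Membership in the image of a chart is tested at a field-valued point. -/
theorem mem_range_iff_field {F : CommAlgCat.{u} R ⥤ Type u} {Y : Over (Spec (CommRingCat.of R))}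
    {ε : ∀ A, (sp A ⟶ Y) ≃ F.obj A} (he : IsNat Y F ε) (c : Chart F) {L : CommAlgCat.{u} R} (hL : IsField L)
    (p : sp L ⟶ Y) (z : (sp L).left) :
    p.left z ∈ Set.range (c.hom ε).left ↔ c.P L (ε L p) := by
  rw [Synt29.RepOpen.mem_range_iff he c p z]
  constructor
  · rintro ⟨h, hh, hP⟩
    letI := hL.toField
    have hne : IsUnit (AlgHom.id R L h) := isUnit_iff_ne_zero.2 fun (h0 : h = 0) => hh (h0 ▸ z.asIdeal.zero_mem)
    let ρ : Localization.Away h →ₐ[R] L := IsLocalization.liftAlgHom (M := Submonoid.powers h) (f := AlgHom.id R L)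
      (fun y => by obtain ⟨k, hk⟩ := y.2; rw [← hk, map_pow]; exact hne.pow k)
    have h1 := c.map_mem (CommAlgCat.ofHom ρ) hP
    rw [← FunctorToTypes.map_comp_apply] at h1
    have h2 : toAway L h ≫ CommAlgCat.ofHom ρ = 𝟙 L :=
      CommAlgCat.hom_ext (AlgHom.ext fun x => IsLocalization.lift_eq _ _)
    rw [h2] at h1
    have h3 := CategoryTheory.Functor.map_id F L
    rw [h3] at h1
    exact h1
  · intro h
    exact ⟨1, z.isPrime.one_notMem, c.map_mem (toAway L 1) h⟩

variable (he : IsNat X (gFun R n k) e)

include he in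
/-- The charts cover. -/
theorem exists_chart_mem (x : X.left) :
    ∃ (S : Finset (Fin n)) (hS : S.card = k), x ∈ Set.range ((chart R S hS).hom e).left := by
  obtain ⟨L, hL, p, hp⟩ := Synt29.LG.exists_point x
  letI := hL.toField
  obtain ⟨S, hS, hch⟩ := Synt29.LG.exists_cols (e L p)
  refine ⟨S, hS, ?_⟩
  rw [← hp ⟨⊥, Ideal.isPrime_bot⟩, mem_range_iff_field he _ hL]
  exact hch

/-- The index set of the charts. -/
abbrev Idx (n k : ℕ) := {S : Finset (Fin n) // S.card = k}

/-- The open subscheme cut out by a chart. -/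
noncomputable def chartOpen (S : Idx n k) : X.left.Opens :=
  haveI := isOpenImmersion_hom he (chart R S.1 S.2)
  ((chart R S.1 S.2).hom e).left.opensRange

theorem iSup_chartOpen : ⨆ S, chartOpen he S = ⊤ := by
  refine eq_top_iff.2 fun x _ => ?_
  obtain ⟨S, hS, hx⟩ := exists_chart_mem he x
  exact TopologicalSpace.Opens.mem_iSup.2 ⟨⟨S, hS⟩, hx⟩

/-- The chart as an open subscheme over the base. -/
noncomputable def chartIso (S : Idx n k) :
    Over.mk ((chartOpen he S).ι ≫ X.hom) ≅ sp (chart R S.1 S.2).C :=
  haveI := isOpenImmersion_hom he (chart R S.1 S.2)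
  (Over.isoMk ((chart R S.1 S.2).hom e).left.isoOpensRange (by
    show ((chart R S.1 S.2).hom e).left.isoOpensRange.hom ≫ (chartOpen he S).ι ≫ X.hom = _
    rw [← Category.assoc]
    show (((chart R S.1 S.2).hom e).left.isoOpensRange.hom ≫
      ((chart R S.1 S.2).hom e).left.opensRange.ι) ≫ X.hom = _
    rw [Scheme.Hom.isoOpensRange_hom_ι, Over.w])).symm

theorem card_var (S : Idx n k) : Nat.card (Var n S.1) = k * (n - k) := by
  classical
  rw [Nat.card_prod, Nat.card_eq_fintype_card, Nat.card_eq_fintype_card, Fintype.card_coe, S.2,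
    Fintype.card_subtype_compl, Fintype.card_fin, Fintype.card_coe, S.2, Nat.mul_comm]

theorem smoothOfRelativeDimension_chart (S : Idx n k) :
    SmoothOfRelativeDimension (k * (n - k)) (sp (chart R S.1 S.2).C).hom := by
  rw [← card_var S]
  refine (HasRingHomProperty.Spec_iff (P := @SmoothOfRelativeDimension (Nat.card (Var n S.1)))).2 ?_
  refine RingHom.locally_of RingHom.isStandardSmoothOfRelativeDimension_respectsIso _ ?_
  exact (RingHom.isStandardSmoothOfRelativeDimension_algebraMap _).2
    (isStandardSmoothOfRelativeDimension_mvPolynomial R (Var n S.1))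

include he in
theorem smoothOfRelativeDimension : SmoothOfRelativeDimension (k * (n - k)) X.hom := by
  refine IsZariskiLocalAtSource.of_iSup_eq_top _ (iSup_chartOpen he) fun S => ?_
  have h : (chartOpen he S).ι ≫ X.hom = (chartIso he S).hom.left ≫ (sp (chart R S.1 S.2).C).hom :=
    (Over.w (chartIso he S).hom).symm
  rw [h]
  haveI := smoothOfRelativeDimension_chart (R := R) S
  exact (MorphismProperty.cancel_left_of_respectsIso (P := @SmoothOfRelativeDimension (k * (n - k))) _ _).2
    inferInstance

/-- A chart is an affine space. -/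
noncomputable def chartAffineIso (S : Idx n k) :
    sp (chart R S.1 S.2).C ≅
      Over.mk (𝔸(ULift.{u} (Fin (k * (n - k))); Spec (CommRingCat.of R)) ↘ Spec (CommRingCat.of R)) :=
  let ev : Var n S.1 ≃ ULift.{u} (Fin (k * (n - k))) :=
    ((Finite.equivFin _).trans (finCongr (card_var S))).trans Equiv.ulift.symm
  let eA : CommAlgCat.of R (MvPolynomial (ULift.{u} (Fin (k * (n - k)))) R) ≅ (chart R S.1 S.2).C :=
    CommAlgCat.isoMk (MvPolynomial.renameEquiv R ev.symm)
  ⟨spOver eA.hom, spOver eA.inv, by rw [← spOver_comp, eA.inv_hom_id]; exact Over.OverMorphism.ext (Spec.map_id _),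
    by rw [← spOver_comp, eA.hom_inv_id]; exact Over.OverMorphism.ext (Spec.map_id _)⟩ ≪≫
  (Over.isoMk (f := sp (CommAlgCat.of R (MvPolynomial (ULift.{u} (Fin (k * (n - k)))) R)))
    (AffineSpace.SpecIso (ULift.{u} (Fin (k * (n - k)))) (CommRingCat.of R)).symm
    (AffineSpace.SpecIso_inv_over (n := ULift.{u} (Fin (k * (n - k)))) (CommRingCat.of R)))

end Groth.Agent.Grass60
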