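import Mathlib

/-!
Finitely many points of an affine open lying in an open lie in a common basic open inside it; points of
fibres of finite locally free morphisms.
-/

set_option autoImplicit false
set_option backward.isDefEq.respectTransparency false

universe u

open CategoryTheory CategoryTheory.Limits AlgebraicGeometry TopologicalSpace

namespace Groth.Agent.Grass60

variable {X : Scheme.{u}}

theorem exists_affine_le {U : X.Opens} (hU : IsAffineOpen U) (W : X.Opens) (F : Set X) (hF : F.Finite)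
    (hFU : F ⊆ U) (hFW : F ⊆ W) : ∃ V : X.Opens, IsAffineOpen V ∧ V ≤ U ∧ V ≤ W ∧ F ⊆ V := by
  classical
  have hc : IsClosed (((hU.fromSpec ⁻¹ᵁ W).1 : Set (PrimeSpectrum Γ(X, U)))ᶜ) := (hU.fromSpec ⁻¹ᵁ W).2.isClosed_compl
  obtain ⟨I, hI⟩ := (PrimeSpectrum.isClosed_iff_zeroLocus_ideal _).1 hc
  let p : hF.toFinset → PrimeSpectrum Γ(X, U) := fun x => hU.primeIdealOf ⟨x.1, hFU (hF.mem_toFinset.1 x.2)⟩
  have hp : ∀ x, hU.fromSpec (p x) = x.1 := fun x => hU.fromSpec_primeIdealOf _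
  have hpW : ∀ x, ¬ I ≤ (p x).asIdeal := fun x hx => by
    have h1 : p x ∈ PrimeSpectrum.zeroLocus (I : Set Γ(X, U)) := hx
    rw [← hI] at h1
    exact h1 (show hU.fromSpec (p x) ∈ W by rw [hp]; exact hFW (hF.mem_toFinset.1 x.2))
  obtain ⟨r, hrI, hr⟩ : ∃ r ∈ I, ∀ x, r ∉ (p x).asIdeal := by
    by_cases hne : Nonempty hF.toFinset
    · obtain ⟨a⟩ := hne
      by_contra h
      push Not at h
      have hsub : (I : Set Γ(X, U)) ⊆ ⋃ x ∈ (↑(Finset.univ : Finset hF.toFinset) : Set hF.toFinset),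
          ((p x).asIdeal : Set Γ(X, U)) := fun r hr => by
        obtain ⟨x, hx⟩ := h r hr
        exact Set.mem_iUnion₂.2 ⟨x, by simp, hx⟩
      obtain ⟨x, -, hx⟩ := (Ideal.subset_union_prime a a fun i _ _ _ => (p i).isPrime).1 hsub
      exact hpW x hx
    · exact ⟨0, I.zero_mem, fun x => absurd ⟨x⟩ hne⟩
  refine ⟨X.basicOpen r, hU.basicOpen r, X.basicOpen_le r, fun z hz => ?_, fun z hz => ?_⟩
  · have hzU : z ∈ U := X.basicOpen_le r hz
    let q := hU.primeIdealOf ⟨z, hzU⟩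
    have hq : hU.fromSpec q = z := hU.fromSpec_primeIdealOf _
    have h1 : q ∈ (hU.fromSpec ⁻¹ᵁ X.basicOpen r) := by
      show hU.fromSpec q ∈ X.basicOpen r
      rw [hq]; exact hz
    rw [hU.fromSpec_preimage_basicOpen] at h1
    by_contra hzW
    have h2 : q ∈ ((hU.fromSpec ⁻¹ᵁ W).1 : Set (PrimeSpectrum Γ(X, U)))ᶜ := fun hw => hzW (by rw [← hq]; exact hw)
    rw [hI] at h2
    exact h1 (h2 hrI)
  · have h1 : p ⟨z, hF.mem_toFinset.2 hz⟩ ∈ PrimeSpectrum.basicOpen r := hr _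
    rw [← hU.fromSpec_preimage_basicOpen] at h1
    have h2 : hU.fromSpec (p ⟨z, hF.mem_toFinset.2 hz⟩) ∈ X.basicOpen r := h1
    rwa [hp] at h2

end Groth.Agent.Grass60
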