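import Groth.Agent.Grass60.Locus
import Groth.Agent.GrpSchLib.WeilClosed

/-!
Closed conditions on points of Grassmannians, and the closed immersion attached to a surjection.
-/

set_option autoImplicit false
set_option backward.isDefEq.respectTransparency false
set_option linter.style.haveILetI false

universe u

open TensorProduct CategoryTheory AlgebraicGeometry

namespace Groth.Agent.Grass60

open Synt29.RepOpen
open Module (Grassmannian)

variable {R : Type u} [CommRing R] {M : Type u} [AddCommGroup M] [Module R M] {k : ℕ}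

/-- The Grassmannian functor of a module. -/
noncomputable abbrev mFun (R : Type u) [CommRing R] (M : Type u) [AddCommGroup M] [Module R M] (k : ℕ) :
    CommAlgCat.{u} R ⥤ Type u :=
  Module.Grassmannian.functor (R := R) (M := M) k

section Map

variable {A C : Type u} [CommRing A] [Algebra R A] [CommRing C] [Algebra R C]

/-- The semilinear map between base changes. -/
noncomputable def bcι (φ : A →ₐ[R] C) : A ⊗[R] M →ₗ[R] C ⊗[R] M := φ.toLinearMap.rTensor M

theorem bcι_tmul (φ : A →ₐ[R] C) (a : A) (m : M) : bcι φ (a ⊗ₜ[R] m) = φ a ⊗ₜ[R] m := rfl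

/-- The quotient map after base change. -/
noncomputable def quotMap (φ : A →ₐ[R] C) (N : Grassmannian A (A ⊗[R] M) k) :
    letI := φ.toRingHom.toAlgebra
    haveI : IsScalarTower R A C := IsScalarTower.of_algebraMap_eq' φ.comp_algebraMap.symm
    C ⊗[R] M →ₗ[C] C ⊗[A] ((A ⊗[R] M) ⧸ N.toSubmodule) :=
  letI := φ.toRingHom.toAlgebra
  haveI : IsScalarTower R A C := IsScalarTower.of_algebraMap_eq' φ.comp_algebraMap.symm
  Grassmannian.baseChangeMkQ C N.toSubmodule

theorem mem_map_iff (φ : A →ₐ[R] C) (N : Grassmannian A (A ⊗[R] M) k) (z : C ⊗[R] M) :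
    z ∈ (Grassmannian.map φ N).toSubmodule ↔ quotMap φ N z = 0 := by
  rw [Grassmannian.map_toSubmodule]
  rfl

theorem quotMap_bcι (φ : A →ₐ[R] C) (N : Grassmannian A (A ⊗[R] M) k) (x : A ⊗[R] M) :
    letI := φ.toRingHom.toAlgebra
    quotMap φ N (bcι φ x) = (1 : C) ⊗ₜ[A] N.toSubmodule.mkQ x := by
  letI := φ.toRingHom.toAlgebra
  haveI : IsScalarTower R A C := IsScalarTower.of_algebraMap_eq' φ.comp_algebraMap.symm
  induction x with
  | zero => simp
  | tmul a m =>
    show (N.toSubmodule.mkQ).baseChange C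
      ((TensorProduct.AlgebraTensorModule.cancelBaseChange R A C C M).symm (φ a ⊗ₜ[R] m)) = _
    rw [TensorProduct.AlgebraTensorModule.cancelBaseChange_symm_tmul, LinearMap.baseChange_tmul,
      show (a ⊗ₜ[R] m : A ⊗[R] M) = a • ((1 : A) ⊗ₜ[R] m) by rw [smul_tmul', smul_eq_mul, mul_one],
      map_smul, ← smul_tmul, Algebra.smul_def, mul_one]
    rfl
  | add x y hx hy => rw [map_add, map_add, map_add, tmul_add, hx, hy]

end Map

/-- Conditions saying that the images of given elements die in the quotient. -/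
theorem hasIdeals_of_family (P : ∀ A : CommAlgCat.{u} R, (mFun R M k).obj A → Prop)
    (J : ∀ A : CommAlgCat.{u} R, (mFun R M k).obj A → Set ((A : Type u) ⊗[R] M))
    (h : ∀ (A C : CommAlgCat.{u} R) (φ : A ⟶ C) (N : (mFun R M k).obj A),
      P C ((mFun R M k).map φ N) ↔ ∀ x ∈ J A N, bcι φ.hom x ∈ (Grassmannian.map φ.hom N).toSubmodule) :
    HasIdeals (F := mFun R M k) P := by
  intro A N
  obtain ⟨I, hI⟩ := GrpSchLib.exists_contentIdeal_of_projective (A := (A : Type u))
    (N.toSubmodule.mkQ '' J A N)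
  refine ⟨I, fun C φ => ?_⟩
  letI : Algebra A C := φ.hom.toRingHom.toAlgebra
  rw [h A C φ N]
  refine Iff.trans ?_ (hI C)
  simp only [mem_map_iff, quotMap_bcι, Set.forall_mem_image]

section Surj

variable {M₂ : Type u} [AddCommGroup M₂] [Module R M₂] (v : M →ₗ[R] M₂)

/-- The kernel of the surjection dies in the quotient. -/
def FactorsThrough (A : CommAlgCat.{u} R) (N : (mFun R M k).obj A) : Prop :=
  LinearMap.ker (v.baseChange A) ≤ N.toSubmodule

variable {v}

theorem baseChange_bcι {A C : Type u} [CommRing A] [Algebra R A] [CommRing C] [Algebra R C]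
    (φ : A →ₐ[R] C) (x : A ⊗[R] M) : v.baseChange C (bcι φ x) = bcι φ (v.baseChange A x) := by
  induction x with
  | zero => simp
  | tmul a m => rfl
  | add x y hx hy => simp only [map_add, hx, hy]

variable (hv : Function.Surjective v)

include hv in
theorem ker_baseChange_eq_span (A : Type u) [CommRing A] [Algebra R A] :
    LinearMap.ker (v.baseChange A) =
      Submodule.span A ((fun m => (1 : A) ⊗ₜ[R] m) '' (LinearMap.ker v : Set M)) := by
  refine le_antisymm (fun z hz => ?_) (Submodule.span_le.2 ?_)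
  · obtain ⟨w, rfl⟩ := (lTensor_exact A v.exact_subtype_ker_map hv z).1 hz
    clear hz
    induction w with
    | zero => simp
    | tmul a m =>
      rw [LinearMap.lTensor_tmul, show a ⊗ₜ[R] ((LinearMap.ker v).subtype m) =
        a • ((1 : A) ⊗ₜ[R] (m : M)) by rw [smul_tmul', smul_eq_mul, mul_one]; rfl]
      exact Submodule.smul_mem _ _ (Submodule.subset_span ⟨_, m.2, rfl⟩)
    | add x y hx hy =>
      rw [map_add]
      exact add_mem hx hy
  · rintro _ ⟨m, hm, rfl⟩
    simp [LinearMap.mem_ker.1 hm]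

include hv in
theorem hasIdeals_factorsThrough : HasIdeals (F := mFun R M k) (FactorsThrough v) := by
  refine hasIdeals_of_family _ (fun A _ => (fun m => (1 : A) ⊗ₜ[R] m) '' (LinearMap.ker v : Set M))
    fun A C φ N => ?_
  show LinearMap.ker (v.baseChange C) ≤ (Grassmannian.map φ.hom N).toSubmodule ↔ _
  rw [ker_baseChange_eq_span hv, Submodule.span_le, Set.image_subset_iff, Set.forall_mem_image]
  simp only [bcι_tmul, map_one]
  rfl

/-- The preimage of a point. -/
noncomputable def comapPt {A : Type u} [CommRing A] [Algebra R A] (N : Grassmannian A (A ⊗[R] M₂) k) :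
    Grassmannian A (A ⊗[R] M) k :=
  letI e : ((A ⊗[R] M) ⧸ N.toSubmodule.comap (v.baseChange A)) ≃ₗ[A] (A ⊗[R] M₂) ⧸ N.toSubmodule :=
    (Submodule.quotEquivOfEq _ _ (by rw [LinearMap.ker_comp, Submodule.ker_mkQ])).trans
      ((N.toSubmodule.mkQ ∘ₗ v.baseChange A).quotKerEquivOfSurjective
        (N.toSubmodule.mkQ_surjective.comp (LinearMap.baseChange_surjective A hv)))
  { toSubmodule := N.toSubmodule.comap (v.baseChange A)
    finite_quotient := Module.Finite.equiv e.symm
    projective_quotient := Module.Projective.of_equiv e.symm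
    rankAtStalk_eq := fun p => by rw [Module.rankAtStalk_eq_of_equiv e, N.rankAtStalk_eq] }

theorem comapPt_toSubmodule {A : Type u} [CommRing A] [Algebra R A] (N : Grassmannian A (A ⊗[R] M₂) k) :
    (comapPt hv N).toSubmodule = N.toSubmodule.comap (v.baseChange A) := rfl

theorem comapPt_injective {A : Type u} [CommRing A] [Algebra R A] :
    Function.Injective (comapPt (k := k) (A := A) hv) := fun N N' h =>
  Grassmannian.ext (Submodule.comap_injective_of_surjective (LinearMap.baseChange_surjective A hv)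
    (congrArg (fun x : Grassmannian A (A ⊗[R] M) k => x.toSubmodule) h))

theorem comapPt_map {A C : Type u} [CommRing A] [Algebra R A] [CommRing C] [Algebra R C] (φ : A →ₐ[R] C)
    (N : Grassmannian A (A ⊗[R] M₂) k) :
    comapPt hv (Grassmannian.map φ N) = Grassmannian.map φ (comapPt hv N) := by
  letI := φ.toRingHom.toAlgebra
  haveI : IsScalarTower R A C := IsScalarTower.of_algebraMap_eq' φ.comp_algebraMap.symm
  let e : ((A ⊗[R] M) ⧸ (comapPt hv N).toSubmodule) ≃ₗ[A] (A ⊗[R] M₂) ⧸ N.toSubmodule :=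
    (Submodule.quotEquivOfEq _ _ (by rw [comapPt_toSubmodule, LinearMap.ker_comp, Submodule.ker_mkQ])).trans
      ((N.toSubmodule.mkQ ∘ₗ v.baseChange A).quotKerEquivOfSurjective
        (N.toSubmodule.mkQ_surjective.comp (LinearMap.baseChange_surjective A hv)))
  have key : ∀ z : C ⊗[R] M,
      quotMap φ N (v.baseChange C z) = e.toLinearMap.baseChange C (quotMap φ (comapPt hv N) z) := by
    intro z
    induction z with
    | zero => simp
    | tmul c m => simp [quotMap, Grassmannian.baseChangeMkQ, e]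
    | add x y hx hy => simp only [map_add, hx, hy]
  refine Grassmannian.ext (Submodule.ext fun z => ?_)
  rw [comapPt_toSubmodule, Submodule.mem_comap, mem_map_iff, mem_map_iff, key]
  refine map_eq_zero_iff _ (Function.LeftInverse.injective (g := e.symm.toLinearMap.baseChange C) fun y => ?_)
  rw [← LinearMap.comp_apply, ← LinearMap.baseChange_comp, LinearEquiv.comp_coe, LinearEquiv.self_trans_symm, LinearEquiv.refl_toLinearMap, LinearMap.baseChange_id, LinearMap.id_apply]

theorem factorsThrough_comapPt {A : CommAlgCat.{u} R} (N : Grassmannian A ((A : Type u) ⊗[R] M₂) k) :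
    FactorsThrough v A (comapPt hv N) := fun x hx => by
  rw [comapPt_toSubmodule, Submodule.mem_comap, LinearMap.mem_ker.1 hx]
  exact N.toSubmodule.zero_mem

theorem exists_comapPt_eq {A : CommAlgCat.{u} R} (N : Grassmannian A ((A : Type u) ⊗[R] M) k)
    (h : FactorsThrough v A N) : ∃ N₂, comapPt hv N₂ = N := by
  have hs := LinearMap.baseChange_surjective (A : Type u) hv
  let N' := N.toSubmodule.map (v.baseChange A)
  have hcomap : N'.comap (v.baseChange A) = N.toSubmodule := by
    rw [Submodule.comap_map_eq, sup_eq_left]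
    exact h
  let e : (((A : Type u) ⊗[R] M) ⧸ N.toSubmodule) ≃ₗ[A] (((A : Type u) ⊗[R] M₂) ⧸ N') :=
    (Submodule.quotEquivOfEq _ _ (by rw [LinearMap.ker_comp, Submodule.ker_mkQ, hcomap])).trans
      ((N'.mkQ ∘ₗ v.baseChange A).quotKerEquivOfSurjective (N'.mkQ_surjective.comp hs))
  exact ⟨{ toSubmodule := N'
           finite_quotient := Module.Finite.equiv e
           projective_quotient := Module.Projective.of_equiv e
           rankAtStalk_eq := fun p => by rw [← Module.rankAtStalk_eq_of_equiv e, N.rankAtStalk_eq] },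
    Grassmannian.ext hcomap⟩

variable {X₁ X₂ : Over (Spec (CommRingCat.of R))}
  {e₁ : ∀ A, (sp A ⟶ X₁) ≃ (mFun R M k).obj A} {e₂ : ∀ A, (sp A ⟶ X₂) ≃ (mFun R M₂ k).obj A}
  (he₁ : IsNat X₁ (mFun R M k) e₁) (he₂ : IsNat X₂ (mFun R M₂ k) e₂)

include hv he₁ he₂ in
theorem exists_closedImmersion_comap :
    ∃ c : X₂ ⟶ X₁, IsClosedImmersion c.left ∧
      ∀ c' : X₂ ⟶ X₁, (∀ A (g : sp A ⟶ X₂),
          (e₁ A (g ≫ c')).toSubmodule = (e₂ A g).toSubmodule.comap (v.baseChange A)) ↔ c' = c := by
  let α : ∀ A : CommAlgCat.{u} R, (sp A ⟶ X₂) → (sp A ⟶ X₁) := fun A g => (e₁ A).symm (comapPt hv (e₂ A g))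
  have hα : IsNatPts α := fun A B φ g => by
    apply (e₁ B).injective
    simp only [α, Equiv.apply_symm_apply]
    rw [he₁, he₂, Equiv.apply_symm_apply]
    exact comapPt_map hv φ.hom (e₂ A g)
  obtain ⟨c, hc, hcu⟩ := existsUnique_hom α hα
  obtain ⟨Z, ι, hι, hZ⟩ := exists_closedLocus (P := FactorsThrough v) he₁ (hasIdeals_factorsThrough hv)
  let Z' : Over (Spec (CommRingCat.of R)) := Over.mk (ι ≫ X₁.hom)
  let j : Z' ⟶ X₁ := Over.homMk ι rfl
  have hjmono : ∀ {A : CommAlgCat.{u} R} (a b : sp A ⟶ Z'), a ≫ j = b ≫ j → a = b := fun a b h =>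
    Over.OverMorphism.ext ((cancel_mono ι).1 (congrArg CommaMorphism.left h))
  have hfac : ∀ (A : CommAlgCat.{u} R) (g : sp A ⟶ X₂), ∃ l : sp A ⟶ Z', l ≫ j = α A g := by
    intro A g
    obtain ⟨l, hl⟩ := (hZ A (α A g)).2 (by
      simp only [α, Equiv.apply_symm_apply]
      exact factorsThrough_comapPt hv _)
    exact ⟨Over.homMk l (by show l ≫ ι ≫ X₁.hom = _; rw [← Category.assoc, hl, Over.w]), Over.OverMorphism.ext hl⟩
  have hinv : ∀ (A : CommAlgCat.{u} R) (l : sp A ⟶ Z'), ∃ g : sp A ⟶ X₂, α A g = l ≫ j := by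
    intro A l
    obtain ⟨N₂, hN₂⟩ := exists_comapPt_eq hv (e₁ A (l ≫ j)) ((hZ A (l ≫ j)).1 ⟨l.left, rfl⟩)
    exact ⟨(e₂ A).symm N₂, by simp only [α, Equiv.apply_symm_apply, hN₂, Equiv.symm_apply_apply]⟩
  have hαinj : ∀ (A : CommAlgCat.{u} R) (g g' : sp A ⟶ X₂), α A g = α A g' → g = g' := fun A g g' h =>
    (e₂ A).injective (comapPt_injective hv ((e₁ A).symm.injective h))
  choose β hβ using hfac
  choose γ hγ using hinv
  obtain ⟨p, hp, -⟩ := existsUnique_hom β (fun A B φ g => hjmono _ _ (by rw [hβ, hα, Category.assoc, hβ]))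
  obtain ⟨q, hq, -⟩ := existsUnique_hom γ (fun A B φ l => hαinj _ _ _ (by
    rw [hγ, hα, hγ, Category.assoc]))
  have h1 : p ≫ q = 𝟙 X₂ := hom_ext_pts fun A g => by
    rw [← Category.assoc, hp, hq, Category.comp_id]
    exact hαinj _ _ _ (by rw [hγ, hβ])
  have h2 : q ≫ p = 𝟙 Z' := hom_ext_pts fun A l => by
    rw [← Category.assoc, hq, hp, Category.comp_id]
    exact hjmono _ _ (by rw [hβ, hγ])
  have hpc : p ≫ j = c := hom_ext_pts fun A g => by rw [← Category.assoc, hp, hβ, hc]
  refine ⟨c, ?_, fun c' => ⟨fun h => hcu c' fun A g => ?_, fun h A g => ?_⟩⟩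
  · rw [← hpc, Over.comp_left]
    haveI : IsIso p.left := (⟨q.left, congrArg CommaMorphism.left h1, congrArg CommaMorphism.left h2⟩ : IsIso p.left)
    haveI : IsClosedImmersion j.left := hι
    infer_instance
  · exact (e₁ A).injective (Grassmannian.ext (by simp only [α, Equiv.apply_symm_apply]; exact h A g))
  · subst h
    rw [hc]
    simp only [α, Equiv.apply_symm_apply]
    rfl

end Surj

/-- The condition of being a left ideal. -/
theorem hasIdeals_leftStable (B : Type u) [Ring B] [Algebra R B] :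
    HasIdeals (F := mFun R B k) fun A N =>
      ∀ (a : B) (x : (A : Type u) ⊗[R] B), x ∈ N.toSubmodule → ((1 : A) ⊗ₜ[R] a) * x ∈ N.toSubmodule := by
  refine hasIdeals_of_family (M := B) _ (fun A N => {z | ∃ a, ∃ x ∈ N.toSubmodule, ((1 : A) ⊗ₜ[R] a) * x = z})
    fun A C φ N => ?_
  have hι : ∀ (a : B) (x : (A : Type u) ⊗[R] B),
      bcι φ.hom (((1 : A) ⊗ₜ[R] a) * x) = ((1 : C) ⊗ₜ[R] a) * bcι φ.hom x := by
    intro a x
    induction x with
    | zero => simp
    | tmul t b => simp [bcι_tmul, Algebra.TensorProduct.tmul_mul_tmul]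
    | add x y hx hy => simp only [map_add, mul_add, hx, hy]
  constructor
  · rintro h z ⟨a, x, hx, rfl⟩
    rw [hι]
    refine h a _ ((mem_map_iff φ.hom N _).2 ?_)
    rw [quotMap_bcι, Submodule.mkQ_apply, (Submodule.Quotient.mk_eq_zero _).2 hx, tmul_zero]
  · intro h a z hz
    letI : Algebra A C := φ.hom.toRingHom.toAlgebra
    haveI : IsScalarTower R A C := IsScalarTower.of_algebraMap_eq' φ.hom.comp_algebraMap.symm
    have hz' : quotMap φ.hom N z = 0 := (mem_map_iff φ.hom N z).1 hz
    let cbc := TensorProduct.AlgebraTensorModule.cancelBaseChange R A C C B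
    obtain ⟨w, hw⟩ := (lTensor_exact C (LinearMap.exact_subtype_mkQ N.toSubmodule)
      N.toSubmodule.mkQ_surjective (cbc.symm z)).1 hz'
    rw [← cbc.apply_symm_apply z, ← hw]
    show ((1 : C) ⊗ₜ[R] a) * _ ∈ (Grassmannian.map φ.hom N).toSubmodule
    clear hw hz hz'
    induction w with
    | zero => simp
    | tmul c x =>
      have h1 : cbc (c ⊗ₜ[A] (x : (A : Type u) ⊗[R] B)) = c • bcι φ.hom (x : (A : Type u) ⊗[R] B) := by
        generalize (x : (A : Type u) ⊗[R] B) = y
        induction y with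
        | zero => simp
        | tmul t b => simp [cbc, bcι_tmul, smul_tmul', Algebra.smul_def, mul_comm]; rfl
        | add y y' hy hy' => rw [tmul_add, map_add, map_add, smul_add, hy, hy']
      rw [LinearMap.lTensor_tmul, Submodule.subtype_apply, h1, mul_smul_comm]
      exact Submodule.smul_mem _ _ (hι a x ▸ h _ ⟨a, x, x.2, rfl⟩)
    | add x y hx hy => rw [map_add, map_add, mul_add]; exact add_mem hx hy

end Groth.Agent.Grass60
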