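import Groth.Agent.Grass60.CurveFlag
import Groth.Agent.HilbDLib.ClosedSub
import Groth.Agent.HilbDLib.Separated
import Groth.Agent.ModPairLib.BlowUp

/-!
The addition-of-a-point map from `Hilb^d × X` to `Hilb^(d+1)` of a relative curve is the universal divisor.
-/

set_option autoImplicit false
set_option backward.isDefEq.respectTransparency false
set_option linter.style.haveILetI false

universe u

open CategoryTheory CategoryTheory.Limits AlgebraicGeometry

namespace Groth.Agent.Grass60.CurveAddPoint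

open Groth.Agent.HilbDLib

variable {X S : Scheme.{u}} (f : X ⟶ S)

theorem pull_mul {T T' : Over S} (g : T' ⟶ T) (I J : (PicF.XT f T).IdealSheafData) :
    HilbD.pull f g (I * J) = HilbD.pull f g I * HilbD.pull f g J := by
  rw [pull_eq_comap, pull_eq_comap, pull_eq_comap, ModPairLib.ideal_comap_mul]

variable [IsSeparated f]

theorem pull_secGraph {T T' : Over S} (g : T' ⟶ T) (x : T.left ⟶ X) (hx : x ≫ f = T.hom)
    (x' : T'.left ⟶ X) (hx' : x' ≫ f = T'.hom) (h : g.left ≫ x = x') :
    HilbD.pull f g (HilbD.secGraph f T x hx) = HilbD.secGraph f T' x' hx' := by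
  subst h
  let gx : T ⟶ Over.mk f := Over.homMk x hx
  have h1 : HilbD.secGraph f T x hx = HilbD.pull f gx (HilbD.secGraph f (Over.mk f) (𝟙 X) (Category.id_comp f)) :=
    (pull_diagonal f gx).symm
  rw [h1, pull_pull, pull_diagonal]
  rfl

theorem deg_secGraph (T : Over S) (x : T.left ⟶ X) (hx : x ≫ f = T.hom) :
    Mor2.IsFinLocFreeOfDeg 1 ((HilbD.secGraph f T x hx).subschemeι ≫ PicF.XTproj f T) := by
  rw [secGraph_eq, finLocFreeOfDeg_ker, sec_proj]
  exact ⟨⟨inferInstance, inferInstance, inferInstance⟩, fun y => by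
    rw [Scheme.Hom.finrank_eq_one_of_isIso]; rfl⟩

variable [SmoothOfRelativeDimension 1 f]

theorem finLocFree_addPoint (d : ℕ) (H : Over S) (Z : HilbD.Obj f d H) (hZ : HilbD.IsUniversal f d H Z)
    (H' : Over S) (Z' : HilbD.Obj f (d + 1) H') (hZ' : HilbD.IsUniversal f (d + 1) H' Z')
    (m : Over.mk (pullback.fst H.hom f ≫ H.hom) ⟶ H')
    (hm : HilbD.pull f m Z'.1 =
      HilbD.pull f (Over.homMk (pullback.fst H.hom f) rfl : Over.mk (pullback.fst H.hom f ≫ H.hom) ⟶ H) Z.1 *
        HilbD.secGraph f (Over.mk (pullback.fst H.hom f ≫ H.hom)) (pullback.snd H.hom f) pullback.condition.symm) :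
    Mor2.IsFinLocFreeOfDeg (d + 1) m.left := by
  let T : Over S := Over.mk (pullback.fst H.hom f ≫ H.hom)
  let πH : T ⟶ H := Over.homMk (pullback.fst H.hom f) rfl
  let x : T.left ⟶ X := pullback.snd H.hom f
  have hx : x ≫ f = T.hom := pullback.condition.symm
  change HilbD.pull f m Z'.1 = HilbD.pull f πH Z.1 * HilbD.secGraph f T x hx at hm
  haveI hsm : ∀ U : Over S, SmoothOfRelativeDimension 1 (PicF.XTproj f U) := fun U =>
    (smoothOfRelativeDimension_isStableUnderBaseChange 1).of_isPullback (IsPullback.of_hasPullback f U.hom) inferInstance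
  let ι := Z'.1.subschemeι
  let q := ι ≫ PicF.XTproj f H'
  let PO : Over S := Over.mk (q ≫ H'.hom)
  let qH : PO ⟶ H' := Over.homMk q rfl
  let y : PO.left ⟶ X := ι ≫ pullback.fst f H'.hom
  have hy : y ≫ f = PO.hom := by
    show (ι ≫ pullback.fst f H'.hom) ≫ f = (ι ≫ pullback.snd f H'.hom) ≫ H'.hom
    rw [Category.assoc, Category.assoc, pullback.condition]
  have hsecy : sec f PO y hy ≫ PicF.XTmap f qH = ι := by
    apply pullback.hom_ext
    · simp only [Category.assoc, PicF.XTmap, pullback.lift_fst, Category.comp_id]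
      rw [sec_fst]
    · simp only [Category.assoc, PicF.XTmap, pullback.lift_snd]
      rw [← Category.assoc, show sec f PO y hy ≫ pullback.snd f PO.hom = 𝟙 _ from sec_proj f PO _ _]
      exact Category.id_comp _
  have hleP : HilbD.pull f qH Z'.1 ≤ HilbD.secGraph f PO y hy := by
    rw [pull_eq_comap, ← Scheme.IdealSheafData.le_map_iff_comap_le, secGraph_eq, Scheme.IdealSheafData.map_ker,
      hsecy, Scheme.IdealSheafData.ker_subschemeι]
  obtain ⟨K, hK, hqK⟩ := CurveDiv.exists_difference (PicF.XTproj f PO) (HilbD.secGraph f PO y hy)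
    (HilbD.pull f qH Z'.1) hleP (deg_secGraph f PO y hy) (isFinLocFreeOfDeg_pull f qH Z'.1 Z'.2)
  rw [Nat.add_sub_cancel] at hK
  obtain ⟨h, hh, -⟩ := hZ PO ⟨K, hK⟩
  change HilbD.pull f h Z.1 = K at hh
  let ψ : PO ⟶ T := Over.homMk (pullback.lift h.left y ((Over.w h).trans hy.symm)) (by
    show pullback.lift _ _ _ ≫ pullback.fst H.hom f ≫ H.hom = PO.hom
    rw [pullback.lift_fst_assoc, Over.w h])
  have hψH : ψ ≫ πH = h := Over.OverMorphism.ext (pullback.lift_fst _ _ _)
  have hψx : ψ.left ≫ x = y := pullback.lift_snd _ _ _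
  have hψm : ψ ≫ m = qH := (hZ' PO ⟨_, isFinLocFreeOfDeg_pull f qH Z'.1 Z'.2⟩).unique (by
    show HilbD.pull f (ψ ≫ m) Z'.1 = HilbD.pull f qH Z'.1
    rw [← pull_pull, hm, pull_mul, pull_pull, hψH, hh, pull_secGraph f ψ x hx y hy hψx, hqK, mul_comm]) rfl
  -- the inverse map
  have hleT : Z'.1 ≤ (sec f T x hx ≫ PicF.XTmap f m).ker := by
    rw [← Scheme.IdealSheafData.map_ker, Scheme.IdealSheafData.le_map_iff_comap_le, ← pull_eq_comap, hm,
      ← secGraph_eq]
    exact CurveDiv.mul_le_right' _ _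
  let φ₀ : T.left ⟶ PO.left :=
    IsClosedImmersion.lift ι (sec f T x hx ≫ PicF.XTmap f m) (by rwa [Scheme.IdealSheafData.ker_subschemeι])
  have hφι : φ₀ ≫ ι = sec f T x hx ≫ PicF.XTmap f m := IsClosedImmersion.lift_fac _ _ _
  have hφq : φ₀ ≫ q = m.left := by
    show φ₀ ≫ ι ≫ pullback.snd f H'.hom = m.left
    rw [← Category.assoc, hφι]
    simp only [Category.assoc, PicF.XTmap, pullback.lift_snd]
    rw [← Category.assoc, show sec f T x hx ≫ pullback.snd f T.hom = 𝟙 _ from sec_proj f T _ _]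
    exact Category.id_comp _
  have hφy : φ₀ ≫ y = x := by
    show φ₀ ≫ ι ≫ pullback.fst f H'.hom = x
    rw [← Category.assoc, hφι]
    simp only [Category.assoc, PicF.XTmap, pullback.lift_fst, Category.comp_id]
    rw [sec_fst]
  let φ : T ⟶ PO := Over.homMk φ₀ (by
    show φ₀ ≫ q ≫ H'.hom = T.hom
    rw [← Category.assoc, hφq, Over.w m])
  have hφqH : φ ≫ qH = m := Over.OverMorphism.ext hφq
  have hφK : HilbD.pull f φ K = HilbD.pull f πH Z.1 := by
    refine CurveFlag.cancel (PicF.XTproj f T) (deg_secGraph f T x hx) ?_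
    rw [← pull_secGraph f φ y hy x hx hφy, ← pull_mul, ← hqK, pull_pull, hφqH, hm, mul_comm,
      pull_secGraph f φ y hy x hx hφy]
  have hφh : φ ≫ h = πH := (hZ T ⟨_, isFinLocFreeOfDeg_pull f πH Z.1 Z.2⟩).unique (by
    show HilbD.pull f (φ ≫ h) Z.1 = HilbD.pull f πH Z.1
    rw [← pull_pull, hh, hφK]) rfl
  have e1 : φ₀ ≫ ψ.left = 𝟙 T.left := by
    apply pullback.hom_ext
    · show (φ₀ ≫ pullback.lift _ _ _) ≫ pullback.fst H.hom f = 𝟙 T.left ≫ pullback.fst H.hom f
      rw [Category.assoc, pullback.lift_fst, Category.id_comp]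
      exact congrArg CommaMorphism.left hφh
    · show (φ₀ ≫ pullback.lift _ _ _) ≫ pullback.snd H.hom f = 𝟙 T.left ≫ pullback.snd H.hom f
      rw [Category.assoc, pullback.lift_snd, Category.id_comp]
      exact hφy
  have e2 : ψ.left ≫ φ₀ = 𝟙 PO.left := by
    rw [← cancel_mono ι, Category.assoc, hφι, Category.id_comp]
    apply pullback.hom_ext
    · simp only [Category.assoc, PicF.XTmap, pullback.lift_fst, Category.comp_id]
      rw [sec_fst]
      exact hψx
    · simp only [Category.assoc, PicF.XTmap, pullback.lift_snd]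
      rw [show sec f T x hx ≫ pullback.snd f T.hom ≫ m.left = m.left by
        rw [← Category.assoc, show sec f T x hx ≫ pullback.snd f T.hom = 𝟙 _ from sec_proj f T _ _]
        exact Category.id_comp _]
      exact congrArg CommaMorphism.left hψm
  haveI : IsIso φ₀ := ⟨ψ.left, e1, e2⟩
  obtain ⟨⟨q1, q2, q3⟩, q4⟩ := Z'.2
  rw [← hφq]
  exact ⟨⟨inferInstance, inferInstance, inferInstance⟩, fun z => by
    rw [Scheme.Hom.finrank_comp_left_of_isIso]; exact q4 z⟩

end Groth.Agent.Grass60.CurveAddPoint
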