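import Groth.Agent.CurveEmbed.Points
import Groth.Agent.CurveEmbed.Conic
import Groth.Agent.VarAmp.Curve
import Groth.Agent.AmpleX.FiniteSet
import Groth.Agent.GalFibre75.Basic
import Groth.Agent.SymProdLib.CurveRegular
import Groth.Agent.AlgSpDec.SmoothLocDim
import Groth.Prelude.Def_Curve

/-!
Smooth proper curves over a field: relative dimension one, and finite sets of points lie in affine opens.
-/

set_option autoImplicit false
set_option backward.isDefEq.respectTransparency false
set_option backward.isDefEq.respectTransparency.types false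
set_option linter.style.haveILetI false

universe u

open CategoryTheory CategoryTheory.Limits AlgebraicGeometry TopologicalSpace

attribute [local instance] Curv2.resAlgebra

namespace Groth.Agent.Grass60.CurveAffine

open Groth.Agent

variable {X : Scheme.{u}} (k : Type u) [Field k] (f : X ⟶ Spec (CommRingCat.of k))

theorem smoothOfRelativeDimension_one (hX : Curve.IsSmoothProperCurve k X f) :
    SmoothOfRelativeDimension 1 f := by
  obtain ⟨_, _, _, hdim⟩ := hX
  haveI : JacobsonSpace X := LocallyOfFiniteType.jacobsonSpace f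
  choose V j v n hj hv hn using fun x => AlgSpDec.SmoothLocDim.exists_smoothOfRelativeDimension_nhd f x
  haveI := hj
  have h1 : ∀ x, n x = 1 := fun x => by
    haveI := hn x
    obtain ⟨y, hy, hyc⟩ := nonempty_inter_closedPoints (X := X) (Z := Set.range (j x))
      ⟨_, v x, rfl⟩ (j x).isOpenEmbedding.isOpen_range.isLocallyClosed
    obtain ⟨z, rfl⟩ := hy
    have hz : IsClosed ({z} : Set (V x)) := by
      have := (mem_closedPoints_iff.1 hyc).preimage (j x).continuous
      rwa [← Set.image_singleton, Set.preimage_image_eq _ (j x).isOpenEmbedding.injective] at this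
    haveI : IsIso ((j x).stalkMap z) := inferInstance
    have h := (SymProdLib.ringKrullDim_stalk_eq (j x ≫ f) (n x) hz).1
    rw [← ringKrullDim_eq_of_ringEquiv (asIso ((j x).stalkMap z)).commRingCatIsoToRingEquiv,
      SmoothReg.ringKrullDim_stalk_closedPoint f (mem_closedPoints_iff.1 hyc), hdim] at h
    exact_mod_cast h.symm
  let 𝒰 : X.OpenCover := Scheme.Cover.mkOfCovers X V j fun x => ⟨x, v x, hv x⟩
  refine (IsZariskiLocalAtSource.iff_of_openCover (P := @SmoothOfRelativeDimension 1) 𝒰).2 fun x => ?_
  have := hn x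
  rw [h1 x] at this
  exact this

theorem exists_affineOpen_finite (hX : Curve.IsSmoothProperCurve k X f) {T : Set X} (hT : T.Finite) :
    ∃ U : X.Opens, IsAffineOpen U ∧ T ⊆ U := by
  obtain ⟨hp, hs, hi, hdim⟩ := hX
  letI : X.Over (Spec (CommRingCat.of k)) := ⟨f⟩
  haveI : IsProper (X ↘ Spec (CommRingCat.of k)) := hp
  haveI : Smooth (X ↘ Spec (CommRingCat.of k)) := hs
  haveI := CurveCohLib.isNoetherian_of_proper (k := k) (X := X)
  haveI : X.IsSeparated := ⟨by
    rw [← terminal.comp_from f]
    infer_instance⟩
  obtain ⟨p, -, hp'⟩ := isClosed_univ.exists_closed_singleton (X := X) Set.univ_nonempty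
  have hn : IsIntegrallyClosed (X.presheaf.stalk p) :=
    CurveEmbed.isIntegrallyClosed_of_smooth k hdim hp'
      (by show p ∈ f.smoothLocus; rw [Scheme.Hom.smoothLocus_eq_top_iff.mpr hs]; trivial)
  have hI := CurveEmbed.isInvertible_point k hdim hp' hn
  have hdI := CurveEmbed.deg_point k hp'
  haveI : Module.Finite k (X.residueField p) := GalFibre75.finiteDimensional_residueField f p hp'
  have hpos : 0 < Module.finrank k (X.residueField p) := Module.finrank_pos
  obtain ⟨M, hM, ⟨e⟩⟩ := H23.PicInv.exists_inverse hI
  have hdeg : 0 < Curv2.deg k X M 1 := by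
    have h1 := CurveRR.deg_tensor k hdim hI hM
    have h2 : Curv2.deg k X ((DCoh.tensorBi.obj (CurvePoint.ptMod p hp')).obj M) 1 =
        Curv2.deg k X (Coh.structureModule X) 1 := CurveRR.deg_congr k e 1
    rw [h2, CurveDeg.deg_structureModule, hdI] at h1
    omega
  obtain ⟨_, _, h, -, hU⟩ := AmpleX.exists_finite_nhd (VarAmp.isAmple_of_deg_pos k hdim hM hdeg) hT
    (U := ⊤) (fun _ _ => trivial)
  exact ⟨_, hU, h⟩

end Groth.Agent.Grass60.CurveAffine
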