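import Groth.Agent.SmoothDim.Basic
import Groth.Agent.GrpSchLib.SmoothRegular
import Groth.Agent.RGCore.UnivInjAt
import Mathlib.RingTheory.Flat.Equalizer
import Mathlib.RingTheory.Flat.EquationalCriterion
import Mathlib.RingTheory.Jacobson.Artinian
import Mathlib.RingTheory.RingHom.StandardSmooth

/-!
Closed subschemes of a smooth relative curve which are flat and quasi-finite over the base are locally
principal, cut out by nonzerodivisors, and conversely.
-/

set_option autoImplicit false
set_option backward.isDefEq.respectTransparency false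
set_option linter.unusedSectionVars false

universe u

open TensorProduct Algebra

namespace Groth.Agent.Grass60.CurveAlg

section Field

variable (k : Type u) {C : Type u} [Field k] [CommRing C] [Algebra k C]
  [IsStandardSmoothOfRelativeDimension 1 k C]

include k

/-- A maximal ideal of a smooth curve algebra over a field is not minimal. -/
theorem exists_prime_lt (m : Ideal C) [hm : m.IsMaximal] : ∃ P : Ideal C, P.IsPrime ∧ P < m := by
  obtain ⟨g, hg⟩ := IsStandardSmoothOfRelativeDimension.exists_etale_mvPolynomial (n := 1) k C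
  let R := MvPolynomial (Fin 1) k
  let : Algebra R C := g.toRingHom.toAlgebra
  have : IsScalarTower k R C := IsScalarTower.of_algebraMap_eq fun x => (g.commutes x).symm
  have : Algebra.Etale R C := hg
  have : Algebra.FiniteType k C := Algebra.FiniteType.trans (S := R) inferInstance inferInstance
  have : IsNoetherianRing C := Algebra.FiniteType.isNoetherianRing k C
  let M : PrimeSpectrum R := ⟨m.under R, inferInstance⟩
  have hM : M.asIdeal.IsMaximal := by
    let _ := Ideal.Quotient.field m
    have : Module.Finite k (C ⧸ m) := finite_of_finite_type_of_isJacobsonRing k (C ⧸ m)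
    have : Algebra.IsIntegral R (C ⧸ m) := Algebra.IsIntegral.tower_top k
    have h : ((⊥ : Ideal (C ⧸ m)).comap (algebraMap R (C ⧸ m))).IsMaximal :=
      Ideal.isMaximal_comap_of_isIntegral_of_isMaximal _
    convert! h using 1
    show m.comap (algebraMap R C) = _
    rw [IsScalarTower.algebraMap_eq R C (C ⧸ m), ← Ideal.comap_comap, Ideal.Quotient.algebraMap_eq,
      ← RingHom.ker_eq_comap_bot, Ideal.mk_ker]
  have hle : (M.asIdeal).height ≤ m.height := by
    rw [Ideal.height_eq_height_add_of_liesOver_of_hasGoingDown M.asIdeal m]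
    exact le_self_add
  rw [M.height_eq_orderHeight, SmoothDim.height_maximal_mvPolynomial k 1 M hM] at hle
  by_contra hcon
  push Not at hcon
  have h0 : m.height = 0 := by
    rw [Ideal.height_eq_zero_iff]
    exact ⟨⟨hm.isPrime, bot_le⟩, fun P hP hPm => (hPm.eq_or_lt.resolve_right (hcon P hP.1)).ge⟩
  rw [h0] at hle
  simp at hle

/-- The local rings of a smooth curve algebra at maximal ideals are discrete valuation rings. -/
theorem ideal_localization (m : Ideal C) [m.IsMaximal] (J : Ideal (Localization.AtPrime m)) (hJ : J ≠ ⊥) :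
    ∃ z ∈ nonZeroDivisors (Localization.AtPrime m), J = Ideal.span {z} := by
  have hm : m.IsMaximal := inferInstance
  have : Nontrivial C := ⟨⟨0, 1, fun h => hm.ne_top (Ideal.eq_top_of_isUnit_mem m (x := (1:C)) (by rw [← h]; exact m.zero_mem) isUnit_one)⟩⟩
  have hstd : IsStandardSmooth k C := IsStandardSmoothOfRelativeDimension.isStandardSmooth 1
  have hreg := GrpSchLib.regular_of_isStandardSmooth k C m
  let R := Localization.AtPrime m
  have hdim : ringKrullDim R = 1 := by
    rw [IsLocalization.AtPrime.ringKrullDim_eq_height m R]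
    have h1 : (m.height : WithBot ℕ∞) ≤ 1 :=
      (Ideal.height_le_ringKrullDim_of_ne_top hm.ne_top).trans
        (SmoothDim.ringKrullDim_eq k C 1).le
    obtain ⟨P, hP, hPm⟩ := exists_prime_lt k m
    have h2 : 1 ≤ m.height := le_trans le_add_self (Ideal.height_add_one_le_of_lt_of_isPrime hPm)
    exact le_antisymm h1 (WithBot.coe_le_coe.2 h2)
  have h1 : (IsLocalRing.maximalIdeal R).spanFinrank = 1 := by
    have h := (isRegularLocalRing_iff _).1 hreg
    rw [hdim] at h
    exact_mod_cast h
  obtain ⟨⟨z, hz⟩⟩ := ((Submodule.spanFinrank_eq_one_iff _).1 h1).1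
  have hz' : IsLocalRing.maximalIdeal R = Ideal.span {z} := hz
  -- every nonzero element is a unit times a power of the uniformizer
  have key : ∀ x : R, x ≠ 0 → ∃ (j : ℕ) (v : Rˣ), x = z ^ j * v := by
    intro x hx
    by_contra hcon
    push Not at hcon
    have hall : ∀ j : ℕ, x ∈ IsLocalRing.maximalIdeal R ^ j := by
      intro j
      induction j with
      | zero => simp
      | succ j ih =>
        rw [hz', Ideal.span_singleton_pow, Ideal.mem_span_singleton] at ih ⊢
        obtain ⟨w, hw⟩ := ih
        by_cases hwu : IsUnit w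
        · exact absurd hw (hcon j hwu.unit)
        · have : w ∈ IsLocalRing.maximalIdeal R := hwu
          rw [hz', Ideal.mem_span_singleton] at this
          obtain ⟨w', rfl⟩ := this
          exact ⟨w', by rw [hw, pow_succ, mul_assoc]⟩
    have hbot := Ideal.iInf_pow_eq_bot_of_isLocalRing (IsLocalRing.maximalIdeal R)
      (IsLocalRing.maximalIdeal.isMaximal R).ne_top
    exact hx (by simpa [hbot] using (Ideal.mem_iInf.2 hall))
  have hnil : ∀ j : ℕ, z ^ j ≠ 0 := by
    intro j hj
    have hle : IsLocalRing.maximalIdeal R ≤ nilradical R := by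
      rw [hz', Ideal.span_le]
      rintro _ rfl
      exact ⟨j, hj⟩
    have : Ring.KrullDimLE 0 R := Ring.KrullDimLE.mk₀ fun P hP => by
      have : P = IsLocalRing.maximalIdeal R := le_antisymm (IsLocalRing.le_maximalIdeal hP.ne_top)
        (hle.trans (nilradical_le_prime P))
      rw [this]
      exact IsLocalRing.maximalIdeal.isMaximal R
    have := (Ring.krullDimLE_iff (n := 0)).1 this
    rw [hdim] at this
    exact absurd this (by simp)
  have hnzd : ∀ (j : ℕ) (v : Rˣ), z ^ j * v ∈ nonZeroDivisors R := by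
    intro j v
    refine mem_nonZeroDivisors_iff_right.2 fun w hw => ?_
    by_contra hw0
    obtain ⟨i, v', rfl⟩ := key w hw0
    refine hnil (i + j) ?_
    have : z ^ (i + j) * ↑(v' * v) = 0 := by rw [← hw, Units.val_mul, pow_add]; ring
    exact (Units.mul_left_eq_zero _).1 this
  classical
  have hex : ∃ j, z ^ j ∈ J := by
    obtain ⟨x, hx, hx0⟩ := J.exists_mem_ne_zero_of_ne_bot hJ
    obtain ⟨j, v, rfl⟩ := key x hx0
    exact ⟨j, (Ideal.mul_unit_mem_iff_mem J v.isUnit).1 hx⟩
  refine ⟨z ^ Nat.find hex, by simpa using hnzd (Nat.find hex) 1,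
    le_antisymm (fun x hx => ?_) (Ideal.span_le.2 (by simpa using Nat.find_spec hex))⟩
  by_cases hx0 : x = 0
  · simp [hx0]
  obtain ⟨j, v, rfl⟩ := key x hx0
  have hj := (Ideal.mul_unit_mem_iff_mem J v.isUnit).1 hx
  exact Ideal.mem_span_singleton.2 ((pow_dvd_pow z (Nat.find_min' hex hj)).mul_right _)

end Field

section Rel

variable {A B : Type u} [CommRing A] [CommRing B] [Algebra A B]
  [IsStandardSmoothOfRelativeDimension 1 A B]

/-- Transport of the quotient of a local ring along an equality of primes. -/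
noncomputable def quotCongr (p : Ideal A) {r q : Ideal B} [r.IsPrime] [q.IsPrime] (h : r = q) :
    Localization.AtPrime r ⧸ p.map (algebraMap A (Localization.AtPrime r)) ≃+*
      Localization.AtPrime q ⧸ p.map (algebraMap A (Localization.AtPrime q)) := by
  subst h
  exact RingEquiv.refl _

/-- The fibre of the local ring at a point maximal in its fibre. -/
theorem fibre_ideal (p : Ideal A) [p.IsPrime] (q : Ideal B) [q.IsPrime] [q.LiesOver p]
    (hmax : ∀ q' : Ideal B, q'.IsPrime → q'.LiesOver p → q ≤ q' → q' = q) :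
    (∃ P : Ideal B, P.IsPrime ∧ P.LiesOver p ∧ P < q) ∧
    ∀ J : Ideal (Localization.AtPrime q ⧸ p.map (algebraMap A (Localization.AtPrime q))), J ≠ ⊥ →
      ∃ z ∈ nonZeroDivisors (Localization.AtPrime q ⧸ p.map (algebraMap A (Localization.AtPrime q))),
        J = Ideal.span {z} := by
  let C := p.Fiber B
  let E := PrimeSpectrum.primesOverOrderIsoFiber A B p
  let qb : PrimeSpectrum C := E ⟨q, ⟨inferInstance, inferInstance⟩⟩
  have hqmax : qb.asIdeal.IsMaximal := by
    obtain ⟨M, hM, hle⟩ := Ideal.exists_le_maximal _ qb.isPrime.ne_top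
    let Q := E.symm ⟨M, hM.isPrime⟩
    have hle' : (⟨q, ⟨inferInstance, inferInstance⟩⟩ : p.primesOver B) ≤ Q := by
      rw [← E.le_iff_le, OrderIso.apply_symm_apply]
      exact hle
    have hQ : Q.1 = q := hmax Q.1 Q.2.1 Q.2.2 hle'
    have : qb = ⟨M, hM.isPrime⟩ := by
      rw [← E.apply_symm_apply ⟨M, hM.isPrime⟩]
      exact congrArg E (Subtype.ext hQ.symm)
    rw [this]
    exact hM
  have hr : qb.asIdeal.comap Algebra.TensorProduct.includeRight = q := by
    have := congrArg Subtype.val (E.symm_apply_apply ⟨q, ⟨inferInstance, inferInstance⟩⟩)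
    exact this
  refine ⟨?_, ?_⟩
  · obtain ⟨P, hP, hPlt⟩ := exists_prime_lt p.ResidueField qb.asIdeal
    let P' := E.symm ⟨P, hP⟩
    refine ⟨P'.1, P'.2.1, P'.2.2, ?_⟩
    have : P' < ⟨q, ⟨inferInstance, inferInstance⟩⟩ := by
      rw [← E.lt_iff_lt, OrderIso.apply_symm_apply]
      exact hPlt
    exact this
  · obtain ⟨e⟩ : Nonempty (Localization.AtPrime qb.asIdeal ≃+*
        Localization.AtPrime q ⧸ p.map (algebraMap A (Localization.AtPrime q))) := by
      have e := (Ideal.Fiber.algEquivAux₂ p qb.asIdeal).toRingEquiv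
      rw [Ideal.map_map, ← IsScalarTower.algebraMap_eq] at e
      exact ⟨e.trans (quotCongr p hr)⟩
    intro J hJ
    obtain ⟨z, hz, hJz⟩ := ideal_localization p.ResidueField qb.asIdeal (J.comap e.toRingHom) (by
      intro h
      refine hJ (eq_bot_iff.2 fun x hx => ?_)
      have : e.symm x ∈ J.comap e.toRingHom := by
        show e (e.symm x) ∈ J
        rwa [e.apply_symm_apply]
      rw [h, Ideal.mem_bot] at this
      simpa using congrArg e this)
    refine ⟨e z, mem_nonZeroDivisors_iff_right.2 fun w hw => e.symm.injective ?_, ?_⟩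
    · rw [map_zero]
      refine mem_nonZeroDivisors_iff_right.1 hz _ ?_
      have := congrArg e.symm hw
      rwa [map_mul, e.symm_apply_apply, map_zero] at this
    have := congrArg (Ideal.map e.toRingHom) hJz
    rw [Ideal.map_comap_of_surjective e.toRingHom e.surjective, Ideal.map_span, Set.image_singleton] at this
    exact this

theorem mem_smul_of_flat_quot {M : Type u} [CommRing M] [Algebra A M] (p : Ideal A) (K : Ideal M)
    [Module.Flat A (M ⧸ K)] {x : M} (hx : x ∈ p.map (algebraMap A M)) (hxK : x ∈ K) :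
    x ∈ p.map (algebraMap A M) * K := by
  classical
  rw [Ideal.map, Ideal.span, Submodule.mem_span_set'] at hx
  obtain ⟨n, c, a, hsum⟩ := hx
  choose a' ha' hae using fun i => (a i).2
  let xs : Fin n → M ⧸ K := fun i => Ideal.Quotient.mk K (c i)
  have hrel : ∑ i, a' i • xs i = 0 := by
    rw [show (0 : M ⧸ K) = Ideal.Quotient.mk K x from (Ideal.Quotient.eq_zero_iff_mem.2 hxK).symm, ← hsum,
      map_sum]
    refine Finset.sum_congr rfl fun i _ => ?_
    rw [smul_eq_mul, map_mul, ← hae i, Algebra.smul_def, mul_comm]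
    rfl
  obtain ⟨m, r, y, hy, hr⟩ := Module.Flat.isTrivialRelation_of_sum_smul_eq_zero (R := A) (M := M ⧸ K) hrel
  choose y' hy' using fun j => Ideal.Quotient.mk_surjective (y j)
  have hi : ∀ i, c i - ∑ j, r i j • y' j ∈ K := fun i => by
    rw [← Ideal.Quotient.eq_zero_iff_mem, map_sub, sub_eq_zero, map_sum]
    refine (hy i).trans (Finset.sum_congr rfl fun j _ => ?_)
    rw [Algebra.smul_def, Algebra.smul_def, map_mul, hy']
    rfl
  have h0 : ∑ i, algebraMap A M (a' i) * ∑ j, r i j • y' j = 0 := by
    calc ∑ i, algebraMap A M (a' i) * ∑ j, r i j • y' j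
        = ∑ j, ∑ i, algebraMap A M (a' i * r i j) * y' j := by
          rw [Finset.sum_comm]
          refine Finset.sum_congr rfl fun i _ => ?_
          rw [Finset.mul_sum]
          refine Finset.sum_congr rfl fun j _ => ?_
          rw [Algebra.smul_def, map_mul, mul_assoc]
      _ = 0 := Finset.sum_eq_zero fun j _ => by rw [← Finset.sum_mul, ← map_sum, hr j, map_zero, zero_mul]
  have hx' : x = ∑ i, algebraMap A M (a' i) * (c i - ∑ j, r i j • y' j) := by
    simp only [mul_sub]
    rw [Finset.sum_sub_distrib, h0, sub_zero, ← hsum]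
    refine Finset.sum_congr rfl fun i _ => ?_
    rw [smul_eq_mul, ← hae i, mul_comm]
  rw [hx']
  exact Submodule.sum_mem _ fun i _ => Ideal.mul_mem_mul (Ideal.mem_map_of_mem _ (ha' i)) (hi i)

theorem flat_map_quot {M : Type u} [CommRing M] [Algebra A M] (I : Ideal M) (T : Submonoid M) (N : Type u)
    [CommRing N] [Algebra M N] [Algebra A N] [IsScalarTower A M N] [IsLocalization T N] [Module.Flat A (M ⧸ I)] :
    Module.Flat A (N ⧸ I.map (algebraMap M N)) := by
  have : IsLocalization (Algebra.algebraMapSubmonoid (M ⧸ I) T) (N ⧸ I.map (algebraMap M N)) := inferInstance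
  have : IsScalarTower A (M ⧸ I) (N ⧸ I.map (algebraMap M N)) := IsScalarTower.to₁₃₄ A M _ _
  have := IsLocalization.flat (N ⧸ I.map (algebraMap M N)) (Algebra.algebraMapSubmonoid (M ⧸ I) T)
  exact Module.Flat.trans A (M ⧸ I) _

theorem univInj_injective {M N : Type u} [AddCommGroup M] [AddCommGroup N] [Module A M] [Module A N]
    {f : M →ₗ[A] N} (h : FlatCA.UnivInj A f) : Function.Injective f := fun x y hxy => by
  have h1 := h A (a₁ := (1 : A) ⊗ₜ[A] x) (a₂ := 1 ⊗ₜ[A] y) (by simp [hxy])
  simpa using congrArg (TensorProduct.lid A M) h1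

/-- Multiplication by `g` on the fibre of a local ring, through the quotient. -/
theorem fibre_mul_injective (p : Ideal A) [p.IsPrime] {q : Ideal B} [q.IsPrime] [q.LiesOver p] (g : B)
    (hg : Ideal.Quotient.mk (p.map (algebraMap A (Localization.AtPrime q)))
      (algebraMap B (Localization.AtPrime q) g) ∈ nonZeroDivisors _) :
    Function.Injective (((LinearMap.lsmul B (Localization.AtPrime q) g).restrictScalars A).lTensor p.ResidueField) := by
  let Bq := Localization.AtPrime q
  let pB := p.map (algebraMap A Bq)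
  -- every element of the fibre is of the form `1 ⊗ b`
  have hform : ∀ x : p.ResidueField ⊗[A] Bq, ∃ b : Bq, x = 1 ⊗ₜ b := by
    intro x
    obtain ⟨r, hr, b, hb⟩ := Ideal.Fiber.exists_smul_eq_one_tmul p x
    obtain ⟨v, hv⟩ : IsUnit (algebraMap A Bq r) := by
      rw [IsScalarTower.algebraMap_apply A B Bq]
      exact IsLocalization.map_units Bq (M := q.primeCompl) ⟨algebraMap A B r, show algebraMap A B r ∉ q from fun h => hr (by rw [Ideal.over_def q p]; exact h)⟩
    have hkey : ∀ y : p.ResidueField ⊗[A] Bq,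
        ((LinearMap.lsmul Bq Bq ↑v⁻¹).restrictScalars A).lTensor p.ResidueField (r • y) = y := fun y => by
      induction y with
      | zero => simp
      | add a b ha hb => rw [smul_add, map_add, ha, hb]
      | tmul c w =>
        rw [← tmul_smul, LinearMap.lTensor_tmul, LinearMap.restrictScalars_apply, LinearMap.lsmul_apply,
          smul_eq_mul, Algebra.smul_def r w, ← hv, Units.inv_mul_cancel_left]
    exact ⟨↑v⁻¹ * b, by rw [← hkey x, hb, LinearMap.lTensor_tmul]; rfl⟩
  -- the map to the quotient
  have hzero : ∀ b : Bq, b ∈ pB → (1 : p.ResidueField) ⊗ₜ[A] b = 0 := by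
    intro b hb
    induction hb using Submodule.span_induction with
    | mem w hw =>
      obtain ⟨a, ha, rfl⟩ := hw
      rw [Algebra.algebraMap_eq_smul_one, tmul_smul, smul_tmul',
        show a • (1 : p.ResidueField) = 0 from by
          rw [← Algebra.algebraMap_eq_smul_one, Ideal.algebraMap_residueField_eq_zero]; exact ha,
        zero_tmul]
    | zero => simp
    | add a b _ _ ha hb => rw [tmul_add, ha, hb, add_zero]
    | smul t w _ hw =>
      have := congrArg (((LinearMap.lsmul Bq Bq t).restrictScalars A).lTensor p.ResidueField) hw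
      rw [map_zero, LinearMap.lTensor_tmul] at this
      exact this
  let φ₀ : p.ResidueField →ₐ[A] Bq ⧸ pB :=
    Ideal.ResidueField.liftₐ p (Algebra.ofId A _) (fun a ha => by
      show algebraMap A (Bq ⧸ pB) a = 0
      rw [IsScalarTower.algebraMap_apply A Bq, Ideal.Quotient.algebraMap_eq, Ideal.Quotient.eq_zero_iff_mem]
      exact Ideal.mem_map_of_mem _ ha) (fun r hr => by
      show IsUnit (algebraMap A (Bq ⧸ pB) r)
      rw [IsScalarTower.algebraMap_apply A Bq]
      refine IsUnit.map _ ?_
      rw [IsScalarTower.algebraMap_apply A B Bq]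
      exact IsLocalization.map_units Bq (M := q.primeCompl) ⟨algebraMap A B r, show algebraMap A B r ∉ q from fun h => hr (by rw [Ideal.over_def q p]; exact h)⟩)
  let Φ := Algebra.TensorProduct.lift φ₀ (Ideal.Quotient.mkₐ A pB) fun _ _ => .all _ _
  rw [injective_iff_map_eq_zero]
  intro x hx
  obtain ⟨b, rfl⟩ := hform x
  rw [LinearMap.lTensor_tmul] at hx
  have h1 : Ideal.Quotient.mk pB (algebraMap B Bq g * b) = 0 := by
    have := congrArg Φ hx
    rwa [map_zero, Algebra.TensorProduct.lift_tmul, map_one, one_mul, LinearMap.restrictScalars_apply,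
      LinearMap.lsmul_apply, Algebra.smul_def] at this
  rw [map_mul] at h1
  exact hzero b (Ideal.Quotient.eq_zero_iff_mem.1 (mem_nonZeroDivisors_iff_right.1 hg _ (by rw [mul_comm]; exact h1)))

/-- The main local statement. -/
theorem exists_generator (I : Ideal B) (hI : I.FG) [Module.Flat A (B ⧸ I)] [QuasiFinite A (B ⧸ I)]
    (q : Ideal B) [q.IsPrime] (hq : I ≤ q) :
    ∃ g ∈ I, I.map (algebraMap B (Localization.AtPrime q)) = Ideal.span {algebraMap B _ g} ∧
      algebraMap B (Localization.AtPrime q) g ∈ nonZeroDivisors (Localization.AtPrime q) := by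
  have : IsStandardSmooth A B := IsStandardSmoothOfRelativeDimension.isStandardSmooth 1
  have : Algebra.FinitePresentation A B := inferInstance
  have : Module.Flat A B := inferInstance
  let p := q.under A
  have heq : ∀ q' q'' : Ideal B, q'.IsPrime → q''.IsPrime → q'.LiesOver p → q''.LiesOver p → I ≤ q' →
      q' ≤ q'' → q'' = q' := by
    intro q' q'' _ _ _ _ hI' hle
    have hI'' := hI'.trans hle
    have : (q'.map (Ideal.Quotient.mk I)).IsPrime :=
      Ideal.map_isPrime_of_surjective Ideal.Quotient.mk_surjective (by rwa [Ideal.mk_ker])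
    have : (q''.map (Ideal.Quotient.mk I)).IsPrime :=
      Ideal.map_isPrime_of_surjective Ideal.Quotient.mk_surjective (by rwa [Ideal.mk_ker])
    have hc : ∀ {Q : Ideal B}, I ≤ Q → (Q.map (Ideal.Quotient.mk I)).comap (Ideal.Quotient.mk I) = Q :=
      fun {Q} hQ => by rw [Ideal.comap_map_of_surjective _ Ideal.Quotient.mk_surjective, ← RingHom.ker_eq_comap_bot,
        Ideal.mk_ker, sup_eq_left.2 hQ]
    have h := Algebra.QuasiFinite.eq_of_le_of_under_eq (R := A) _ _ (Ideal.map_mono (f := Ideal.Quotient.mk I) hle) (by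
      show Ideal.comap _ _ = Ideal.comap _ _
      rw [IsScalarTower.algebraMap_eq A B (B ⧸ I), Ideal.Quotient.algebraMap_eq, ← Ideal.comap_comap,
        ← Ideal.comap_comap, hc hI', hc hI'']
      exact (Ideal.over_def q' p).symm.trans (Ideal.over_def q'' p))
    rw [← hc hI'', ← h, hc hI']
  obtain ⟨⟨P, hP, hPo, hPlt⟩, hfib⟩ := fibre_ideal p q fun q' _ _ hle =>
    heq q q' inferInstance inferInstance inferInstance inferInstance hq hle
  let Bq := Localization.AtPrime q
  let K := I.map (algebraMap B Bq)
  let pB := p.map (algebraMap A Bq)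
  let π := Ideal.Quotient.mk pB
  have hKne : K.map π ≠ ⊥ := by
    intro h
    refine (hPlt.ne (heq P q hP inferInstance hPo inferInstance ?_ hPlt.le).symm)
    intro x hx
    have hxp : algebraMap B Bq x ∈ pB := Ideal.Quotient.eq_zero_iff_mem.1
      (by have := Ideal.mem_map_of_mem π (Ideal.mem_map_of_mem (algebraMap B Bq) hx); rwa [h] at this)
    rw [show pB = (p.map (algebraMap A B)).map (algebraMap B Bq) by
      rw [Ideal.map_map, ← IsScalarTower.algebraMap_eq], IsLocalization.algebraMap_mem_map_algebraMap_iff q.primeCompl] at hxp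
    obtain ⟨s, hs, hsx⟩ := hxp
    refine (hP.mem_or_mem (Ideal.map_le_iff_le_comap.2 (Ideal.over_def P p).le hsx)).resolve_left ?_
    exact fun h' => hs (hPlt.le h')
  obtain ⟨z, hz, hKz⟩ := hfib _ hKne
  -- lift the generator to an element of `I`
  obtain ⟨g', hg', hg'z⟩ := (Ideal.mem_map_iff_of_surjective π Ideal.Quotient.mk_surjective).1
    (hKz ▸ Ideal.mem_span_singleton_self z)
  obtain ⟨⟨⟨g, hg⟩, s⟩, hgs⟩ := (IsLocalization.mem_map_algebraMap_iff q.primeCompl Bq).1 hg'
  obtain ⟨v, hv⟩ : IsUnit (algebraMap B Bq (s : B)) := IsLocalization.map_units Bq s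
  have hgπ : π (algebraMap B Bq g) = z * π v := by rw [← hgs, map_mul, hg'z, hv]
  have hgnzd : π (algebraMap B Bq g) ∈ nonZeroDivisors _ := by
    rw [hgπ]; exact mul_mem hz ((v.map π.toMonoidHom).isUnit.mem_nonZeroDivisors)
  have hsp : K ≤ Ideal.span {algebraMap B Bq g} := by
    have hFG : K.FG := hI.map _
    refine Submodule.le_of_le_smul_of_le_jacobson_bot (I := pB) hFG ?_ ?_
    · refine le_trans ?_ (IsLocalRing.maximalIdeal_le_jacobson _)
      refine Ideal.map_le_iff_le_comap.2 fun a ha => ?_
      rw [Ideal.mem_comap, IsScalarTower.algebraMap_apply A B Bq,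
        IsLocalization.AtPrime.to_map_mem_maximal_iff Bq q]
      exact ha
    · intro x hx
      obtain ⟨c, hc⟩ : π (algebraMap B Bq g) ∣ π x := by
        rw [hgπ, (v.isUnit.map π).mul_right_dvd]
        exact Ideal.mem_span_singleton.1 (hKz ▸ Ideal.mem_map_of_mem π hx)
      obtain ⟨c, rfl⟩ := Ideal.Quotient.mk_surjective c
      rw [← map_mul, Ideal.Quotient.eq] at hc
      have : Module.Flat A (Bq ⧸ K) := flat_map_quot I q.primeCompl Bq
      have h2 := mem_smul_of_flat_quot p K hc
        (K.sub_mem hx (K.mul_mem_right _ (Ideal.mem_map_of_mem _ hg)))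
      rw [← sub_add_cancel x (algebraMap B Bq g * c), add_comm]
      exact Submodule.add_mem_sup (Ideal.mem_span_singleton.2 ⟨c, rfl⟩) h2
  refine ⟨g, hg, le_antisymm hsp (Ideal.span_le.2 (by simpa using Ideal.mem_map_of_mem _ hg)), ?_⟩
  -- regularity
  haveI : Module.FinitePresentation B B := Module.finitePresentation_of_projective B B
  let u : Bq →ₗ[B] Bq := LinearMap.lsmul B Bq g
  have hu : Function.Injective ((u.restrictScalars A).lTensor p.ResidueField) := fibre_mul_injective p g hgnzd
  have hinj := RGCore.univInj_localized (A := A) q p (N₀ := B) (Algebra.linearMap B Bq) u hu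
  refine mem_nonZeroDivisors_iff_right.2 fun w hw => ?_
  refine univInj_injective hinj ?_
  rw [map_zero]
  show g • w = 0
  rw [Algebra.smul_def, mul_comm, hw]

/-- A nonzerodivisor with flat cokernel cuts out a quasi-finite subscheme of a smooth relative curve. -/
theorem quasiFinite_quot (g : B) (hg : g ∈ nonZeroDivisors B) [Module.Flat A (B ⧸ Ideal.span {g})] :
    QuasiFinite A (B ⧸ Ideal.span {g}) := by
  refine ⟨fun P _ => ?_⟩
  let C := P.Fiber B
  let φ : C →ₐ[P.ResidueField] P.Fiber (B ⧸ Ideal.span {g}) :=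
    Algebra.TensorProduct.map (AlgHom.id P.ResidueField P.ResidueField) (Ideal.Quotient.mkₐ A (Ideal.span {g}))
  have hφs : Function.Surjective φ := fun x => by
    induction x using TensorProduct.induction_on with
    | zero => exact ⟨0, map_zero _⟩
    | add a b ha hb =>
      obtain ⟨a', rfl⟩ := ha
      obtain ⟨b', rfl⟩ := hb
      exact ⟨a' + b', map_add _ _ _⟩
    | tmul c w =>
      obtain ⟨w, rfl⟩ := Ideal.Quotient.mk_surjective w
      exact ⟨c ⊗ₜ w, rfl⟩
  let gC : C := 1 ⊗ₜ[A] g
  let μ : B →ₗ[A] B := LinearMap.mulLeft A g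
  have hμ : Function.Injective μ := fun a b h => by
    rw [← sub_eq_zero]
    exact mem_nonZeroDivisors_iff_right.1 hg _ (by rw [sub_mul, mul_comm a, mul_comm b, sub_eq_zero]; exact h)
  have hexact : Function.Exact μ (Ideal.Quotient.mkₐ A (Ideal.span {g})).toLinearMap := fun w => by
    show Ideal.Quotient.mk _ w = 0 ↔ _
    rw [Ideal.Quotient.eq_zero_iff_mem, Ideal.mem_span_singleton]
    exact ⟨fun ⟨c, hc⟩ => ⟨c, hc.symm⟩, fun ⟨c, hc⟩ => ⟨c, hc.symm⟩⟩
  have hμC : ∀ y : C, μ.lTensor P.ResidueField y = gC * y := fun y => by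
    induction y using TensorProduct.induction_on with
    | zero => simp
    | add a b ha hb => rw [map_add, ha, hb, mul_add]
    | tmul c w =>
      show c ⊗ₜ[A] (g * w) = (1 ⊗ₜ[A] g : P.Fiber B) * c ⊗ₜ[A] w
      rw [Algebra.TensorProduct.tmul_mul_tmul, one_mul]
  have hinj := LinearMap.lTensor_injective_of_exact_of_flat (Ideal.Quotient.mkₐ A (Ideal.span {g})).toLinearMap
    Ideal.Quotient.mk_surjective μ hμ hexact P.ResidueField
  have hgC : gC ∈ nonZeroDivisors C := mem_nonZeroDivisors_iff_right.2 fun y hy =>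
    hinj (by rw [map_zero, hμC, mul_comm, hy])
  rcases subsingleton_or_nontrivial C with hC | hC
  · have : Subsingleton (P.Fiber (B ⧸ Ideal.span {g})) := hφs.subsingleton
    infer_instance
  have hdim : ringKrullDim (C ⧸ Ideal.span {gC}) ≤ 0 := by
    have h := ringKrullDim_quotient_succ_le_of_nonZeroDivisor hgC
    rw [SmoothDim.ringKrullDim_eq P.ResidueField C 1] at h
    exact (WithBot.add_le_add_iff_right' (c := (1 : WithBot ℕ∞)) (by simp) (by exact ne_of_beq_false rfl)).1 (by simpa using h)
  have : Ring.KrullDimLE 0 (C ⧸ Ideal.span {gC}) := Ring.krullDimLE_iff.2 hdim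
  have : IsStandardSmooth A B := IsStandardSmoothOfRelativeDimension.isStandardSmooth 1
  have : IsNoetherianRing C := Algebra.FiniteType.isNoetherianRing P.ResidueField C
  have : IsArtinianRing (C ⧸ Ideal.span {gC}) :=
    (isArtinianRing_iff_isNoetherianRing_krullDimLE_zero (R := C ⧸ Ideal.span {gC})).2 ⟨inferInstance, inferInstance⟩
  let ψ := Ideal.Quotient.lift (Ideal.span {gC}) φ.toRingHom fun a ha => by
    obtain ⟨c, rfl⟩ := Ideal.mem_span_singleton.1 ha
    have h0 : φ gC = 0 := by
      show (1 : P.ResidueField) ⊗ₜ[A] Ideal.Quotient.mk (Ideal.span {g}) g = 0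
      rw [Ideal.Quotient.eq_zero_iff_mem.2 (Ideal.mem_span_singleton_self g), tmul_zero]
    show φ (gC * c) = 0
    rw [map_mul, h0, zero_mul]
  have : IsArtinianRing (P.Fiber (B ⧸ Ideal.span {g})) :=
    Function.Surjective.isArtinianRing (f := ψ) (Ideal.Quotient.lift_surjective_of_surjective _ _ hφs)
  have : Algebra.FiniteType P.ResidueField (P.Fiber (B ⧸ Ideal.span {g})) :=
    Algebra.FiniteType.of_surjective φ hφs
  exact (Module.finite_iff_isArtinianRing P.ResidueField (P.Fiber (B ⧸ Ideal.span {g}))).2 inferInstance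

end Rel

end Groth.Agent.Grass60.CurveAlg
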