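import Groth.Agent.Grass60.CurveAlg
import Groth.Agent.FlatX.RelCartier
import Groth.Prelude.Def_Mor2
import Mathlib.AlgebraicGeometry.Morphisms.QuasiFinite

/-!
Relative effective Cartier divisors on smooth relative curves.
-/

set_option autoImplicit false
set_option backward.isDefEq.respectTransparency false
set_option linter.style.haveILetI false

universe u

open CategoryTheory AlgebraicGeometry

namespace Groth.Agent.Grass60.CurveDiv

open Groth.Agent.FlatX

variable {X S : Scheme.{u}} (f : X ⟶ S)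

theorem quotApp_iff {Q : ∀ {R S : Type u} [CommRing R] [CommRing S], (R →+* S) → Prop}
    (hQ : RingHom.RespectsIso Q) (I : X.IdealSheafData) (W : S.affineOpens) (U : X.affineOpens)
    (e : U.1 ≤ f ⁻¹ᵁ W.1) :
    Q ((I.subschemeι ≫ f).appLE W.1 (I.subschemeι ⁻¹ᵁ U.1) (fun _ hy => e hy)).hom ↔
      Q (quotApp f I W U e) := by
  let ψ := (RingHom.quotientKerEquivOfSurjective (I.subschemeι_app_surjective U))
  have h1 : ((I.subschemeι ≫ f).appLE W.1 (I.subschemeι ⁻¹ᵁ U.1) (fun _ hy => e hy)).hom =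
      ((ψ : _ →+* _).comp (Ideal.quotEquivOfEq (I.ker_subschemeι_app U)).symm.toRingHom).comp
        (quotApp f I W U e) := by
    rw [show (I.subschemeι ≫ f).appLE W.1 (I.subschemeι ⁻¹ᵁ U.1) (fun _ hy => e hy) =
      f.appLE W.1 U.1 e ≫ I.subschemeι.app U.1 by
        rw [Scheme.Hom.app_eq_appLE, Scheme.Hom.appLE_comp_appLE]]
    ext y
    rfl
  rw [h1]
  let E := (Ideal.quotEquivOfEq (I.ker_subschemeι_app U)).symm.trans ψ
  refine ⟨fun h => ?_, fun h => hQ.1 _ E h⟩
  have h' := hQ.1 _ E.symm h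
  convert h' using 1
  ext y
  exact (E.symm_apply_apply _).symm

theorem quotApp_of {P : MorphismProperty Scheme.{u}} {Q : ∀ {R S : Type u} [CommRing R] [CommRing S], (R →+* S) → Prop}
    [HasRingHomProperty P Q] (I : X.IdealSheafData) (h : P (I.subschemeι ≫ f)) (W : S.affineOpens)
    (U : X.affineOpens) (e : U.1 ≤ f ⁻¹ᵁ W.1) : Q (quotApp f I W U e) :=
  (quotApp_iff f (HasRingHomProperty.isLocal_ringHomProperty P).respectsIso I W U e).1
    (HasRingHomProperty.appLE P (I.subschemeι ≫ f) h W ⟨_, U.2.preimage I.subschemeι⟩ _)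

theorem of_quotApp {P : MorphismProperty Scheme.{u}} {Q : ∀ {R S : Type u} [CommRing R] [CommRing S], (R →+* S) → Prop}
    [HasRingHomProperty P Q] (hQ : RingHom.StableUnderCompositionWithLocalizationAwaySource Q) (I : X.IdealSheafData)
    (h : ∀ x : X, ∃ (W : S.affineOpens) (U : X.affineOpens) (e : U.1 ≤ f ⁻¹ᵁ W.1),
      x ∈ U.1 ∧ Q (quotApp f I W U e)) : P (I.subschemeι ≫ f) := by
  rw [HasRingHomProperty.iff_exists_appLE (P := P) hQ]
  intro d
  obtain ⟨W, U, e, hdU, hU⟩ := h (I.subschemeι d)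
  exact ⟨W, ⟨_, U.2.preimage I.subschemeι⟩, hdU, fun _ hy => e hy,
    (quotApp_iff f (HasRingHomProperty.isLocal_ringHomProperty P).respectsIso I W U e).mpr hU⟩

variable [SmoothOfRelativeDimension 1 f]

theorem exists_stdChart (x : X) {O : X.Opens} (hx : x ∈ O) :
    ∃ (W : S.affineOpens) (U : X.affineOpens) (e : U.1 ≤ f ⁻¹ᵁ W.1),
      x ∈ U.1 ∧ U.1 ≤ O ∧ (f.appLE W.1 U.1 e).hom.IsStandardSmoothOfRelativeDimension 1 := by
  obtain ⟨W, hW, V, hV, hxV, e, h⟩ :=
    SmoothOfRelativeDimension.exists_isStandardSmoothOfRelativeDimension (n := 1) (f := f) x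
  obtain ⟨r, hr, hxr⟩ := hV.exists_basicOpen_le (V := O) ⟨x, hx⟩ hxV
  refine ⟨⟨W, hW⟩, X.affineBasicOpen (U := ⟨V, hV⟩) r, (X.basicOpen_le r).trans e, hxr, hr, ?_⟩
  haveI := hV.isLocalization_basicOpen r
  have h2 := (RingHom.isStandardSmoothOfRelativeDimension_stableUnderCompositionWithLocalizationAway 1).right
    Γ(X, X.basicOpen r) r (f.appLE W V e).hom h
  show (f.appLE W (X.basicOpen r) ((X.basicOpen_le r).trans e)).hom.IsStandardSmoothOfRelativeDimension 1
  rw [← Scheme.Hom.appLE_map f e (homOfLE (X.basicOpen_le r)).op]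
  exact h2

/-- A closed subscheme flat, quasi-finite and of finite presentation over the base is an effective
Cartier divisor. -/
theorem isEffCartierIdeal (I : X.IdealSheafData) (hfl : Flat (I.subschemeι ≫ f))
    (hqf : LocallyQuasiFinite (I.subschemeι ≫ f)) (hfp : LocallyOfFinitePresentation (I.subschemeι ≫ f)) :
    BlowUp.IsEffCartierIdeal I := by
  intro x
  obtain ⟨W, U, e, hxU, -, hstd⟩ := exists_stdChart f x (O := ⊤) trivial
  have h1 := flat_quotApp f I hfl W U e
  have h2 : (quotApp f I W U e).QuasiFinite := quotApp_of (P := @LocallyQuasiFinite) f I hqf W U e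
  have h3 : (quotApp f I W U e).FinitePresentation := quotApp_of (P := @LocallyOfFinitePresentation) f I hfp W U e
  let A := Γ(S, W.1)
  let B := Γ(X, U.1)
  letI := (f.appLE W.1 U.1 e).hom.toAlgebra
  haveI : Algebra.IsStandardSmoothOfRelativeDimension 1 A B := hstd
  haveI : Algebra.IsStandardSmooth A B := Algebra.IsStandardSmoothOfRelativeDimension.isStandardSmooth 1
  haveI : Module.Flat A (B ⧸ I.ideal U) := RingHom.flat_algebraMap_iff.1 h1
  haveI : Algebra.QuasiFinite A (B ⧸ I.ideal U) := RingHom.quasiFinite_algebraMap.1 h2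
  haveI : Algebra.FinitePresentation A (B ⧸ I.ideal U) := RingHom.finitePresentation_algebraMap.1 h3
  have hI : (I.ideal U).FG := by
    have := Algebra.FinitePresentation.ker_fG_of_surjective (Ideal.Quotient.mkₐ A (I.ideal U))
      Ideal.Quotient.mk_surjective
    rwa [show RingHom.ker (Ideal.Quotient.mkₐ A (I.ideal U)).toRingHom = I.ideal U from Ideal.mk_ker] at this
  let q := (U.2.primeIdealOf ⟨x, hxU⟩).asIdeal
  -- a generator away from an element outside `q`
  obtain ⟨g, hg, h, hh, hgen⟩ : ∃ g : B, (g ∈ I.ideal U ∨ g = 1) ∧ ∃ h ∉ q,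
      (∀ y ∈ I.ideal U, h * y ∈ Ideal.span {g}) ∧ (g = 1 → h ∈ I.ideal U) := by
    by_cases hIq : I.ideal U ≤ q
    · obtain ⟨g, hg, hspan, hnzd⟩ := CurveAlg.exists_generator (A := A) (I.ideal U) hI q hIq
      obtain ⟨Y, hY⟩ := hI
      have hy : ∀ y ∈ I.ideal U, ∃ s ∉ q, s * y ∈ Ideal.span {g} := fun y hy => by
        have h := Ideal.mem_map_of_mem (algebraMap B (Localization.AtPrime q)) hy
        rw [hspan, ← Set.image_singleton, ← Ideal.map_span,
          IsLocalization.algebraMap_mem_map_algebraMap_iff q.primeCompl] at h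
        exact h
      have hg1 : g ≠ 1 := fun h => (U.2.primeIdealOf ⟨x, hxU⟩).2.one_notMem (hIq (h ▸ hg))
      choose! s hs hsy using hy
      refine ⟨g, Or.inl hg, ∏ y ∈ Y, s y, fun hmem => ?_, fun y hy' => ?_, fun h => absurd h hg1⟩
      · obtain ⟨y, hyY, hsyq⟩ := ((U.2.primeIdealOf ⟨x, hxU⟩).2.prod_mem_iff).1 hmem
        exact hs y (hY ▸ Ideal.subset_span hyY) hsyq
      · rw [← hY] at hy'
        induction hy' using Submodule.span_induction with
        | mem y hy' =>
          obtain ⟨c, hc⟩ := Finset.dvd_prod_of_mem s hy'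
          rw [hc, mul_right_comm]
          exact Ideal.mul_mem_right _ _ (hsy y (hY ▸ Ideal.subset_span hy'))
        | zero => simp
        | add a b _ _ ha hb => rw [mul_add]; exact add_mem ha hb
        | smul t a _ ha => rw [smul_eq_mul, mul_left_comm]; exact Ideal.mul_mem_left _ _ ha
    · obtain ⟨h, hhI, hhq⟩ := SetLike.not_le_iff_exists.1 hIq
      exact ⟨1, Or.inr rfl, h, hhq, fun y _ => by simp, fun _ => hhI⟩
  refine ⟨X.affineBasicOpen h, ?_, ?_⟩
  · show x ∈ X.basicOpen h
    have h5 : U.2.primeIdealOf ⟨x, hxU⟩ ∈ U.2.fromSpec ⁻¹ᵁ X.basicOpen h := by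
      rw [U.2.fromSpec_preimage_basicOpen]
      exact hh
    have h6 := U.2.fromSpec_primeIdealOf ⟨x, hxU⟩
    rw [Scheme.Hom.mem_preimage, h6] at h5
    exact h5
  haveI := U.2.isLocalization_basicOpen h
  let Bh : Type u := Γ(X, X.basicOpen h)
  show ∃ a : Bh, a ∈ nonZeroDivisors Bh ∧ I.ideal (X.affineBasicOpen h) = Ideal.span {a}
  refine ⟨algebraMap B Bh g, mem_nonZeroDivisors_iff_right.2 fun z hz => ?_, ?_⟩
  · obtain ⟨⟨b, s⟩, hbs⟩ := IsLocalization.surj (Submonoid.powers h) z
    obtain ⟨⟨-, j, rfl⟩, hj⟩ := (IsLocalization.map_eq_zero_iff (Submonoid.powers h) Bh (b * g)).1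
      (by rw [map_mul, ← hbs, mul_right_comm, hz, zero_mul])
    have hb0 : algebraMap B Bh b = 0 := by
      let J : Ideal B := LinearMap.ker (LinearMap.toSpanSingleton B B (h ^ j * b))
      have hrad : h ∈ J.radical := by
        rw [Ideal.radical_eq_sInf, Ideal.mem_sInf]
        rintro Q ⟨hJQ, hQ⟩
        by_contra hhQ
        have hnzd : algebraMap B (Localization.AtPrime Q) g ∈ nonZeroDivisors (Localization.AtPrime Q) := by
          by_cases hgQ : g ∈ Q
          · have hIQ : I.ideal U ≤ Q := fun y hy => (hQ.mem_or_mem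
              (Ideal.span_le.2 (by simpa using hgQ) (hgen.1 y hy))).resolve_left hhQ
            obtain ⟨g', hg', hspan, hnzd⟩ := CurveAlg.exists_generator (A := A) (I.ideal U) hI Q hIQ
            obtain ⟨c, hc⟩ := Ideal.mem_span_singleton.1 (hgen.1 g' hg')
            obtain ⟨v, hv⟩ : IsUnit (algebraMap B (Localization.AtPrime Q) h) :=
              IsLocalization.map_units (Localization.AtPrime Q) (⟨h, hhQ⟩ : Q.primeCompl)
            have hne : g ∈ I.ideal U := hg.resolve_right fun h1 => hQ.one_notMem (h1 ▸ hgQ)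
            refine mem_nonZeroDivisors_iff_right.2 fun w hw => ?_
            refine mem_nonZeroDivisors_iff_right.1 hnzd w ?_
            have h' := congrArg (algebraMap B (Localization.AtPrime Q)) hc
            rw [map_mul, map_mul, ← hv] at h'
            rw [← v.mul_right_eq_zero, mul_left_comm, h', ← mul_assoc, hw, zero_mul]
          · exact (IsLocalization.map_units (Localization.AtPrime Q) (⟨g, hgQ⟩ : Q.primeCompl)).mem_nonZeroDivisors
        have h0 : algebraMap B (Localization.AtPrime Q) (h ^ j * b) = 0 := by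
          refine mem_nonZeroDivisors_iff_right.1 hnzd _ ?_
          rw [← map_mul, mul_assoc, hj, map_zero]
        obtain ⟨t, ht⟩ := (IsLocalization.map_eq_zero_iff Q.primeCompl _ _).1 h0
        exact t.2 (hJQ (show (t : B) * (h ^ j * b) = 0 from ht))
      obtain ⟨i, hi⟩ := hrad
      have hi' : h ^ i * (h ^ j * b) = 0 := hi
      exact (IsLocalization.map_eq_zero_iff (Submonoid.powers h) Bh b).2
        ⟨⟨h ^ (i + j), i + j, rfl⟩, (show h ^ (i + j) * b = 0 by rw [pow_add, mul_assoc]; exact hi')⟩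
    rw [hb0] at hbs
    exact (IsLocalization.map_units Bh s).mul_left_eq_zero.1 hbs
  · rw [show I.ideal (X.affineBasicOpen h) = (I.ideal U).map (algebraMap B Bh) from (I.map_ideal_basicOpen U h).symm]
    refine le_antisymm (Ideal.map_le_iff_le_comap.2 fun y hy => ?_) (Ideal.span_le.2 ?_)
    · obtain ⟨c, hc⟩ := Ideal.mem_span_singleton.1 (hgen.1 y hy)
      have hu : IsUnit (algebraMap B Bh h) :=
        IsLocalization.map_units Bh (⟨h, 1, pow_one h⟩ : Submonoid.powers h)
      rw [Ideal.mem_comap, ← Ideal.unit_mul_mem_iff_mem _ hu, ← map_mul, hc, map_mul]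
      exact Ideal.mul_mem_right _ _ (Ideal.mem_span_singleton_self _)
    · rw [Set.singleton_subset_iff, SetLike.mem_coe]
      rcases hg with hg | hg
      · exact Ideal.mem_map_of_mem _ hg
      · have h4 := Ideal.mem_map_of_mem (algebraMap B Bh) (hgen.2 hg)
        rw [Ideal.eq_top_of_isUnit_mem _ h4 (IsLocalization.map_units Bh (⟨h, 1, pow_one h⟩ : Submonoid.powers h))]
        trivial

/-- An effective Cartier divisor flat over the base is quasi-finite and of finite presentation. -/
theorem qf_lfp (I : X.IdealSheafData) (hI : BlowUp.IsEffCartierIdeal I) (hfl : Flat (I.subschemeι ≫ f)) :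
    LocallyQuasiFinite (I.subschemeι ≫ f) ∧ LocallyOfFinitePresentation (I.subschemeι ≫ f) := by
  have key : ∀ x : X, ∃ (W : S.affineOpens) (U : X.affineOpens) (e : U.1 ≤ f ⁻¹ᵁ W.1),
      x ∈ U.1 ∧ (quotApp f I W U e).QuasiFinite ∧ (quotApp f I W U e).FinitePresentation := by
    intro x
    obtain ⟨W, V, e, hxV, -, hstd⟩ := exists_stdChart f x (O := ⊤) trivial
    obtain ⟨U, hxU, hUV, hgen⟩ := exists_locGen hI hxV
    obtain ⟨c, c', hcc, hxc⟩ := exists_basicOpen_le_affine_inter U.2 V.2 x ⟨hxU, hxV⟩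
    have hUeq : X.affineBasicOpen c = X.affineBasicOpen c' := Subtype.ext hcc
    haveI := V.2.isLocalization_basicOpen c'
    have e' : (X.affineBasicOpen c').1 ≤ f ⁻¹ᵁ W.1 := (X.basicOpen_le c').trans e
    have hstd' : (f.appLE W.1 (X.affineBasicOpen c').1 e').hom.IsStandardSmoothOfRelativeDimension 1 := by
      have h2 := (RingHom.isStandardSmoothOfRelativeDimension_stableUnderCompositionWithLocalizationAway 1).right
        Γ(X, X.basicOpen c') c' (f.appLE W.1 V.1 e).hom hstd
      rw [show f.appLE W.1 (X.affineBasicOpen c').1 e' = f.appLE W.1 V.1 e ≫ X.presheaf.map (homOfLE (X.basicOpen_le c')).op from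
        (Scheme.Hom.appLE_map f e _).symm]
      exact h2
    obtain ⟨a, ha, hIa⟩ : LocGen I (X.affineBasicOpen c') := hUeq ▸ LocGen.basicOpen hgen c
    refine ⟨W, X.affineBasicOpen c', e', ?_, ?_⟩
    · show x ∈ X.basicOpen c'
      exact hcc ▸ hxc
    generalize X.affineBasicOpen c' = U' at e' hstd' a ha hIa
    letI := (f.appLE W.1 U'.1 e').hom.toAlgebra
    haveI : Algebra.IsStandardSmoothOfRelativeDimension 1 Γ(S, W.1) Γ(X, U'.1) := hstd'
    haveI : Algebra.IsStandardSmooth Γ(S, W.1) Γ(X, U'.1) :=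
      Algebra.IsStandardSmoothOfRelativeDimension.isStandardSmooth 1
    haveI : Module.Flat Γ(S, W.1) (Γ(X, U'.1) ⧸ Ideal.span {a}) :=
      RingHom.flat_algebraMap_iff.1 (flat_congr _ hIa (flat_quotApp f I hfl W U' e'))
    haveI := CurveAlg.quasiFinite_quot (A := Γ(S, W.1)) a ha
    rw [show quotApp f I W U' e' = algebraMap Γ(S, W.1) (Γ(X, U'.1) ⧸ I.ideal U') from rfl]
    rw [hIa, RingHom.quasiFinite_algebraMap, RingHom.finitePresentation_algebraMap]
    exact ⟨inferInstance, Algebra.FinitePresentation.quotient (Submodule.fg_span_singleton a)⟩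
  refine ⟨of_quotApp (P := @LocallyQuasiFinite) f
    (RingHom.QuasiFinite.stableUnderComposition.stableUnderCompositionWithLocalizationAway
      RingHom.QuasiFinite.holdsForLocalizationAway).left I fun x => ?_,
    of_quotApp (P := @LocallyOfFinitePresentation) f
      (RingHom.finitePresentation_stableUnderComposition.stableUnderCompositionWithLocalizationAway
        RingHom.finitePresentation_holdsForLocalizationAway).left I fun x => ?_⟩
  · obtain ⟨W, U, e, hx, h, -⟩ := key x
    exact ⟨W, U, e, hx, h⟩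
  · obtain ⟨W, U, e, hx, -, h⟩ := key x
    exact ⟨W, U, e, hx, h⟩

theorem effCartier_of_finLocFree (I : X.IdealSheafData) (h : Mor2.IsFinLocFree (I.subschemeι ≫ f)) :
    BlowUp.IsEffCartierIdeal I ∧ Flat (I.subschemeι ≫ f) := by
  obtain ⟨h1, h2, h3⟩ := h
  exact ⟨isEffCartierIdeal f I h2 (by haveI := h1; infer_instance) h3, h2⟩

theorem effCartier_iff (I : X.IdealSheafData) :
    ((BlowUp.IsEffCartierIdeal I ∧ Flat (I.subschemeι ≫ f)) ↔
      (LocallyQuasiFinite (I.subschemeι ≫ f) ∧ Flat (I.subschemeι ≫ f) ∧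
        LocallyOfFinitePresentation (I.subschemeι ≫ f))) :=
  ⟨fun h => ⟨(qf_lfp f I h.1 h.2).1, h.2, (qf_lfp f I h.1 h.2).2⟩,
    fun h => ⟨isEffCartierIdeal f I h.2.1 h.1 h.2.2, h.2.1⟩⟩

end Groth.Agent.Grass60.CurveDiv
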