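import Groth.Agent.Grass60.CurveSum
import Groth.Prelude.Def_W4c6dblnestedhilbptsFlags

/-!
Flags of relative divisors and their edge data.
-/

set_option autoImplicit false
set_option backward.isDefEq.respectTransparency false

universe u

open CategoryTheory AlgebraicGeometry HilbD

namespace Groth.Agent.Grass60.CurveFlag

variable {X S : Scheme.{u}} (f : X ⟶ S) [SmoothOfRelativeDimension 1 f]

theorem eff {d : ℕ} {I : X.IdealSheafData} (h : IsDivOfDeg f d I) : BlowUp.IsEffCartierIdeal I :=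
  (CurveDiv.effCartier_of_finLocFree f I h.1).1

theorem cancel {d : ℕ} {Q Q' I : X.IdealSheafData} (hI : IsDivOfDeg f d I) (h : I * Q = I * Q') : Q = Q' :=
  ModPairLib.eq_of_mul_eq_mul (eff f hI) (by rw [mul_comm Q, mul_comm Q']; exact h)

theorem eq_top_of_deg_zero {I : X.IdealSheafData} (h : IsDivOfDeg f 0 I) : I = ⊤ := by
  rw [← Scheme.IdealSheafData.support_eq_bot_iff]
  refine SetLike.coe_injective (Set.eq_empty_of_forall_notMem fun x hx => ?_)
  rw [← Scheme.IdealSheafData.range_subschemeι] at hx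
  obtain ⟨d, rfl⟩ := hx
  obtain ⟨⟨h1, h2, -⟩, hd⟩ := h
  have := Scheme.Hom.one_le_finrank_map (I.subschemeι ≫ f) d
  rw [hd] at this
  omega

theorem eq_of_le {d : ℕ} {I J : X.IdealSheafData} (hI : IsDivOfDeg f d I) (hJ : IsDivOfDeg f d J) (h : I ≤ J) :
    I = J := by
  obtain ⟨K, hK, rfl⟩ := CurveDiv.exists_difference f J I h hJ hI
  rw [Nat.sub_self] at hK
  rw [eq_top_of_deg_zero f hK, Scheme.IdealSheafData.mul_top]

variable {μ : YoungDiagram} {n : ℕ × ℕ → ℕ} (hn : IsRevPlanePartition μ n)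

theorem up_le (c : ℕ × ℕ) : ((c.1 - 1, c.2) : ℕ × ℕ) ≤ c := ⟨Nat.sub_le _ _, le_rfl⟩

theorem left_le (c : ℕ × ℕ) : ((c.1, c.2 - 1) : ℕ × ℕ) ≤ c := ⟨le_rfl, Nat.sub_le _ _⟩

include hn in
theorem existsUnique_edgeData (h00 : ((0, 0) : ℕ × ℕ) ∈ μ)
    (Z : ∀ c : ℕ × ℕ, c ∈ μ → X.IdealSheafData) (hZ : IsDnFlag f μ n Z) :
    (∃! E : DnEdgeData μ X, E.IsOfType f n ∧ E.IsEdgesOf h00 Z) ∧
      ∀ E : DnEdgeData μ X, E.IsOfType f n → E.IsEdgesOf h00 Z →
        ∀ (c : ℕ × ℕ) (hc : c ∈ μ) (hi : 1 ≤ c.1) (hj : 1 ≤ c.2), E.gammaOne c hc hi hj = E.gammaTwo c hc hi hj := by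
  have hv : ∀ (c : ℕ × ℕ) (hc : c ∈ μ), ∃ I, IsDivOfDeg f (n c - n (c.1 - 1, c.2)) I ∧
      Z c hc = Z (c.1 - 1, c.2) (mem_up hc) * I := fun c hc =>
    CurveDiv.exists_difference f _ _ (hZ.2 _ _ (mem_up hc) hc (up_le c)) (hZ.1 _ _) (hZ.1 c hc)
  have hh : ∀ (c : ℕ × ℕ) (hc : c ∈ μ), ∃ I, IsDivOfDeg f (n c - n (c.1, c.2 - 1)) I ∧
      Z c hc = Z (c.1, c.2 - 1) (mem_left hc) * I := fun c hc =>
    CurveDiv.exists_difference f _ _ (hZ.2 _ _ (mem_left hc) hc (left_le c)) (hZ.1 _ _) (hZ.1 c hc)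
  choose V hV hV' using hv
  choose H hH hH' using hh
  refine ⟨⟨⟨Z (0, 0) h00, fun c hc _ => V c hc, fun c hc _ => H c hc⟩,
    ⟨⟨hZ.1 _ _, fun c hc _ => hV c hc, fun c hc _ => hH c hc⟩,
      ⟨rfl, fun c hc _ => hV' c hc, fun c hc _ => hH' c hc⟩⟩, ?_⟩, ?_⟩
  · rintro E ⟨hE, hb, hEv, hEh⟩
    refine DnEdgeData.ext hb.symm (funext fun c => funext fun hc => funext fun hi => ?_)
      (funext fun c => funext fun hc => funext fun hj => ?_)
    · exact cancel f (hZ.1 _ (mem_up hc)) ((hEv c hc hi).symm.trans (hV' c hc))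
    · exact cancel f (hZ.1 _ (mem_left hc)) ((hEh c hc hj).symm.trans (hH' c hc))
  · rintro E hE ⟨-, hEv, hEh⟩ c hc hi hj
    refine cancel f (hZ.1 (c.1 - 1, c.2 - 1) (mem_left (mem_up hc))) ?_
    rw [DnEdgeData.gammaOne, DnEdgeData.gammaTwo, mul_comm (E.vert c hc hi), mul_comm (E.horiz c hc hj),
      ← mul_assoc, ← mul_assoc, ← hEh (c.1 - 1, c.2) (mem_up hc) hj, ← hEv (c.1, c.2 - 1) (mem_left hc) hi,
      ← hEv c hc hi, ← hEh c hc hj]

/-- The divisor of a cell obtained by going down the first column and then along the row. -/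
noncomputable def cellDiv (E : DnEdgeData μ X) : ∀ i j : ℕ, (i, j) ∈ μ → X.IdealSheafData
  | 0, 0, _ => E.base
  | i + 1, 0, h => cellDiv E i 0 (mem_up (c := (i + 1, 0)) h) * E.vert (i + 1, 0) h (Nat.succ_pos i)
  | i, j + 1, h => cellDiv E i j (mem_left (c := (i, j + 1)) h) * E.horiz (i, j + 1) h (Nat.succ_pos j)

theorem cellDiv_zero (E : DnEdgeData μ X) (i : ℕ) (h : (i + 1, 0) ∈ μ) :
    cellDiv E (i + 1) 0 h = cellDiv E i 0 (mem_up (c := (i + 1, 0)) h) * E.vert (i + 1, 0) h (Nat.succ_pos i) := by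
  rw [cellDiv]

theorem cellDiv_succ (E : DnEdgeData μ X) (i j : ℕ) (h : (i, j + 1) ∈ μ) :
    cellDiv E i (j + 1) h = cellDiv E i j (mem_left (c := (i, j + 1)) h) * E.horiz (i, j + 1) h (Nat.succ_pos j) := by
  cases i <;> rw [cellDiv]

include hn in
theorem existsUnique_flag (h00 : ((0, 0) : ℕ × ℕ) ∈ μ) (E : DnEdgeData μ X) (hE : E.IsOfType f n)
    (hcomm : ∀ (c : ℕ × ℕ) (hc : c ∈ μ) (hi : 1 ≤ c.1) (hj : 1 ≤ c.2), E.gammaOne c hc hi hj ≤ E.gammaTwo c hc hi hj) :
    ∃! Z : ∀ c : ℕ × ℕ, c ∈ μ → X.IdealSheafData, IsDnFlag f μ n Z ∧ E.IsEdgesOf h00 Z := by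
  obtain ⟨hb, hEv, hEh⟩ := hE
  have heq : ∀ (i j : ℕ) (h : (i + 1, j + 1) ∈ μ),
      E.vert (i + 1, j + 1) h (Nat.succ_pos i) * E.horiz (i, j + 1) (mem_up (c := (i + 1, j + 1)) h) (Nat.succ_pos j) =
      E.horiz (i + 1, j + 1) h (Nat.succ_pos j) * E.vert (i + 1, j) (mem_left (c := (i + 1, j + 1)) h) (Nat.succ_pos i) := by
    intro i j h
    have hu : (i, j + 1) ∈ μ := mem_up (c := (i + 1, j + 1)) h
    have hl : (i + 1, j) ∈ μ := mem_left (c := (i + 1, j + 1)) h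
    have hul : (i, j) ∈ μ := mem_left (c := (i, j + 1)) hu
    have n1 := hn hu h (up_le (i + 1, j + 1))
    have n2 := hn hul hu (left_le (i, j + 1))
    have n3 := hn hl h (left_le (i + 1, j + 1))
    have n4 := hn hul hl (up_le (i + 1, j))
    refine eq_of_le f (d := n (i + 1, j + 1) - n (i, j)) ?_ ?_ (hcomm (i + 1, j + 1) h (Nat.succ_pos i) (Nat.succ_pos j))
    · have := CurveDiv.sum_finLocFreeOfDeg f (hEv (i + 1, j + 1) h (Nat.succ_pos i))
        (hEh (i, j + 1) hu (Nat.succ_pos j))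
      simp only [Nat.add_sub_cancel] at this
      convert this using 1
      omega
    · have := CurveDiv.sum_finLocFreeOfDeg f (hEh (i + 1, j + 1) h (Nat.succ_pos j))
        (hEv (i + 1, j) hl (Nat.succ_pos i))
      simp only [Nat.add_sub_cancel] at this
      convert this using 1
      omega
  have hvert : ∀ (i j : ℕ) (h : (i + 1, j) ∈ μ),
      cellDiv E (i + 1) j h = cellDiv E i j (mem_up (c := (i + 1, j)) h) * E.vert (i + 1, j) h (Nat.succ_pos i) := by
    intro i j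
    induction j with
    | zero => exact cellDiv_zero E i
    | succ j ih =>
      intro h
      rw [cellDiv_succ, ih (mem_left (c := (i + 1, j + 1)) h), cellDiv_succ, mul_assoc, mul_assoc]
      congr 1
      rw [mul_comm, ← heq i j h, mul_comm]
  let Z : ∀ c : ℕ × ℕ, c ∈ μ → X.IdealSheafData := fun c hc => cellDiv E c.1 c.2 hc
  have hedges : E.IsEdgesOf h00 Z := by
    refine ⟨by show cellDiv E 0 0 h00 = _; rw [cellDiv], ?_, ?_⟩
    · rintro ⟨i, j⟩ hc hi
      obtain ⟨i, rfl⟩ := Nat.exists_eq_succ_of_ne_zero (show i ≠ 0 from Nat.one_le_iff_ne_zero.1 hi)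
      exact hvert i j hc
    · rintro ⟨i, j⟩ hc hj
      obtain ⟨j, rfl⟩ := Nat.exists_eq_succ_of_ne_zero (show j ≠ 0 from Nat.one_le_iff_ne_zero.1 hj)
      exact cellDiv_succ E i j hc
  have hdeg : ∀ (i j : ℕ) (h : (i, j) ∈ μ), IsDivOfDeg f (n (i, j)) (cellDiv E i j h) := by
    intro i j
    induction j with
    | zero =>
      induction i with
      | zero => intro h; rw [cellDiv]; exact hb
      | succ i ih =>
        intro h
        rw [cellDiv_zero]
        have := CurveDiv.sum_finLocFreeOfDeg f (ih (mem_up (c := (i + 1, 0)) h))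
          (hEv (i + 1, 0) h (Nat.succ_pos i))
        have n1 := hn (mem_up (c := (i + 1, 0)) h) h (up_le (i + 1, 0))
        simp only [Nat.add_sub_cancel] at this n1
        rwa [Nat.add_sub_cancel' n1] at this
    | succ j ih =>
      intro h
      rw [cellDiv_succ]
      have := CurveDiv.sum_finLocFreeOfDeg f (ih (mem_left (c := (i, j + 1)) h))
        (hEh (i, j + 1) h (Nat.succ_pos j))
      have n1 := hn (mem_left (c := (i, j + 1)) h) h (left_le (i, j + 1))
      simp only [Nat.add_sub_cancel] at this n1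
      rwa [Nat.add_sub_cancel' n1] at this
  have hj : ∀ (i j j' : ℕ) (h : (i, j) ∈ μ) (h' : (i, j') ∈ μ), j ≤ j' → cellDiv E i j' h' ≤ cellDiv E i j h := by
    intro i j j' h h' hle
    induction hle with
    | refl => exact le_rfl
    | @step m hm ih =>
      rw [cellDiv_succ]
      exact (CurveDiv.mul_le_left' _ _).trans (ih _)
  have hi : ∀ (i i' j : ℕ) (h : (i, j) ∈ μ) (h' : (i', j) ∈ μ), i ≤ i' → cellDiv E i' j h' ≤ cellDiv E i j h := by
    intro i i' j h h' hle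
    induction hle with
    | refl => exact le_rfl
    | @step m hm ih =>
      rw [hvert]
      exact (CurveDiv.mul_le_left' _ _).trans (ih _)
  refine ⟨Z, ⟨⟨fun c hc => hdeg c.1 c.2 hc, fun c c' hc hc' hle => ?_⟩, hedges⟩, ?_⟩
  · have hmid : (c.1, c'.2) ∈ μ := μ.isLowerSet (show ((c.1, c'.2) : ℕ × ℕ) ≤ c' from ⟨hle.1, le_rfl⟩) hc'
    exact (hi c.1 c'.1 c'.2 hmid hc' hle.1).trans (hj c.1 c.2 c'.2 hc hmid hle.2)
  · rintro Z' ⟨-, hb', hv', hh'⟩
    have key : ∀ (i j : ℕ) (h : (i, j) ∈ μ), Z' (i, j) h = cellDiv E i j h := by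
      intro i j
      induction j with
      | zero =>
        induction i with
        | zero => intro h; rw [cellDiv]; exact hb'
        | succ i ih =>
          intro h
          rw [cellDiv_zero, ← ih (mem_up (c := (i + 1, 0)) h)]
          exact hv' (i + 1, 0) h (Nat.succ_pos i)
      | succ j ih =>
        intro h
        rw [cellDiv_succ, ← ih (mem_left (c := (i, j + 1)) h)]
        exact hh' (i, j + 1) h (Nat.succ_pos j)
    funext c hc
    exact key c.1 c.2 hc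

end Groth.Agent.Grass60.CurveFlag
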