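import Groth.Agent.Grass60.CurveFlag
import Groth.Agent.HilbDLib.ClosedSub
import Groth.Agent.ModPairLib.BlowUp

/-!
A relative divisor on a smooth separated relative curve becomes a sum of sections after an fppf base change.
-/

set_option autoImplicit false
set_option backward.isDefEq.respectTransparency false
set_option linter.style.haveILetI false

universe u

open CategoryTheory CategoryTheory.Limits AlgebraicGeometry

namespace Groth.Agent.Grass60.CurveSplit

theorem comap_ker_of_isPullback {P Z X Y : Scheme.{u}} {a : P ⟶ X} {c : P ⟶ Z} {g : X ⟶ Y} {s : Z ⟶ Y}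
    [IsClosedImmersion s] (h : IsPullback a c g s) : s.ker.comap g = a.ker := by
  rw [← h.isoPullback_hom_fst, Scheme.Hom.ker_comp_of_isIso, Scheme.IdealSheafData.ker_fst_of_isClosedImmersion]

theorem finLocFreeOfDeg_comap {d : ℕ} {Q Q' T S : Scheme.{u}} {g' : Q' ⟶ Q} {p' : Q' ⟶ T} {p : Q ⟶ S}
    {b : T ⟶ S} (h : IsPullback g' p' p b) (I : Q.IdealSheafData)
    (hI : Mor2.IsFinLocFreeOfDeg d (I.subschemeι ≫ p)) :
    Mor2.IsFinLocFreeOfDeg d ((I.comap g').subschemeι ≫ p') := by
  rw [show I.comap g' = (pullback.fst g' I.subschemeι).ker from rfl, HilbDLib.finLocFreeOfDeg_ker]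
  have hp : IsPullback (pullback.snd g' I.subschemeι) (pullback.fst g' I.subschemeι ≫ p') (I.subschemeι ≫ p) b :=
    (IsPullback.of_hasPullback g' I.subschemeι).flip.paste_vert h
  obtain ⟨⟨h1, h2, h3⟩, h4⟩ := hI
  exact ⟨⟨MorphismProperty.of_isPullback (P := @IsFinite) hp h1,
    MorphismProperty.of_isPullback (P := @Flat) hp h2,
    MorphismProperty.of_isPullback (P := @LocallyOfFinitePresentation) hp h3⟩,
    fun y => by rw [Scheme.Hom.finrank_of_isPullback _ _ _ _ hp, h4]⟩

theorem comap_prod {X Y : Scheme.{u}} (g : X ⟶ Y) {ι : Type*} (s : Finset ι) (J : ι → Y.IdealSheafData) :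
    (∏ i ∈ s, J i).comap g = ∏ i ∈ s, (J i).comap g := by
  classical
  induction s using Finset.induction with
  | empty =>
    simp only [Finset.prod_empty]
    exact Scheme.IdealSheafData.comap_top g
  | insert a s ha ih => rw [Finset.prod_insert ha, Finset.prod_insert ha, ModPairLib.ideal_comap_mul, ih]

theorem exists_split (d : ℕ) : ∀ {C S : Scheme.{u}} (f : C ⟶ S) [SmoothOfRelativeDimension 1 f] [IsSeparated f]
    (I : C.IdealSheafData), Mor2.IsFinLocFreeOfDeg d (I.subschemeι ≫ f) →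
    ∃ (S' : Scheme.{u}) (b : S' ⟶ S), Flat b ∧ Surjective b ∧ LocallyOfFinitePresentation b ∧
      ∃ σ : Fin d → (S' ⟶ pullback f b), (∀ i, σ i ≫ pullback.snd f b = 𝟙 S') ∧
        I.comap (pullback.fst f b) = ∏ i, (σ i).ker := by
  induction d with
  | zero =>
    intro C S f _ _ I hI
    refine ⟨S, 𝟙 S, inferInstance, inferInstance, inferInstance, Fin.elim0, fun i => i.elim0, ?_⟩
    rw [CurveFlag.eq_top_of_deg_zero f hI, Scheme.IdealSheafData.comap_top, Finset.univ_eq_empty, Finset.prod_empty]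
    rfl
  | succ d ih =>
    intro C S f _ _ I hI
    let b₁ := I.subschemeι ≫ f
    haveI : IsFinite b₁ := hI.1.1
    haveI : Flat b₁ := hI.1.2.1
    haveI : LocallyOfFinitePresentation b₁ := hI.1.2.2
    haveI : Surjective b₁ :=
      (Scheme.Hom.one_le_finrank_iff_surjective b₁).1 fun y => by
        show 1 ≤ b₁.finrank y
        rw [hI.2 y]; exact Nat.le_add_left 1 d
    let q₁ := pullback.fst f b₁
    let p₁ := pullback.snd f b₁
    haveI : SmoothOfRelativeDimension 1 p₁ :=
      (smoothOfRelativeDimension_isStableUnderBaseChange 1).of_isPullback (IsPullback.of_hasPullback f b₁) inferInstance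
    let τ : I.subscheme ⟶ pullback f b₁ := pullback.lift I.subschemeι (𝟙 _) (by simp [b₁])
    have hτ : τ ≫ p₁ = 𝟙 _ := pullback.lift_snd _ _ _
    haveI : IsClosedImmersion τ := by
      haveI : IsClosedImmersion (τ ≫ p₁) := by rw [hτ]; infer_instance
      exact IsClosedImmersion.of_comp τ p₁
    have h1 : Mor2.IsFinLocFreeOfDeg 1 (τ.ker.subschemeι ≫ p₁) := by
      rw [HilbDLib.finLocFreeOfDeg_ker, hτ]
      exact ⟨⟨inferInstance, inferInstance, inferInstance⟩, fun y => by
        rw [Scheme.Hom.finrank_eq_one_of_isIso]; rfl⟩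
    have hle : I.comap q₁ ≤ τ.ker := by
      rw [← Scheme.IdealSheafData.le_map_iff_comap_le, Scheme.IdealSheafData.map_ker, pullback.lift_fst,
        Scheme.IdealSheafData.ker_subschemeι]
    obtain ⟨K, hK, hIK⟩ := CurveDiv.exists_difference p₁ τ.ker (I.comap q₁) hle h1
      (finLocFreeOfDeg_comap (IsPullback.of_hasPullback f b₁) I hI)
    rw [Nat.add_sub_cancel] at hK
    obtain ⟨S', b₂, hb1, hb2, hb3, σ', hσ', hK'⟩ := ih p₁ K hK
    let e := pullbackLeftPullbackSndIso f b₁ b₂
    have he1 : e.hom ≫ pullback.fst f (b₂ ≫ b₁) = pullback.fst p₁ b₂ ≫ q₁ :=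
      pullbackLeftPullbackSndIso_hom_fst f b₁ b₂
    have he2 : e.hom ≫ pullback.snd f (b₂ ≫ b₁) = pullback.snd p₁ b₂ :=
      pullbackLeftPullbackSndIso_hom_snd f b₁ b₂
    let τ' : S' ⟶ pullback p₁ b₂ := pullback.lift (b₂ ≫ τ) (𝟙 _) (by rw [Category.assoc, hτ, Category.comp_id, Category.id_comp])
    have hτ' : τ' ≫ pullback.snd p₁ b₂ = 𝟙 _ := pullback.lift_snd _ _ _
    have hsq : IsPullback τ' b₂ (pullback.fst p₁ b₂) τ := by
      refine IsPullback.flip (IsPullback.of_bot ?_ (pullback.lift_fst _ _ _).symm (IsPullback.of_hasPullback p₁ b₂))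
      rw [hτ, hτ']
      exact IsPullback.of_vert_isIso ⟨by simp⟩
    refine ⟨S', b₂ ≫ b₁, inferInstance, inferInstance, inferInstance,
      Fin.cons (τ' ≫ e.hom) (fun i => σ' i ≫ e.hom), fun i => ?_, ?_⟩
    · refine Fin.cases ?_ (fun j => ?_) i
      · rw [Fin.cons_zero, Category.assoc, he2, hτ']
      · rw [Fin.cons_succ, Category.assoc, he2, hσ']
    · have h2 : I.comap (pullback.fst f (b₂ ≫ b₁)) = ((I.comap q₁).comap (pullback.fst p₁ b₂)).comap e.inv := by
        rw [← Scheme.IdealSheafData.comap_comp, ← Scheme.IdealSheafData.comap_comp, Category.assoc, ← he1, Iso.inv_hom_id_assoc]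
      have h3 : ∀ (s : S' ⟶ pullback p₁ b₂) [IsClosedImmersion s], s.ker.comap e.inv = (s ≫ e.hom).ker :=
        fun s _ => comap_ker_of_isPullback (c := 𝟙 _) (IsPullback.of_vert_isIso ⟨by simp⟩)
      have hcl : ∀ (s : S' ⟶ pullback p₁ b₂), s ≫ pullback.snd p₁ b₂ = 𝟙 _ → IsClosedImmersion s := fun s hs => by
        haveI : IsClosedImmersion (s ≫ pullback.snd p₁ b₂) := by rw [hs]; infer_instance
        exact IsClosedImmersion.of_comp s (pullback.snd p₁ b₂)
      haveI := hcl τ' hτ'
      haveI := fun i => hcl (σ' i) (hσ' i)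
      rw [h2, hIK, ModPairLib.ideal_comap_mul, comap_ker_of_isPullback hsq, hK', ModPairLib.ideal_comap_mul,
        comap_prod, h3, Fin.prod_univ_succ, Fin.cons_zero]
      congr 1
      exact Finset.prod_congr rfl fun i _ => by rw [Fin.cons_succ, h3]

end Groth.Agent.Grass60.CurveSplit
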