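import Mathlib.RingTheory.Spectrum.Prime.FreeLocus
import Mathlib.RingTheory.Ideal.GoingUp
import Mathlib.RingTheory.QuasiFinite.Basic
import Mathlib.RingTheory.Flat.EquationalCriterion
import Mathlib.RingTheory.Flat.Equalizer
import Mathlib.RingTheory.LocalProperties.Projective

/-!
Additivity of ranks for a finite algebra cut by two ideals which are locally a principal ideal and its
annihilator.
-/

set_option autoImplicit false

universe u

namespace Groth.Agent.Grass60.RankAdd

variable {A E : Type u} [CommRing A] [CommRing E] [Algebra A E] [Module.Finite A E]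

theorem exists_notMem_of_forall (p : Ideal A) [p.IsPrime] (J : Ideal E)
    (h : ∀ M : Ideal E, M.IsPrime → M.LiesOver p → ¬ J ≤ M) : ∃ s ∉ p, algebraMap A E s ∈ J := by
  by_contra hcon
  push Not at hcon
  obtain ⟨Q, hJQ, hQ, hQp⟩ := Ideal.exists_ideal_over_prime_of_isIntegral p J fun s hs => by
    by_contra hsp
    exact hcon s hsp hs
  exact h Q hQ ⟨hQp.symm⟩ hJQ

theorem exists_separators (p : Ideal A) [p.IsPrime] [Finite (p.primesOver E)] (M : p.primesOver E) :
    ∃ c : E, c ∉ M.1 ∧ ∀ M' : p.primesOver E, M' ≠ M → c ∈ M'.1 := by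
  classical
  cases nonempty_fintype (p.primesOver E)
  have h : ∀ M' : p.primesOver E, M' ≠ M → ∃ c ∈ M'.1, c ∉ M.1 := fun M' hne => by
    refine SetLike.not_le_iff_exists.1 fun hle => hne (Subtype.ext ?_)
    haveI := M'.2.1
    haveI := M.2.1
    exact Algebra.QuasiFinite.eq_of_le_of_under_eq (R := A) M'.1 M.1 hle
      (M'.2.2.over.symm.trans M.2.2.over)
  choose! c hc hc' using h
  refine ⟨∏ M' ∈ Finset.univ.erase M, c M', fun hmem => ?_, fun M' hne => ?_⟩
  · obtain ⟨M', hM', h⟩ := (M.2.1.prod_mem_iff).1 hmem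
    exact hc' M' (Finset.ne_of_mem_erase hM') h
  · obtain ⟨t, ht⟩ := Finset.dvd_prod_of_mem c (Finset.mem_erase.2 ⟨hne, Finset.mem_univ M'⟩)
    rw [ht]
    exact M'.1.mul_mem_right _ (hc M' hne)

variable {I J : Ideal E}

/-- Local generators combine to a generator near all the points over `p`. -/
theorem exists_global (p : Ideal A) [p.IsPrime] [Finite (p.primesOver E)]
    (hloc : ∀ M : Ideal E, M.IsPrime → M.LiesOver p → ∃ a ∈ I, (∀ y ∈ I, ∃ s ∉ M, s * y ∈ Ideal.span {a}) ∧
      ∀ x, a * x = 0 → ∃ s ∉ M, s * x ∈ J) :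
    ∃ a ∈ I, ∀ M : Ideal E, M.IsPrime → M.LiesOver p →
      (∀ y ∈ I, ∃ s ∉ M, s * y ∈ Ideal.span {a}) ∧ ∀ x, a * x = 0 → ∃ s ∉ M, s * x ∈ J := by
  classical
  cases nonempty_fintype (p.primesOver E)
  choose c hc hc' using fun M : p.primesOver E => exists_separators p M
  choose a ha hgen hann using fun M : p.primesOver E => hloc M.1 M.2.1 M.2.2
  refine ⟨∑ M, c M * a M, sum_mem fun M _ => I.mul_mem_left _ (ha M), fun M hM hMp => ?_⟩
  let M₀ : p.primesOver E := ⟨M, hM, hMp⟩
  -- near `M` the sum is a unit multiple of the local generator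
  have hk : ∀ M' : p.primesOver E, ∃ s t : E, s ∉ M ∧ s * a M' = t * a M₀ := fun M' => by
    obtain ⟨s, hs, hst⟩ := hgen M₀ (a M') (ha M')
    obtain ⟨t, ht⟩ := Ideal.mem_span_singleton'.1 hst
    exact ⟨s, t, hs, ht.symm⟩
  choose s t hs hst using hk
  let σ := ∏ M', s M'
  have hσ : σ ∉ M := fun h => by
    obtain ⟨M', -, h⟩ := hM.prod_mem_iff.1 h
    exact hs M' h
  let w := fun M' => (∏ M'' ∈ Finset.univ.erase M', s M'') * t M'
  have hw : ∀ M', σ * a M' = w M' * a M₀ := fun M' => by
    show σ * a M' = (∏ M'' ∈ Finset.univ.erase M', s M'') * t M' * a M₀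
    rw [mul_assoc, ← hst, ← mul_assoc]
    congr 1
    exact (Finset.prod_erase_mul _ _ (Finset.mem_univ M')).symm
  let v := c M₀ * σ + ∑ M' ∈ Finset.univ.erase M₀, c M' * w M'
  have hv : v ∉ M := fun h => by
    have h2 : ∑ M' ∈ Finset.univ.erase M₀, c M' * w M' ∈ M :=
      sum_mem fun M' hM' => M.mul_mem_right _ (hc' M' M₀ (Finset.ne_of_mem_erase hM').symm)
    rcases hM.mem_or_mem ((Ideal.add_mem_iff_left _ h2).1 h) with h3 | h3
    · exact hc M₀ h3
    · exact hσ h3
  have hsum : σ * ∑ M', c M' * a M' = v * a M₀ := by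
    rw [Finset.mul_sum, ← Finset.add_sum_erase _ _ (Finset.mem_univ M₀), add_mul, Finset.sum_mul]
    congr 1
    · ring
    · refine Finset.sum_congr rfl fun M' _ => ?_
      rw [mul_left_comm, hw]; ring
  refine ⟨fun y hy => ?_, fun x hx => ?_⟩
  · obtain ⟨r, hr, hry⟩ := hgen M₀ y hy
    obtain ⟨z, hz⟩ := Ideal.mem_span_singleton'.1 hry
    refine ⟨v * r, hM.mul_notMem hv hr, Ideal.mem_span_singleton'.2 ⟨z * σ, ?_⟩⟩
    rw [mul_assoc, hsum, mul_assoc v r y, ← hz]
    ring
  · obtain ⟨r, hr, hrx⟩ := hann M₀ (v * x) (by rw [← mul_assoc, mul_comm (a M₀) v, ← hsum, mul_assoc, hx, mul_zero])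
    exact ⟨r * v, hM.mul_notMem hr hv, by rwa [mul_assoc]⟩

theorem rankAtStalk_add [Module.Flat A E] [Module.FinitePresentation A E] [Module.Flat A (E ⧸ I)]
    [Module.FinitePresentation A (E ⧸ I)] [Module.Flat A (E ⧸ J)] [Module.FinitePresentation A (E ⧸ J)]
    (hIJ : ∀ x ∈ I, ∀ y ∈ J, x * y = 0)
    (hloc : ∀ M : Ideal E, M.IsPrime → ∃ a ∈ I, (∀ y ∈ I, ∃ s ∉ M, s * y ∈ Ideal.span {a}) ∧
      ∀ x, a * x = 0 → ∃ s ∉ M, s * x ∈ J) (p : PrimeSpectrum A) :
    Module.rankAtStalk E p = Module.rankAtStalk (E ⧸ I) p + Module.rankAtStalk (E ⧸ J) p := by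
  have : Module.Projective A E := Module.Flat.projective_of_finitePresentation (R := A) (M := E)
  have : Module.Projective A (E ⧸ I) := Module.Flat.projective_of_finitePresentation (R := A) (M := E ⧸ I)
  let π : E →ₗ[A] E ⧸ I := (Ideal.Quotient.mkₐ A I).toLinearMap
  have hker : LinearMap.ker π = I.restrictScalars A := by
    ext x
    exact Ideal.Quotient.eq_zero_iff_mem
  let e : E ≃ₗ[A] (LinearMap.ker π) × (E ⧸ I) := by
    obtain h := Module.projective_lifting_property π LinearMap.id Ideal.Quotient.mk_surjective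
    exact ((LinearMap.exact_subtype_ker_map π).splitSurjectiveEquiv Subtype.val_injective
      ⟨h.choose, h.choose_spec⟩).1
  have : Module.Finite A (LinearMap.ker π) :=
    Module.Finite.of_surjective ((LinearMap.fst A _ _).comp e.toLinearMap)
      (Prod.fst_surjective.comp e.surjective)
  have : Module.Projective A (LinearMap.ker π) :=
    Module.Projective.of_split (e.symm.toLinearMap.comp (LinearMap.inl A _ _))
      ((LinearMap.fst A _ _).comp e.toLinearMap) (by ext x; simp)
  have hrI : Module.rankAtStalk (LinearMap.ker π) p = Module.rankAtStalk (E ⧸ J) p := by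
    have : Finite (p.asIdeal.primesOver E) := (Algebra.QuasiFinite.finite_primesOver p.asIdeal).to_subtype
    obtain ⟨a, ha, hgood⟩ := exists_global (I := I) (J := J) p.asIdeal fun M hM _ => hloc M hM
    let φ : (E ⧸ J) →ₗ[A] LinearMap.ker π :=
      Submodule.liftQ (J.restrictScalars A)
        (LinearMap.codRestrict (LinearMap.ker π) ((LinearMap.mulLeft A a)) fun x => by
          rw [hker]; exact I.mul_mem_right x ha)
        (fun x hx => LinearMap.mem_ker.2 (Subtype.ext (hIJ a ha x hx))) ∘ₗ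
      (Submodule.quotEquivOfEq (J.restrictScalars A) (J.restrictScalars A) rfl).toLinearMap ∘ₗ
      ((Submodule.Quotient.restrictScalarsEquiv A J).symm).toLinearMap
    have hφ : ∀ x : E, (φ (Ideal.Quotient.mk J x) : E) = a * x := fun x => rfl
    have hsurj : ∀ y : LinearMap.ker π, ∃ s ∉ p.asIdeal, ∃ z, φ z = s • y := fun y => by
      have hy : (y : E) ∈ I := Ideal.Quotient.eq_zero_iff_mem.1 (LinearMap.mem_ker.1 y.2)
      obtain ⟨s, hs, hsy⟩ := exists_notMem_of_forall p.asIdeal
        ((Ideal.span {a}).colon ({(y : E)} : Set E)) fun M hM hMp hle => by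
          obtain ⟨r, hr, hry⟩ := (hgood M hM hMp).1 y hy
          exact hr (hle (Submodule.mem_colon_singleton.2 hry))
      obtain ⟨z, hz⟩ := Ideal.mem_span_singleton'.1 (Submodule.mem_colon_singleton.1 hsy)
      refine ⟨s, hs, Ideal.Quotient.mk J z, Subtype.ext ?_⟩
      rw [hφ, mul_comm, hz, Submodule.coe_smul]
      exact (Algebra.smul_def s (y : E)).symm
    have hinj : ∀ z, φ z = 0 → ∃ s ∉ p.asIdeal, s • z = 0 := fun z hz => by
      obtain ⟨x, rfl⟩ := Ideal.Quotient.mk_surjective z
      have hax : a * x = 0 := by rw [← hφ, hz]; rfl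
      obtain ⟨s, hs, hsx⟩ := exists_notMem_of_forall p.asIdeal (J.colon ({x} : Set E)) fun M hM hMp hle => by
        obtain ⟨r, hr, hrx⟩ := (hgood M hM hMp).2 x hax
        exact hr (hle (Submodule.mem_colon_singleton.2 hrx))
      refine ⟨s, hs, ?_⟩
      rw [Algebra.smul_def, IsScalarTower.algebraMap_apply A E (E ⧸ J), Ideal.Quotient.algebraMap_eq, ← map_mul,
        Ideal.Quotient.eq_zero_iff_mem]
      exact Submodule.mem_colon_singleton.1 hsx
    let S := p.asIdeal.primeCompl
    let L := IsLocalizedModule.map S (LocalizedModule.mkLinearMap S (E ⧸ J))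
      (LocalizedModule.mkLinearMap S (LinearMap.ker π)) φ
    have hL : Function.Bijective L := by
      constructor
      · rw [injective_iff_map_eq_zero]
        intro w hw
        obtain ⟨⟨z, s⟩, rfl⟩ := IsLocalizedModule.mk'_surjective S (LocalizedModule.mkLinearMap S (E ⧸ J)) w
        simp only [Function.uncurry_apply_pair, L, IsLocalizedModule.map_mk'] at hw
        rw [IsLocalizedModule.mk'_eq_zero, IsLocalizedModule.eq_zero_iff S] at hw
        obtain ⟨r, hr⟩ := hw
        obtain ⟨r', hr', h'⟩ := hinj ((r : A) • z) (by rw [map_smul]; exact hr)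
        simp only [Function.uncurry_apply_pair]
        rw [IsLocalizedModule.mk'_eq_zero, IsLocalizedModule.eq_zero_iff S]
        exact ⟨⟨r', hr'⟩ * r, by rw [mul_smul]; exact h'⟩
      · intro w
        obtain ⟨⟨y, s⟩, rfl⟩ :=
          IsLocalizedModule.mk'_surjective S (LocalizedModule.mkLinearMap S (LinearMap.ker π)) w
        obtain ⟨r, hr, z, hz⟩ := hsurj y
        refine ⟨IsLocalizedModule.mk' (LocalizedModule.mkLinearMap S (E ⧸ J)) z (s * ⟨r, hr⟩), ?_⟩
        simp only [L, IsLocalizedModule.map_mk', hz, Function.uncurry_apply_pair]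
        exact IsLocalizedModule.mk'_cancel_right _ y s ⟨r, hr⟩
    let e' : LocalizedModule S (E ⧸ J) ≃ₗ[Localization S] LocalizedModule S (LinearMap.ker π) :=
      LinearEquiv.ofBijective (L.extendScalarsOfIsLocalization S (Localization S)) hL
    exact e'.finrank_eq.symm
  rw [Module.rankAtStalk_eq_of_equiv e, Module.rankAtStalk_prod, Pi.add_apply, hrI, add_comm]

end Groth.Agent.Grass60.RankAdd
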