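import Groth.Agent.Grass60.CurveDiv
import Groth.Agent.Grass60.RankAdd
import Groth.Agent.ModPairLib.Quot
import Groth.Agent.QCoh.ProperOver
import Mathlib.AlgebraicGeometry.Morphisms.FlatRank
import Mathlib.AlgebraicGeometry.ZariskisMainTheorem

/-!
Sums and differences of relative divisors on smooth relative curves.
-/

set_option autoImplicit false
set_option backward.isDefEq.respectTransparency false
set_option linter.style.haveILetI false

universe u

open CategoryTheory CategoryTheory.Limits AlgebraicGeometry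

namespace Groth.Agent.Grass60.CurveDiv

open Groth.Agent.FlatX

variable {X S : Scheme.{u}} (f : X ⟶ S)

theorem isPullback_fromSpec {T : Scheme.{u}} (g : T ⟶ S) [IsAffineHom g] {W : S.Opens} (hW : IsAffineOpen W) :
    IsPullback (hW.preimage g).fromSpec (Spec.map (g.app W)) g hW.fromSpec := by
  have hsq : (hW.preimage g).fromSpec ≫ g = Spec.map (g.app W) ≫ hW.fromSpec := by
    rw [Scheme.Hom.app_eq_appLE]
    exact (IsAffineOpen.SpecMap_appLE_fromSpec g hW (hW.preimage g) _).symm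
  refine IsOpenImmersion.isPullback _ _ _ _ hsq ?_ |>.flip
  apply SetLike.coe_injective
  show g ⁻¹' Set.range hW.fromSpec = Set.range (hW.preimage g).fromSpec
  rw [hW.range_fromSpec, (hW.preimage g).range_fromSpec]
  rfl

theorem finrank_eq_rankAtStalk {T : Scheme.{u}} (g : T ⟶ S) [IsFinite g] [Flat g] {W : S.Opens}
    (hW : IsAffineOpen W) (y : S) (hy : y ∈ W) :
    letI := (g.app W).hom.toAlgebra
    g.finrank y = Module.rankAtStalk (R := Γ(S, W)) Γ(T, g ⁻¹ᵁ W) (hW.primeIdealOf ⟨y, hy⟩) := by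
  letI := (g.app W).hom.toAlgebra
  have hfin : Module.Finite Γ(S, W) Γ(T, g ⁻¹ᵁ W) := RingHom.finite_algebraMap.1 (g.finite_app W hW)
  have hflat : Module.Flat Γ(S, W) Γ(T, g ⁻¹ᵁ W) := RingHom.flat_algebraMap_iff.1 (by
    have := g.flat_appLE hW (hW.preimage g) le_rfl
    rwa [← Scheme.Hom.app_eq_appLE] at this)
  have h := Scheme.Hom.finrank_of_isPullback _ _ _ _ (isPullback_fromSpec g hW) (hW.primeIdealOf ⟨y, hy⟩)
  rw [hW.fromSpec_primeIdealOf] at h
  rw [← h]
  exact Scheme.Hom.finrank_SpecMap_algebraMap Γ(S, W) Γ(T, g ⁻¹ᵁ W) _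

theorem mul_le_left' (I J : X.IdealSheafData) : I * J ≤ I := fun U => by
  rw [Scheme.IdealSheafData.ideal_mul, Pi.mul_apply]; exact Ideal.mul_le_left (I := I.ideal U) (J := J.ideal U)

theorem mul_le_right' (I J : X.IdealSheafData) : I * J ≤ J := fun U => by
  rw [Scheme.IdealSheafData.ideal_mul, Pi.mul_apply]; exact Ideal.mul_le_right (I := I.ideal U) (J := J.ideal U)

theorem isClosedImmersion_inclusion {I J : X.IdealSheafData} (h : I ≤ J) :
    IsClosedImmersion (Scheme.IdealSheafData.inclusion h) := by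
  haveI : IsClosedImmersion (Scheme.IdealSheafData.inclusion h ≫ I.subschemeι) := by
    rw [Scheme.IdealSheafData.inclusion_subschemeι]; infer_instance
  exact IsClosedImmersion.of_comp _ I.subschemeι

/-- The ideal of a smaller closed subscheme inside a bigger one, on an affine chart. -/
theorem ker_inclusion_ideal {I K : X.IdealSheafData} (h : K ≤ I) (U : X.affineOpens) :
    haveI := isClosedImmersion_inclusion h
    (Scheme.IdealSheafData.inclusion h).ker.ideal ⟨K.subschemeι ⁻¹ᵁ U.1, U.2.preimage K.subschemeι⟩ =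
      (I.ideal U).map (K.subschemeι.app U.1).hom := by
  haveI := isClosedImmersion_inclusion h
  rw [Scheme.Hom.ker_apply]
  have hcomp : ∀ y, (Scheme.IdealSheafData.inclusion h).app (K.subschemeι ⁻¹ᵁ U.1) (K.subschemeι.app U.1 y) = 0 ↔
      y ∈ I.ideal U := fun y => by
    rw [← I.ker_subschemeι_app U, RingHom.mem_ker]
    have h1 : (Scheme.IdealSheafData.inclusion h ≫ K.subschemeι).app U.1 y =
        (Scheme.IdealSheafData.inclusion h).app (K.subschemeι ⁻¹ᵁ U.1) (K.subschemeι.app U.1 y) := by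
      rw [Scheme.Hom.comp_app]; rfl
    rw [← h1]
    have h2 := Scheme.Hom.congr_app (Scheme.IdealSheafData.inclusion_subschemeι h) U.1
    rw [h2, CommRingCat.comp_apply]
    exact map_eq_zero_iff _ (ConcreteCategory.bijective_of_isIso _).injective
  refine le_antisymm (fun z hz => ?_) (Ideal.map_le_iff_le_comap.2 fun y hy => (hcomp y).2 hy)
  obtain ⟨y, rfl⟩ := K.subschemeι_app_surjective U z
  exact Ideal.mem_map_of_mem _ ((hcomp y).1 hz)

/-- The local shape of the ideals of two divisors inside their sum. -/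
def PairGen {D : Scheme.{u}} (P Q : D.IdealSheafData) (O : D.affineOpens) : Prop :=
  ∃ a b : Γ(D, O.1), P.ideal O = Ideal.span {a} ∧ Q.ideal O = Ideal.span {b} ∧ a * b = 0 ∧
    ∀ z, a * z = 0 → z ∈ Ideal.span {b}

theorem PairGen.basicOpen {D : Scheme.{u}} {P Q : D.IdealSheafData} {O : D.affineOpens} (h : PairGen P Q O)
    (r : Γ(D, O.1)) : PairGen P Q (D.affineBasicOpen r) := by
  obtain ⟨a, b, hP, hQ, hab, hann⟩ := h
  haveI := O.2.isLocalization_basicOpen r
  let ρ := algebraMap Γ(D, O.1) Γ(D, D.basicOpen r)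
  show ∃ a b : Γ(D, D.basicOpen r), P.ideal (D.affineBasicOpen r) = Ideal.span {a} ∧
    Q.ideal (D.affineBasicOpen r) = Ideal.span {b} ∧ a * b = 0 ∧ ∀ z, a * z = 0 → z ∈ Ideal.span {b}
  refine ⟨ρ a, ρ b, ?_, ?_, (by rw [← map_mul, hab, map_zero]), fun z hz => ?_⟩
  · refine (P.map_ideal_basicOpen O r).symm.trans ?_
    rw [hP, Ideal.map_span, Set.image_singleton]; rfl
  · refine (Q.map_ideal_basicOpen O r).symm.trans ?_
    rw [hQ, Ideal.map_span, Set.image_singleton]; rfl
  obtain ⟨⟨z₀, s⟩, hzs⟩ := IsLocalization.surj (Submonoid.powers r) z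
  obtain ⟨t, ht⟩ := (IsLocalization.map_eq_zero_iff (Submonoid.powers r) Γ(D, D.basicOpen r) (a * z₀)).1
    (by rw [map_mul, ← hzs, ← mul_assoc, hz, zero_mul])
  obtain ⟨w, hw⟩ := Ideal.mem_span_singleton.1 (hann ((t : Γ(D, O.1)) * z₀) (by rw [mul_left_comm, ht]))
  refine (Ideal.unit_mul_mem_iff_mem _ (IsLocalization.map_units Γ(D, D.basicOpen r) (t * s))).1 ?_
  rw [Submonoid.coe_mul, map_mul, mul_assoc, mul_comm (algebraMap _ _ (s : Γ(D, O.1))) z, hzs, ← map_mul, hw, map_mul]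
  exact Ideal.mul_mem_right _ _ (Ideal.mem_span_singleton_self _)

theorem exists_pairGen {I J : X.IdealSheafData} (hI : BlowUp.IsEffCartierIdeal I) (hJ : BlowUp.IsEffCartierIdeal J)
    (d : (I * J).subscheme) {V : (I * J).subscheme.affineOpens} (hd : d ∈ V.1) :
    ∃ g : Γ((I * J).subscheme, V.1), d ∈ (I * J).subscheme.basicOpen g ∧
      haveI := isClosedImmersion_inclusion (mul_le_left' I J)
      haveI := isClosedImmersion_inclusion (mul_le_right' I J)
      PairGen (Scheme.IdealSheafData.inclusion (mul_le_left' I J)).ker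
        (Scheme.IdealSheafData.inclusion (mul_le_right' I J)).ker ((I * J).subscheme.affineBasicOpen g) := by
  haveI := isClosedImmersion_inclusion (mul_le_left' I J)
  haveI := isClosedImmersion_inclusion (mul_le_right' I J)
  let K := I * J
  obtain ⟨U, hxU, -, ⟨a, ha, hIa⟩, ⟨b, hb, hJb⟩⟩ := exists_locGen₂ hI hJ (x := K.subschemeι d) (O := ⊤) trivial
  let O : K.subscheme.affineOpens := ⟨K.subschemeι ⁻¹ᵁ U.1, U.2.preimage K.subschemeι⟩
  obtain ⟨g, g', hgg, hdg⟩ := exists_basicOpen_le_affine_inter V.2 O.2 d ⟨hd, hxU⟩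
  refine ⟨g, hdg, ?_⟩
  have hO : PairGen (Scheme.IdealSheafData.inclusion (mul_le_left' I J)).ker
      (Scheme.IdealSheafData.inclusion (mul_le_right' I J)).ker O := by
    refine ⟨K.subschemeι.app U.1 a, K.subschemeι.app U.1 b, ?_, ?_, ?_, fun z hz => ?_⟩
    · rw [ker_inclusion_ideal, hIa, Ideal.map_span, Set.image_singleton]
    · rw [ker_inclusion_ideal, hJb, Ideal.map_span, Set.image_singleton]
    · rw [← map_mul]
      have h : a * b ∈ RingHom.ker (K.subschemeι.app U.1).hom := by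
        rw [K.ker_subschemeι_app U, Scheme.IdealSheafData.ideal_mul, Pi.mul_apply, hIa, hJb,
          Ideal.span_singleton_mul_span_singleton]
        exact Ideal.mem_span_singleton_self _
      exact h
    · obtain ⟨z, rfl⟩ := K.subschemeι_app_surjective U z
      have h : a * z ∈ RingHom.ker (K.subschemeι.app U.1).hom := by
        rw [RingHom.mem_ker, map_mul]; exact hz
      rw [K.ker_subschemeι_app U, Scheme.IdealSheafData.ideal_mul, Pi.mul_apply, hIa, hJb,
        Ideal.span_singleton_mul_span_singleton] at h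
      obtain ⟨c, hc⟩ := Ideal.mem_span_singleton'.1 h
      have : z = c * b := by
        refine sub_eq_zero.1 (mem_nonZeroDivisors_iff_right.1 ha _ ?_)
        rw [sub_mul, mul_comm z, ← hc]; ring
      rw [this, map_mul]
      exact Ideal.mul_mem_left _ _ (Ideal.mem_span_singleton_self _)
  have : K.subscheme.affineBasicOpen g = K.subscheme.affineBasicOpen g' := Subtype.ext hgg
  rw [this]
  exact hO.basicOpen g'

variable [SmoothOfRelativeDimension 1 f]

theorem isFinLocFree_mul {I J : X.IdealSheafData} (hI : Mor2.IsFinLocFree (I.subschemeι ≫ f))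
    (hJ : Mor2.IsFinLocFree (J.subschemeι ≫ f)) : Mor2.IsFinLocFree ((I * J).subschemeι ≫ f) := by
  obtain ⟨hcI, hfI⟩ := effCartier_of_finLocFree f I hI
  obtain ⟨hcJ, hfJ⟩ := effCartier_of_finLocFree f J hJ
  obtain ⟨hc, hf⟩ := flat_mul f hcI hcJ hfI hfJ
  obtain ⟨hqf, hfp⟩ := qf_lfp f (I * J) hc hf
  haveI := hI.1
  haveI := hJ.1
  haveI := isClosedImmersion_inclusion (mul_le_left' I J)
  haveI := isClosedImmersion_inclusion (mul_le_right' I J)
  let u := coprod.desc (Scheme.IdealSheafData.inclusion (mul_le_left' I J))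
    (Scheme.IdealSheafData.inclusion (mul_le_right' I J))
  haveI : IsFinite u := inferInstance
  haveI : IsFinite (u ≫ (I * J).subschemeι ≫ f) := by
    rw [coprod.desc_comp, Scheme.IdealSheafData.inclusion_subschemeι_assoc,
      Scheme.IdealSheafData.inclusion_subschemeι_assoc]
    infer_instance
  haveI : Surjective u := ⟨fun d => by
    have hd : (I * J).subschemeι d ∈ ((I * J).support : Set X) := by
      rw [← Scheme.IdealSheafData.range_subschemeι]; exact ⟨d, rfl⟩
    rw [Scheme.IdealSheafData.support_mul] at hd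
    rcases hd with hd | hd <;> rw [← Scheme.IdealSheafData.range_subschemeι] at hd <;> obtain ⟨e, he⟩ := hd
    · refine ⟨(coprod.inl : I.subscheme ⟶ I.subscheme ⨿ J.subscheme) e,
        (I * J).subschemeι.isClosedEmbedding.injective ?_⟩
      rw [← Scheme.Hom.comp_apply, ← Scheme.Hom.comp_apply, coprod.inl_desc_assoc,
        Scheme.IdealSheafData.inclusion_subschemeι, he]
    · refine ⟨(coprod.inr : J.subscheme ⟶ I.subscheme ⨿ J.subscheme) e,
        (I * J).subschemeι.isClosedEmbedding.injective ?_⟩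
      rw [← Scheme.Hom.comp_apply, ← Scheme.Hom.comp_apply, coprod.inr_desc_assoc,
        Scheme.IdealSheafData.inclusion_subschemeι, he]⟩
  haveI := hfp
  haveI := hqf
  haveI : IsProper ((I * J).subschemeι ≫ f) := QCoh.isProper_of_comp_surjective u _
  exact ⟨(IsFinite.iff_isProper_and_locallyQuasiFinite _).2 ⟨inferInstance, inferInstance⟩, hf, hfp⟩

theorem finrank_mul {I J : X.IdealSheafData} (hI : Mor2.IsFinLocFree (I.subschemeι ≫ f))
    (hJ : Mor2.IsFinLocFree (J.subschemeι ≫ f)) (y : S) :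
    ((I * J).subschemeι ≫ f).finrank y = (I.subschemeι ≫ f).finrank y + (J.subschemeι ≫ f).finrank y := by
  obtain ⟨hcI, -⟩ := effCartier_of_finLocFree f I hI
  obtain ⟨hcJ, -⟩ := effCartier_of_finLocFree f J hJ
  obtain ⟨hπf, hπfl, hπfp⟩ := isFinLocFree_mul f hI hJ
  obtain ⟨_, ⟨W, hW, rfl⟩, hyW, -⟩ :=
    S.isBasis_affineOpens.exists_subset_of_mem_open (Set.mem_univ y) isOpen_univ
  let π := (I * J).subschemeι ≫ f
  haveI := isClosedImmersion_inclusion (mul_le_left' I J)
  haveI := isClosedImmersion_inclusion (mul_le_right' I J)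
  let D := (I * J).subscheme
  let V : D.affineOpens := ⟨π ⁻¹ᵁ W, hW.preimage π⟩
  letI := (π.app W).hom.toAlgebra
  haveI : Module.Finite Γ(S, W) Γ(D, V.1) := RingHom.finite_algebraMap.1 (π.finite_app W hW)
  haveI : Module.Flat Γ(S, W) Γ(D, V.1) := RingHom.flat_algebraMap_iff.1 (by
    have := π.flat_appLE hW (hW.preimage π) le_rfl
    rwa [← Scheme.Hom.app_eq_appLE] at this)
  haveI hfpE : Algebra.FinitePresentation Γ(S, W) Γ(D, V.1) := RingHom.finitePresentation_algebraMap.1 (by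
    have := HasRingHomProperty.appLE @LocallyOfFinitePresentation π hπfp ⟨W, hW⟩ V le_rfl
    rwa [← Scheme.Hom.app_eq_appLE] at this)
  haveI : Module.FinitePresentation Γ(S, W) Γ(D, V.1) := Module.FinitePresentation.of_finite_of_finitePresentation _ _
  have key : ∀ {K : X.IdealSheafData} (h : I * J ≤ K), Mor2.IsFinLocFree (K.subschemeι ≫ f) →
      haveI := isClosedImmersion_inclusion h
      let P := (Scheme.IdealSheafData.inclusion h).ker.ideal V
      Module.Flat Γ(S, W) (Γ(D, V.1) ⧸ P) ∧ Module.FinitePresentation Γ(S, W) (Γ(D, V.1) ⧸ P) ∧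
        (K.subschemeι ≫ f).finrank y = Module.rankAtStalk (Γ(D, V.1) ⧸ P) (hW.primeIdealOf ⟨y, hyW⟩) := by
    intro K h hK
    haveI := isClosedImmersion_inclusion h
    obtain ⟨hKf, hKfl, hKfp⟩ : Mor2.IsFinLocFree (Scheme.IdealSheafData.inclusion h ≫ π) := by
      rw [← Category.assoc, Scheme.IdealSheafData.inclusion_subschemeι]; exact hK
    let i := Scheme.IdealSheafData.inclusion h
    letI : Algebra Γ(S, W) Γ(K.subscheme, (i ≫ π) ⁻¹ᵁ W) := ((i ≫ π).app W).hom.toAlgebra
    let e : (Γ(D, V.1) ⧸ i.ker.ideal V) ≃ₐ[Γ(S, W)] Γ(K.subscheme, (i ≫ π) ⁻¹ᵁ W) :=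
      (Ideal.quotientEquivAlgOfEq Γ(S, W) (Scheme.Hom.ker_apply i V)).trans
        (Ideal.quotientKerAlgEquivOfSurjective
          (f := ({ (i.app V.1).hom with commutes' := fun r => rfl } : Γ(D, V.1) →ₐ[Γ(S, W)] Γ(K.subscheme, (i ≫ π) ⁻¹ᵁ W)))
          (i.app_surjective V.1 V.2))
    haveI : Module.Flat Γ(S, W) Γ(K.subscheme, (i ≫ π) ⁻¹ᵁ W) := RingHom.flat_algebraMap_iff.1 (by
      have := (i ≫ π).flat_appLE hW (hW.preimage (i ≫ π)) le_rfl
      rwa [← Scheme.Hom.app_eq_appLE] at this)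
    haveI : Algebra.FinitePresentation Γ(S, W) Γ(K.subscheme, (i ≫ π) ⁻¹ᵁ W) :=
      RingHom.finitePresentation_algebraMap.1 (by
        have := HasRingHomProperty.appLE @LocallyOfFinitePresentation (i ≫ π) hKfp ⟨W, hW⟩
          ⟨_, hW.preimage (i ≫ π)⟩ le_rfl
        rwa [← Scheme.Hom.app_eq_appLE] at this)
    haveI : Module.Finite Γ(S, W) Γ(K.subscheme, (i ≫ π) ⁻¹ᵁ W) :=
      RingHom.finite_algebraMap.1 ((i ≫ π).finite_app W hW)
    haveI : Module.FinitePresentation Γ(S, W) Γ(K.subscheme, (i ≫ π) ⁻¹ᵁ W) :=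
      Module.FinitePresentation.of_finite_of_finitePresentation _ _
    refine ⟨Module.Flat.of_linearEquiv e.toLinearEquiv,
      Module.finitePresentation_of_surjective e.symm.toLinearEquiv.toLinearMap e.symm.surjective
        (by rw [LinearEquiv.ker]; exact Submodule.fg_bot), ?_⟩
    rw [Module.rankAtStalk_eq_of_equiv e.toLinearEquiv, ← finrank_eq_rankAtStalk (i ≫ π) hW y hyW,
      ← Category.assoc, Scheme.IdealSheafData.inclusion_subschemeι]
  obtain ⟨hf1, hp1, hr1⟩ := key (mul_le_left' I J) hI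
  obtain ⟨hf2, hp2, hr2⟩ := key (mul_le_right' I J) hJ
  rw [finrank_eq_rankAtStalk π hW y hyW, hr1, hr2]
  have hloc := fun (d : D) (hd : d ∈ V.1) => exists_pairGen hcI hcJ d hd
  refine RankAdd.rankAtStalk_add ?_ ?_ _
  · intro x hx z hz
    refine D.IsSheaf.section_ext fun d hd => ?_
    obtain ⟨g, hdg, hpair⟩ := hloc d hd
    change ∃ a b : Γ(D, D.basicOpen g), _ at hpair
    obtain ⟨a, b, hPa, hQb, hab, -⟩ := hpair
    refine ⟨D.basicOpen g, D.basicOpen_le g, hdg, ?_⟩
    have h1 := Ideal.mem_map_of_mem (D.presheaf.map (homOfLE (D.basicOpen_le g)).op).hom hx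
    have h2 := Ideal.mem_map_of_mem (D.presheaf.map (homOfLE (D.basicOpen_le g)).op).hom hz
    rw [Scheme.IdealSheafData.map_ideal_basicOpen] at h1 h2
    rw [hPa] at h1
    rw [hQb] at h2
    obtain ⟨c, hc⟩ := Ideal.mem_span_singleton'.1 h1
    obtain ⟨c', hc'⟩ := Ideal.mem_span_singleton'.1 h2
    show (D.presheaf.map _).hom (x * z) = (D.presheaf.map _).hom 0
    rw [map_mul, map_zero, ← hc, ← hc', mul_mul_mul_comm, hab, mul_zero]
  intro M hM
  have hdV : V.2.fromSpec ⟨M, hM⟩ ∈ V.1 := by rw [← SetLike.mem_coe, ← V.2.range_fromSpec]; exact ⟨_, rfl⟩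
  obtain ⟨g, hdg, hpair⟩ := hloc _ hdV
  change ∃ a b : Γ(D, D.basicOpen g), _ at hpair
  obtain ⟨a', b', hPa, hQb, hab, hann⟩ := hpair
  have hgM : g ∉ M := by
    have h : (⟨M, hM⟩ : PrimeSpectrum _) ∈ V.2.fromSpec ⁻¹ᵁ D.basicOpen g := hdg
    rw [V.2.fromSpec_preimage_basicOpen] at h
    exact h
  haveI := V.2.isLocalization_basicOpen g
  let ρ := algebraMap Γ(D, V.1) Γ(D, D.basicOpen g)
  have hpow : ∀ s : Submonoid.powers g, (s : Γ(D, V.1)) ∉ M := by
    rintro ⟨-, n, rfl⟩ h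
    exact hgM (hM.mem_of_pow_mem n h)
  have hmemP : a' ∈ ((Scheme.IdealSheafData.inclusion (mul_le_left' I J)).ker.ideal V).map ρ := by
    rw [show ((Scheme.IdealSheafData.inclusion (mul_le_left' I J)).ker.ideal V).map ρ = _ from
      (Scheme.IdealSheafData.map_ideal_basicOpen _ V g).trans hPa]
    exact Ideal.mem_span_singleton_self a'
  obtain ⟨⟨⟨a, ha⟩, s⟩, has⟩ := (IsLocalization.mem_map_algebraMap_iff (Submonoid.powers g) _).1 hmemP
  have hu := IsLocalization.map_units Γ(D, D.basicOpen g) s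
  refine ⟨a, ha, fun w hw => ?_, fun x hx => ?_⟩
  · have h1 : ρ w ∈ Ideal.span {ρ a} := by
      have h := Ideal.mem_map_of_mem ρ hw
      rw [show ((Scheme.IdealSheafData.inclusion (mul_le_left' I J)).ker.ideal V).map ρ = _ from
        (Scheme.IdealSheafData.map_ideal_basicOpen _ V g).trans hPa] at h
      obtain ⟨c, hc⟩ := Ideal.mem_span_singleton'.1 h
      obtain ⟨v, hv⟩ := hu
      refine Ideal.mem_span_singleton'.2 ⟨c * ↑v⁻¹, ?_⟩
      rw [← hc, show ρ a = a' * ↑v from by rw [hv]; exact has.symm, mul_comm a' _, ← mul_assoc, mul_assoc c,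
        Units.inv_mul, mul_one]
    rw [← Set.image_singleton, ← Ideal.map_span,
      IsLocalization.algebraMap_mem_map_algebraMap_iff (Submonoid.powers g)] at h1
    obtain ⟨t, ht, htw⟩ := h1
    exact ⟨t, hpow ⟨t, ht⟩, htw⟩
  · have h0 : a' * ρ x = 0 := by
      refine (hu.mul_left_eq_zero).1 ?_
      rw [mul_right_comm, has, ← map_mul, hx, map_zero]
    have h1 : ρ x ∈ ((Scheme.IdealSheafData.inclusion (mul_le_right' I J)).ker.ideal V).map ρ := by
      rw [show ((Scheme.IdealSheafData.inclusion (mul_le_right' I J)).ker.ideal V).map ρ = _ from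
        (Scheme.IdealSheafData.map_ideal_basicOpen _ V g).trans hQb]
      exact hann _ h0
    rw [IsLocalization.algebraMap_mem_map_algebraMap_iff (Submonoid.powers g)] at h1
    obtain ⟨t, ht, htx⟩ := h1
    exact ⟨t, hpow ⟨t, ht⟩, htx⟩

theorem sum_finLocFreeOfDeg {I J : X.IdealSheafData} {d e : ℕ} (hI : Mor2.IsFinLocFreeOfDeg d (I.subschemeι ≫ f))
    (hJ : Mor2.IsFinLocFreeOfDeg e (J.subschemeι ≫ f)) :
    Mor2.IsFinLocFreeOfDeg (d + e) ((I * J).subschemeι ≫ f) :=
  ⟨isFinLocFree_mul f hI.1 hJ.1, fun y => by rw [finrank_mul f hI.1 hJ.1 y, hI.2 y, hJ.2 y]⟩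

theorem exists_difference (I₁ I₂ : X.IdealSheafData) (hle : I₂ ≤ I₁) {d₁ d₂ : ℕ}
    (h₁ : Mor2.IsFinLocFreeOfDeg d₁ (I₁.subschemeι ≫ f)) (h₂ : Mor2.IsFinLocFreeOfDeg d₂ (I₂.subschemeι ≫ f)) :
    ∃ I : X.IdealSheafData, Mor2.IsFinLocFreeOfDeg (d₂ - d₁) (I.subschemeι ≫ f) ∧ I₂ = I₁ * I := by
  obtain ⟨hc1, hf1⟩ := effCartier_of_finLocFree f I₁ h₁.1
  obtain ⟨hc2, hf2⟩ := effCartier_of_finLocFree f I₂ h₂.1
  let I := ModPairLib.colon I₂ I₁ (ModPairLib.isLocPrincipal_of_isEffCartier hc1)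
  have hmul : I * I₁ = I₂ := ModPairLib.colon_mul hc1 hle
  have hcI : BlowUp.IsEffCartierIdeal I := ModPairLib.isEffCartier_of_mul hc1 (hmul.symm ▸ hc2)
  have hmul' : I₁ * I = I₂ := by rw [mul_comm]; exact hmul
  have hfI := flat_cancel f hc1 hcI hf1 hf2 hmul'
  obtain ⟨-, hfp⟩ := qf_lfp f I hcI hfI
  have hle' : I₂ ≤ I := hmul ▸ mul_le_left' I I₁
  haveI := isClosedImmersion_inclusion hle'
  haveI := h₂.1.1
  have hfin : IsFinite (I.subschemeι ≫ f) := by
    rw [← Scheme.IdealSheafData.inclusion_subschemeι hle', Category.assoc]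
    infer_instance
  refine ⟨I, ⟨⟨hfin, hfI, hfp⟩, fun y => ?_⟩, hmul'.symm⟩
  have h := finrank_mul f h₁.1 ⟨hfin, hfI, hfp⟩ y
  rw [hmul', h₂.2 y, h₁.2 y] at h
  omega

end Groth.Agent.Grass60.CurveDiv
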