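import Groth.Agent.Grass60.NatHom

/-!
Zariski sheaves on commutative algebras, extended to schemes over the base by natural families of
affine points.
-/

set_option autoImplicit false
set_option backward.isDefEq.respectTransparency false
set_option linter.style.haveILetI false

universe u

open CategoryTheory CategoryTheory.Limits AlgebraicGeometry

namespace Groth.Agent.Grass60

open Synt29.RepOpen

variable {R : Type u} [CommRing R]

/-- A functor on commutative algebras satisfying Zariski descent. -/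
structure IsZarSheaf (F : CommAlgCat.{u} R ⥤ Type u) : Prop where
  /-- values are determined locally -/
  sep : ∀ (A : CommAlgCat.{u} R) (s : Set A), Ideal.span s = ⊤ → ∀ x y : F.obj A,
    (∀ f ∈ s, F.map (toAway A f) x = F.map (toAway A f) y) → x = y
  /-- compatible local values glue -/
  glue : ∀ (A : CommAlgCat.{u} R) (s : Set A), Ideal.span s = ⊤ →
    ∀ x : (∀ f : s, F.obj (CommAlgCat.of R (Localization.Away (f : A)))),
    (∀ (f g : s) (B : CommAlgCat.{u} R) (φ : CommAlgCat.of R (Localization.Away (f : A)) ⟶ B)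
      (ψ : CommAlgCat.of R (Localization.Away (g : A)) ⟶ B),
      toAway A (f : A) ≫ φ = toAway A (g : A) ≫ ψ → F.map φ (x f) = F.map ψ (x g)) →
    ∃ y : F.obj A, ∀ f : s, F.map (toAway A (f : A)) y = x f

theorem spOver_injective {A B : CommAlgCat.{u} R} {φ ψ : A ⟶ B} (h : spOver φ = spOver ψ) : φ = ψ := by
  have h' : Spec.map (CommRingCat.ofHom φ.hom.toRingHom) = Spec.map (CommRingCat.ofHom ψ.hom.toRingHom) :=
    congrArg CommaMorphism.left h
  exact CommAlgCat.hom_ext (AlgHom.coe_ringHom_injective (congrArg CommRingCat.Hom.hom (Spec.map_injective h')))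

theorem spOver_id (A : CommAlgCat.{u} R) : spOver (𝟙 A) = 𝟙 (sp A) :=
  Over.OverMorphism.ext (Spec.map_id _)

/-- The algebra map behind a morphism of spectra. -/
noncomputable def algOf {A B : CommAlgCat.{u} R} (g : sp B ⟶ sp A) : A ⟶ B := (exists_spMap g).choose

theorem spOver_algOf {A B : CommAlgCat.{u} R} (g : sp B ⟶ sp A) : spOver (algOf g) = g :=
  (exists_spMap g).choose_spec.symm

theorem algOf_spOver {A B : CommAlgCat.{u} R} (φ : A ⟶ B) : algOf (spOver φ) = φ :=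
  spOver_injective (spOver_algOf _)

theorem algOf_id (A : CommAlgCat.{u} R) : algOf (𝟙 (sp A)) = 𝟙 A := by rw [← spOver_id, algOf_spOver]

theorem algOf_comp {A B C : CommAlgCat.{u} R} (g : sp C ⟶ sp B) (h : sp B ⟶ sp A) :
    algOf (g ≫ h) = algOf h ≫ algOf g :=
  spOver_injective (by rw [spOver_algOf, spOver_comp, spOver_algOf, spOver_algOf])

variable (F : CommAlgCat.{u} R ⥤ Type u)

/-- A natural family of values of `F` at the affine points of a scheme over the base. -/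
def Fam (T : Over (Spec (CommRingCat.of R))) : Type (u + 1) :=
  {x : ∀ A : CommAlgCat.{u} R, (sp A ⟶ T) → F.obj A //
    ∀ (A B : CommAlgCat.{u} R) (φ : A ⟶ B) (g : sp A ⟶ T), x B (spOver φ ≫ g) = F.map φ (x A g)}

variable {F}

/-- Pullback of a family. -/
noncomputable def Fam.map {T T' : Over (Spec (CommRingCat.of R))} (h : T' ⟶ T) (x : Fam F T) : Fam F T' :=
  ⟨fun A g => x.1 A (g ≫ h), fun A B φ g => by
    show x.1 B ((spOver φ ≫ g) ≫ h) = _
    rw [Category.assoc, x.2]⟩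

theorem Fam.map_val {T T' : Over (Spec (CommRingCat.of R))} (h : T' ⟶ T) (x : Fam F T) (A : CommAlgCat.{u} R)
    (g : sp A ⟶ T') : (x.map h).1 A g = x.1 A (g ≫ h) := rfl

theorem Fam.ext' {T : Over (Spec (CommRingCat.of R))} {x y : Fam F T}
    (h : ∀ (A : CommAlgCat.{u} R) (g : sp A ⟶ T), x.1 A g = y.1 A g) : x = y :=
  Subtype.ext (funext fun A => funext (h A))

/-- The family on an affine scheme attached to a value. -/
noncomputable def Fam.ofPt {C : CommAlgCat.{u} R} (z : F.obj C) : Fam F (sp C) :=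
  ⟨fun _ g => F.map (algOf g) z, fun A B φ g => by
    show F.map (algOf (spOver φ ≫ g)) z = _
    rw [algOf_comp, algOf_spOver, Functor.map_comp_apply]⟩

theorem Fam.ofPt_val {C : CommAlgCat.{u} R} (z : F.obj C) (A : CommAlgCat.{u} R) (g : sp A ⟶ sp C) :
    (Fam.ofPt z).1 A g = F.map (algOf g) z := rfl

theorem Fam.ofPt_id {C : CommAlgCat.{u} R} (z : F.obj C) : (Fam.ofPt z).1 C (𝟙 _) = z := by
  show F.map (algOf (𝟙 _)) z = z
  rw [algOf_id]
  exact congrArg (fun f => f z) (congrArg ConcreteCategory.hom (F.map_id C))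

theorem Fam.eq_ofPt {C : CommAlgCat.{u} R} (x : Fam F (sp C)) : x = Fam.ofPt (x.1 C (𝟙 _)) :=
  Fam.ext' fun A g => by
    conv_lhs => rw [show g = spOver (algOf g) ≫ 𝟙 _ by rw [Category.comp_id, spOver_algOf]]
    rw [x.2]
    rfl

section Cover

variable {T : Over (Spec (CommRingCat.of R))} (𝒰 : T.left.OpenCover)

/-- An affine point lands locally in members of a cover. -/
theorem span_lift_eq_top {A : CommAlgCat.{u} R} (g : sp A ⟶ T) :
    Ideal.span {f : A | ∃ (i : 𝒰.I₀) (a : sp (CommAlgCat.of R (Localization.Away f)) ⟶ member 𝒰 i),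
      a ≫ incl 𝒰 i = spOver (toAway A f) ≫ g} = ⊤ := by
  rw [← PrimeSpectrum.iSup_basicOpen_eq_top_iff']
  refine eq_top_iff.2 fun p _ => ?_
  obtain ⟨i, y, hy⟩ := 𝒰.exists_eq (g.left p)
  haveI : IsOpenImmersion (𝒰.f i) := 𝒰.map_prop i
  have hp : (p : Spec (CommRingCat.of A)) ∈ g.left ⁻¹ᵁ (𝒰.f i).opensRange := ⟨y, hy⟩
  obtain ⟨_, ⟨_, ⟨r, rfl⟩, rfl⟩, hpr, hrU⟩ :=
    (PrimeSpectrum.isBasis_basic_opens (R := A)).exists_subset_of_mem_open (a := p)
      (u := ((g.left ⁻¹ᵁ (𝒰.f i).opensRange).1 : Set (PrimeSpectrum A))) hp (g.left ⁻¹ᵁ _).2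
  refine TopologicalSpace.Opens.mem_iSup.2 ⟨r, TopologicalSpace.Opens.mem_iSup.2 ⟨?_, hpr⟩⟩
  have hsub : Set.range (spMap (toAway A r) ≫ g.left) ⊆ Set.range (𝒰.f i) := by
    rintro _ ⟨q, rfl⟩
    have hq : spMap (toAway A r) q ∈ Set.range (PrimeSpectrum.comap (algebraMap A (Localization.Away r))) := ⟨q, rfl⟩
    rw [PrimeSpectrum.localization_away_comap_range (Localization.Away r) r] at hq
    exact hrU hq
  refine ⟨i, Over.homMk (IsOpenImmersion.lift (𝒰.f i) (spMap (toAway A r) ≫ g.left) hsub) ?_,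
    Over.OverMorphism.ext (IsOpenImmersion.lift_fac _ _ _)⟩
  show IsOpenImmersion.lift _ _ _ ≫ 𝒰.f i ≫ T.hom = _
  rw [IsOpenImmersion.lift_fac_assoc, Category.assoc, Over.w g]
  exact spMap_w _

variable (hF : IsZarSheaf F)

include hF in
theorem Fam.ext_cover {x y : Fam F T}
    (h : ∀ (i : 𝒰.I₀) (A : CommAlgCat.{u} R) (a : sp A ⟶ member 𝒰 i),
      x.1 A (a ≫ incl 𝒰 i) = y.1 A (a ≫ incl 𝒰 i)) : x = y :=
  Fam.ext' fun A g => hF.sep A _ (span_lift_eq_top 𝒰 g) _ _ fun f hf => by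
    obtain ⟨i, a, ha⟩ := hf
    rw [← x.2, ← y.2, ← ha, h]

include hF in
theorem existsUnique_value (y : ∀ i, Fam F (member 𝒰 i))
    (hy : ∀ (i j : 𝒰.I₀) (B : CommAlgCat.{u} R) (a : sp B ⟶ member 𝒰 i) (b : sp B ⟶ member 𝒰 j),
      a ≫ incl 𝒰 i = b ≫ incl 𝒰 j → (y i).1 B a = (y j).1 B b)
    {A : CommAlgCat.{u} R} (g : sp A ⟶ T) :
    ∃! x : F.obj A, ∀ (C : CommAlgCat.{u} R) (c : A ⟶ C) (i : 𝒰.I₀) (a : sp C ⟶ member 𝒰 i),
      spOver c ≫ g = a ≫ incl 𝒰 i → F.map c x = (y i).1 C a := by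
  have hs := span_lift_eq_top 𝒰 g
  set s := {f : A | ∃ (i : 𝒰.I₀) (a : sp (CommAlgCat.of R (Localization.Away f)) ⟶ member 𝒰 i),
    a ≫ incl 𝒰 i = spOver (toAway A f) ≫ g} with hsdef
  choose i a ha using fun f : s => f.2
  obtain ⟨x, hx⟩ := hF.glue A s hs (fun f => (y (i f)).1 _ (a f)) fun f f' B φ ψ h => by
    rw [← (y (i f)).2, ← (y (i f')).2]
    exact hy _ _ B _ _ (by
      rw [Category.assoc, Category.assoc, ha, ha, ← Category.assoc, ← Category.assoc, ← spOver_comp,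
        ← spOver_comp, h])
  refine ⟨x, fun C c j b hb => ?_, fun x' hx' => ?_⟩
  · have hsC : Ideal.span (c.hom '' s) = ⊤ := by
      rw [show c.hom '' s = (c.hom : A →+* C) '' s from rfl, ← Ideal.map_span, hs, Ideal.map_top]
    refine hF.sep C _ hsC _ _ ?_
    rintro _ ⟨f, hf, rfl⟩
    let ψ : CommAlgCat.of R (Localization.Away f) ⟶ CommAlgCat.of R (Localization.Away (c.hom f)) :=
      CommAlgCat.ofHom (IsLocalization.liftAlgHom (M := Submonoid.powers f)
        (f := (IsScalarTower.toAlgHom R C (Localization.Away (c.hom f))).comp c.hom) fun z => by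
          obtain ⟨k, hk⟩ := z.2
          rw [← hk, map_pow]
          exact (IsLocalization.Away.algebraMap_isUnit (c.hom f)).pow k)
    have hψ : toAway A f ≫ ψ = c ≫ toAway C (c.hom f) :=
      CommAlgCat.hom_ext (AlgHom.ext fun z => IsLocalization.lift_eq _ _)
    rw [← Functor.map_comp_apply, ← hψ, Functor.map_comp_apply, hx ⟨f, hf⟩, ← (y j).2,
      ← (y (i ⟨f, hf⟩)).2]
    refine hy _ _ _ _ _ ?_
    rw [Category.assoc, Category.assoc, ha, ← hb, ← Category.assoc, ← Category.assoc, ← spOver_comp,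
      ← spOver_comp, hψ]
  · refine hF.sep A s hs _ _ fun f hf => ?_
    rw [hx ⟨f, hf⟩]
    exact hx' _ _ _ _ (ha ⟨f, hf⟩).symm

include hF in
/-- Families glue along a cover. -/
theorem Fam.exists_glue (y : ∀ i, Fam F (member 𝒰 i))
    (hy : ∀ (i j : 𝒰.I₀) (B : CommAlgCat.{u} R) (a : sp B ⟶ member 𝒰 i) (b : sp B ⟶ member 𝒰 j),
      a ≫ incl 𝒰 i = b ≫ incl 𝒰 j → (y i).1 B a = (y j).1 B b) :
    ∃ x : Fam F T, ∀ i, x.map (incl 𝒰 i) = y i := by
  choose v hv hvu using fun (A : CommAlgCat.{u} R) (g : sp A ⟶ T) => existsUnique_value 𝒰 hF y hy g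
  refine ⟨⟨v, fun A B φ g => (hvu B (spOver φ ≫ g) _ fun C c i a h => ?_).symm⟩, fun i => Fam.ext' fun A a => ?_⟩
  · rw [← Functor.map_comp_apply]
    exact hv A g C (φ ≫ c) i a (by rw [spOver_comp, Category.assoc, h])
  · show v A (a ≫ incl 𝒰 i) = _
    rw [← hv A (a ≫ incl 𝒰 i) A (𝟙 A) i a (by rw [spOver_id, Category.id_comp])]
    exact (show F.map (𝟙 A) (v A (a ≫ incl 𝒰 i)) = v A (a ≫ incl 𝒰 i) by rw [F.map_id]; rfl).symm

end Cover

theorem small_fam (hF : IsZarSheaf F) (T : Over (Spec (CommRingCat.of R))) : Small.{u} (Fam F T) := by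
  let 𝒰 := T.left.affineCover
  have haff : ∀ i, IsAffine (member 𝒰 i).left := fun i => inferInstanceAs (IsAffine (T.left.affineCover.X i))
  choose A hA using fun i => haveI := haff i; exists_sp_iso (member 𝒰 i)
  let Φ : Fam F T → ∀ i, F.obj (A i) := fun x i => x.1 (A i) ((hA i).some.hom ≫ incl 𝒰 i)
  refine small_of_injective (f := Φ) fun x y h => Fam.ext_cover 𝒰 hF fun i B a => ?_
  obtain ⟨φ, hφ⟩ := exists_spMap (a ≫ (hA i).some.inv)
  have e : a ≫ incl 𝒰 i = spOver φ ≫ ((hA i).some.hom ≫ incl 𝒰 i) := by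
    rw [← hφ, Category.assoc, Iso.inv_hom_id_assoc]
  rw [e, x.2, y.2]
  exact congrArg _ (congrFun h i)

end Groth.Agent.Grass60
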