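import Groth.Agent.Grass60.Fam

/-!
Representability of Zariski sheaves on commutative algebras covered by open affine charts.
-/

set_option autoImplicit false
set_option backward.isDefEq.respectTransparency false
set_option linter.style.haveILetI false

universe u

open CategoryTheory CategoryTheory.Limits AlgebraicGeometry Opposite

namespace Groth.Agent.Grass60

open Synt29.RepOpen

variable {R : Type u} [CommRing R] {F : CommAlgCat.{u} R ⥤ Type u}

/-- Morphisms agreeing on pairs of affine points glue along a cover. -/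
theorem exists_glue_hom {Y X : Over (Spec (CommRingCat.of R))} (𝒰 : Y.left.OpenCover) (f : ∀ i, member 𝒰 i ⟶ X)
    (hf : ∀ (i j : 𝒰.I₀) (B : CommAlgCat.{u} R) (a : sp B ⟶ member 𝒰 i) (b : sp B ⟶ member 𝒰 j),
      a ≫ incl 𝒰 i = b ≫ incl 𝒰 j → a ≫ f i = b ≫ f j) :
    ∃ c : Y ⟶ X, ∀ i, incl 𝒰 i ≫ c = f i := by
  have hov : ∀ i j, pullback.fst (𝒰.f i) (𝒰.f j) ≫ (f i).left = pullback.snd (𝒰.f i) (𝒰.f j) ≫ (f j).left := by
    intro i j
    let P : Over (Spec (CommRingCat.of R)) := Over.mk (pullback.fst (𝒰.f i) (𝒰.f j) ≫ (member 𝒰 i).hom)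
    let p : P ⟶ member 𝒰 i := Over.homMk (pullback.fst (𝒰.f i) (𝒰.f j)) rfl
    let q : P ⟶ member 𝒰 j := Over.homMk (pullback.snd (𝒰.f i) (𝒰.f j))
      (pullback.condition_assoc (f := 𝒰.f i) (g := 𝒰.f j) Y.hom).symm
    have hpq : p ≫ incl 𝒰 i = q ≫ incl 𝒰 j := Over.OverMorphism.ext pullback.condition
    have : p ≫ f i = q ≫ f j := hom_ext_pts fun B g => by
      rw [← Category.assoc, ← Category.assoc]
      exact hf i j B _ _ (by rw [Category.assoc, Category.assoc, hpq])
    exact congrArg CommaMorphism.left this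
  obtain ⟨c₀, hc₀⟩ : ∃ c₀, ∀ i, 𝒰.f i ≫ c₀ = (f i).left :=
    ⟨Scheme.Cover.glueMorphisms 𝒰 (fun i => (f i).left) hov, fun i => Scheme.Cover.ι_glueMorphisms 𝒰 _ _ i⟩
  exact ⟨Over.homMk c₀ (Scheme.Cover.hom_ext 𝒰 _ _ fun i => by
      rw [← Category.assoc, hc₀]; exact Over.w (f i)),
    fun i => Over.OverMorphism.ext (hc₀ i)⟩

/-- Every point is carried by a field-valued point. -/
theorem exists_field_pt (X : Over (Spec (CommRingCat.of R))) (x : X.left) :
    ∃ (L : CommAlgCat.{u} R) (_ : IsField L) (p : sp L ⟶ X), ∀ z, p.left z = x := by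
  obtain ⟨χ, hχ⟩ : ∃ χ, Spec.map χ = X.left.fromSpecResidueField x ≫ X.hom :=
    ⟨Spec.preimage _, Spec.map_preimage _⟩
  letI : Algebra R (X.left.residueField x) := χ.hom.toAlgebra
  exact ⟨CommAlgCat.of R (X.left.residueField x), Field.toIsField _,
    Over.homMk (X.left.fromSpecResidueField x) hχ.symm, fun z => Scheme.fromSpecResidueField_apply x z⟩

/-- A morphism over the base is determined by its underlying morphism. -/
theorem homMk_left_eq {X Y : Over (Spec (CommRingCat.of R))} (g : X ⟶ Y) (w : g.left ≫ Y.hom = X.hom) :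
    Over.homMk g.left w = g := Over.OverMorphism.ext rfl

variable (hF : IsZarSheaf F)

/-- A value of the extension of `F` to a scheme: a structure map and a natural family. -/
structure Pt (T : Scheme.{u}) : Type u where
  /-- the structure map -/
  str : T ⟶ Spec (CommRingCat.of R)
  /-- the family, shrunk -/
  val : @Shrink.{u} (Fam F (Over.mk str)) (small_fam hF _)

variable {hF} {T T' : Scheme.{u}}

/-- The family of a value. -/
noncomputable def Pt.fam (x : Pt hF T) : Fam F (Over.mk x.str) :=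
  (@equivShrink _ (small_fam hF _)).symm x.val

/-- A value from a family. -/
noncomputable def Pt.mk' (p : T ⟶ Spec (CommRingCat.of R)) (v : Fam F (Over.mk p)) : Pt hF T :=
  ⟨p, @equivShrink _ (small_fam hF _) v⟩

theorem Pt.fam_mk' (p : T ⟶ Spec (CommRingCat.of R)) (v : Fam F (Over.mk p)) :
    (Pt.mk' (hF := hF) p v).fam = v := (@equivShrink _ (small_fam hF _)).symm_apply_apply v

/-- Evaluation at an affine point. -/
noncomputable def Pt.ev (x : Pt hF T) (A : CommAlgCat.{u} R) (a : Spec (CommRingCat.of A) ⟶ T)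
    (w : a ≫ x.str = (sp A).hom) : F.obj A :=
  x.fam.1 A (Over.homMk a w)

theorem Pt.ext' {x y : Pt hF T} (h : x.str = y.str)
    (hv : ∀ (A : CommAlgCat.{u} R) (a : Spec (CommRingCat.of A) ⟶ T) (w : a ≫ x.str = (sp A).hom)
      (w' : a ≫ y.str = (sp A).hom), x.ev A a w = y.ev A a w') : x = y := by
  obtain ⟨p, v⟩ := x
  obtain ⟨q, v'⟩ := y
  obtain rfl : p = q := h
  congr 1
  refine (@equivShrink _ (small_fam hF _)).symm.injective (Fam.ext' fun A g => ?_)
  have := hv A g.left (Over.w g) (Over.w g)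
  simp only [Pt.ev, Pt.fam, homMk_left_eq] at this
  exact this

theorem Pt.ev_congr {x y : Pt hF T} (h : x = y) (A : CommAlgCat.{u} R) {a b : Spec (CommRingCat.of A) ⟶ T}
    (hab : a = b) (w : a ≫ x.str = (sp A).hom) (w' : b ≫ y.str = (sp A).hom) : x.ev A a w = y.ev A b w' := by
  subst h hab
  rfl

theorem Pt.ev_spOver (x : Pt hF T) {A B : CommAlgCat.{u} R} (φ : A ⟶ B) (a : Spec (CommRingCat.of A) ⟶ T)
    (w : a ≫ x.str = (sp A).hom) (w' : (spMap φ ≫ a) ≫ x.str = (sp B).hom) :
    x.ev B (spMap φ ≫ a) w' = F.map φ (x.ev A a w) := by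
  rw [Pt.ev, Pt.ev, ← x.fam.2]
  exact congrArg (x.fam.1 B) (Over.OverMorphism.ext rfl)

/-- Pullback of a value. -/
noncomputable def Pt.pull (h : T' ⟶ T) (x : Pt hF T) : Pt hF T' :=
  Pt.mk' (h ≫ x.str) (x.fam.map (Over.homMk h rfl : Over.mk (h ≫ x.str) ⟶ Over.mk x.str))

theorem Pt.ev_pull (h : T' ⟶ T) (x : Pt hF T) (A : CommAlgCat.{u} R) (a : Spec (CommRingCat.of A) ⟶ T')
    (w : a ≫ (x.pull h).str = (sp A).hom) :
    (x.pull h).ev A a w = x.ev A (a ≫ h) ((Category.assoc _ _ _).trans w) := by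
  show (Pt.fam (Pt.mk' _ _)).1 A _ = _
  rw [Pt.fam_mk']
  exact congrArg (x.fam.1 A) (Over.OverMorphism.ext rfl)

variable (hF)

/-- The presheaf on schemes. -/
noncomputable def presheaf : Scheme.{u}ᵒᵖ ⥤ Type u where
  obj T := Pt hF T.unop
  map h := ↾fun x => x.pull h.unop
  map_id T := by
    refine ConcreteCategory.hom_ext _ _ fun x => Pt.ext' (Category.id_comp _) fun A a w w' => ?_
    show (x.pull (𝟙 _)).ev A a w = x.ev A a w'
    rw [Pt.ev_pull]
    exact Pt.ev_congr rfl A (Category.comp_id a) _ _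
  map_comp h h' := by
    refine ConcreteCategory.hom_ext _ _ fun x => Pt.ext' (Category.assoc _ _ _) fun A a w w' => ?_
    show (x.pull (h'.unop ≫ h.unop)).ev A a w = ((x.pull h.unop).pull h'.unop).ev A a w'
    rw [Pt.ev_pull, Pt.ev_pull, Pt.ev_pull]
    exact Pt.ev_congr rfl A (Category.assoc _ _ _).symm _ _

theorem presheaf_map (h : T' ⟶ T) (x : Pt hF T) : (presheaf hF).map h.op x = x.pull h := rfl

theorem isSheaf_presheaf : Presieve.IsSheaf Scheme.zariskiTopology (presheaf hF) := by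
  rw [Precoverage.isSheaf_toGrothendieck_iff_of_isStableUnderBaseChange]
  rintro Y S hS x hx
  obtain ⟨(𝓤 : Y.OpenCover), rfl⟩ := Scheme.exists_cover_of_mem_pretopology hS
  let xi : ∀ i, Pt hF (𝓤.X i) := fun i => x (𝓤.f i) (.mk i)
  have hcomp : ∀ (i j : 𝓤.I₀) {Z : Scheme.{u}} (a : Z ⟶ 𝓤.X i) (b : Z ⟶ 𝓤.X j),
      a ≫ 𝓤.f i = b ≫ 𝓤.f j → (xi i).pull a = (xi j).pull b :=
    fun i j Z a b h => hx a b (.mk i) (.mk j) h
  obtain ⟨p, hp⟩ : ∃ p : Y ⟶ Spec (CommRingCat.of R), ∀ i, 𝓤.f i ≫ p = (xi i).str :=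
    ⟨Scheme.Cover.glueMorphisms 𝓤 (fun i => (xi i).str) fun i j =>
      congrArg Pt.str (hcomp i j _ _ pullback.condition), fun i => Scheme.Cover.ι_glueMorphisms 𝓤 _ _ i⟩
  let T : Over (Spec (CommRingCat.of R)) := Over.mk p
  let y : ∀ i : 𝓤.I₀, Fam F (member (Y := T) 𝓤 i) := fun i =>
    (xi i).fam.map (Over.homMk (𝟙 (𝓤.X i)) (by
      show 𝟙 _ ≫ (xi i).str = 𝓤.f i ≫ p
      rw [Category.id_comp, hp]) : member (Y := T) 𝓤 i ⟶ Over.mk (xi i).str)
  have hy : ∀ i (A : CommAlgCat.{u} R) (g : sp A ⟶ member (Y := T) 𝓤 i),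
      ∃ w, (y i).1 A g = (xi i).ev A g.left w := fun i A g =>
    ⟨by rw [← hp i]; exact Over.w g, by
      show (xi i).fam.1 A _ = (xi i).fam.1 A _
      exact congrArg _ (Over.OverMorphism.ext (Category.comp_id _))⟩
  obtain ⟨v, hv⟩ := Fam.exists_glue (T := T) 𝓤 hF y fun i j B a b h => by
    obtain ⟨w, hw⟩ := hy i B a
    obtain ⟨w', hw'⟩ := hy j B b
    rw [hw, hw']
    have e := hcomp i j a.left b.left (congrArg CommaMorphism.left h)
    have h1 := Pt.ev_congr e B (a := 𝟙 _) rfl ((Category.id_comp _).trans w) ((Category.id_comp _).trans w')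
    rw [Pt.ev_pull, Pt.ev_pull] at h1
    exact (Pt.ev_congr rfl B (Category.id_comp _).symm _ _).trans
      (h1.trans (Pt.ev_congr rfl B (Category.id_comp _) _ _))
  refine ⟨Pt.mk' p v, ?_, fun z hz => ?_⟩
  · rintro Z e ⟨i⟩
    show (Pt.mk' p v).pull (𝓤.f i) = xi i
    refine Pt.ext' (hp i) fun A a w w' => ?_
    rw [Pt.ev_pull]
    show (Pt.fam (Pt.mk' p v)).1 A _ = _
    rw [Pt.fam_mk']
    let g : sp A ⟶ member (Y := T) 𝓤 i := Over.homMk a w
    obtain ⟨w'', hw''⟩ := hy i A g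
    refine Eq.trans ?_ ((congrArg (fun t : Fam F _ => t.1 A g) (hv i)).trans hw'')
    exact congrArg (v.1 A) (Over.OverMorphism.ext rfl)
  · have hzs : z.str = p := Scheme.Cover.hom_ext 𝓤 _ _ fun i => by
      rw [hp]
      exact congrArg Pt.str (hz (𝓤.f i) (.mk i))
    obtain ⟨q, w⟩ := z
    obtain rfl : q = p := hzs
    refine Pt.ext' rfl fun A a w₁ w₂ => ?_
    show (Pt.fam _).1 A _ = (Pt.fam (Pt.mk' q v)).1 A _
    rw [Pt.fam_mk']
    refine congrArg (fun t : Fam F T => t.1 A (Over.homMk a w₁)) (Fam.ext_cover (T := T) 𝓤 hF fun i B b => ?_)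
    obtain ⟨w', hw'⟩ := hy i B b
    rw [show v.1 B (b ≫ incl (Y := T) 𝓤 i) = (y i).1 B b from congrArg (fun t : Fam F _ => t.1 B b) (hv i), hw']
    have e : (Pt.mk q w : Pt hF Y).pull (𝓤.f i) = xi i := hz (𝓤.f i) (.mk i)
    have h1 := Pt.ev_congr e B (a := b.left) rfl (Over.w b) w'
    rw [Pt.ev_pull] at h1
    exact (congrArg ((Pt.fam _).1 B) (Over.OverMorphism.ext rfl)).trans h1

variable (c : Chart F)

/-- The universal value on a chart. -/
noncomputable def univPt : Pt hF (Spec (CommRingCat.of c.C)) :=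
  Pt.mk' (sp c.C).hom (Fam.ofPt c.univ)

theorem univPt_ev_pull {T : Scheme.{u}} (m : T ⟶ Spec (CommRingCat.of c.C)) (A : CommAlgCat.{u} R)
    (a : Spec (CommRingCat.of A) ⟶ T) (w : a ≫ ((univPt hF c).pull m).str = (sp A).hom) :
    ((univPt hF c).pull m).ev A a w =
      F.map (algOf (Over.homMk (a ≫ m) ((Category.assoc _ _ _).trans w) : sp A ⟶ sp c.C)) c.univ := by
  rw [Pt.ev_pull]
  show (Pt.fam (Pt.mk' _ _)).1 A _ = _
  rw [Pt.fam_mk']
  rfl

theorem univPt_ev_P {T : Scheme.{u}} (m : T ⟶ Spec (CommRingCat.of c.C)) (A : CommAlgCat.{u} R)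
    (a : Spec (CommRingCat.of A) ⟶ T) (w : a ≫ ((univPt hF c).pull m).str = (sp A).hom) :
    c.P A (((univPt hF c).pull m).ev A a w) := by
  rw [univPt_ev_pull]
  exact c.map_mem _ c.mem_univ

/-- Morphisms into a chart are determined by the value they pull back. -/
theorem chart_hom_ext {T : Scheme.{u}} {m m' : T ⟶ Spec (CommRingCat.of c.C)}
    (h : (univPt hF c).pull m = (univPt hF c).pull m') : m = m' := by
  have hs : m ≫ (sp c.C).hom = m' ≫ (sp c.C).hom := congrArg Pt.str h
  let T₀ : Over (Spec (CommRingCat.of R)) := Over.mk (m ≫ (sp c.C).hom)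
  let f : T₀ ⟶ sp c.C := Over.homMk m rfl
  let f' : T₀ ⟶ sp c.C := Over.homMk m' hs.symm
  have : f = f' := hom_ext_pts fun A g => by
    rw [← spOver_algOf (g ≫ f), ← spOver_algOf (g ≫ f')]
    refine congrArg spOver ((c.lift (c.map_mem (algOf (g ≫ f)) c.mem_univ)).unique rfl ?_)
    have h1 := Pt.ev_congr h A (a := g.left) rfl (Over.w g) ((congrArg (g.left ≫ ·) hs.symm).trans (Over.w g))
    rw [univPt_ev_pull, univPt_ev_pull] at h1
    exact h1.symm
  exact congrArg CommaMorphism.left this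

variable {hF}

/-- The locus of a value cut out by a chart. -/
noncomputable def locus (x : Pt hF T) : T.Opens :=
  ⟨{t | ∃ (A : CommAlgCat.{u} R) (a : Spec (CommRingCat.of A) ⟶ T) (w : a ≫ x.str = (sp A).hom),
      IsOpenImmersion a ∧ c.P A (x.ev A a w) ∧ t ∈ Set.range a}, by
    refine isOpen_iff_forall_mem_open.2 fun t ⟨A, a, w, ha, hP, ht⟩ =>
      ⟨Set.range a, fun s hs => ⟨A, a, w, ha, hP, hs⟩, ?_, ht⟩
    haveI := ha
    exact a.isOpenEmbedding.isOpen_range⟩

theorem mem_locus_of_field (x : Pt hF T) {L : CommAlgCat.{u} R} (hL : IsField L)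
    (a : Spec (CommRingCat.of L) ⟶ T) (w : a ≫ x.str = (sp L).hom) (hP : c.P L (x.ev L a w))
    (z : Spec (CommRingCat.of L)) : a z ∈ locus c x := by
  obtain ⟨W, hW, hzW, -⟩ := exists_isAffineOpen_mem_and_subset (x := a z) (U := ⊤) trivial
  let T₀ : Over (Spec (CommRingCat.of R)) := Over.mk x.str
  let W₀ : Over (Spec (CommRingCat.of R)) := Over.mk (W.ι ≫ x.str)
  haveI : IsAffine W₀.left := hW
  obtain ⟨A, ⟨i⟩⟩ := exists_sp_iso W₀
  have hsub : Set.range a ⊆ Set.range W.ι := by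
    haveI : Subsingleton (Spec (CommRingCat.of L)) := by
      letI := hL.toField
      exact inferInstanceAs (Subsingleton (PrimeSpectrum L))
    rintro _ ⟨z', rfl⟩
    rw [Subsingleton.elim z' z]
    simpa using hzW
  let l : sp L ⟶ W₀ := Over.homMk (IsOpenImmersion.lift W.ι a hsub) (by
    show IsOpenImmersion.lift W.ι a hsub ≫ W.ι ≫ x.str = _
    rw [IsOpenImmersion.lift_fac_assoc, w])
  obtain ⟨ψ, hψ⟩ := exists_spMap (l ≫ i.inv)
  let b : Spec (CommRingCat.of A) ⟶ T := i.hom.left ≫ W.ι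
  have wb : b ≫ x.str = (sp A).hom := (Category.assoc _ _ _).trans (Over.w i.hom)
  have hab : spMap ψ ≫ b = a := by
    have h1 : spMap ψ ≫ i.hom.left = l.left := by
      have := congrArg CommaMorphism.left (congrArg (· ≫ i.hom) hψ)
      simp only [Category.assoc, Iso.inv_hom_id, Category.comp_id, Over.comp_left] at this
      exact this.symm
    rw [← Category.assoc, h1]
    exact IsOpenImmersion.lift_fac _ _ _
  have w' : (spMap ψ ≫ b) ≫ x.str = (sp L).hom := by rw [hab, w]
  have hP' : c.P L (F.map ψ (x.ev A b wb)) := by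
    rw [← Pt.ev_spOver x ψ b wb w', Pt.ev_congr rfl L hab w' w]
    exact hP
  obtain ⟨h, hne, hh⟩ := c.isOpen (x.ev A b wb) L hL ψ hP'
  have w'' : (spMap (toAway A h) ≫ b) ≫ x.str = (sp (CommAlgCat.of R (Localization.Away h))).hom := by
    rw [Category.assoc, wb]
    exact spMap_w _
  haveI : IsIso i.hom.left := inferInstanceAs (IsIso ((Over.forget _).map i.hom))
  haveI : IsOpenImmersion (spMap (toAway A h)) := IsOpenImmersion.of_isLocalization h
  haveI : IsOpenImmersion b := inferInstanceAs (IsOpenImmersion (i.hom.left ≫ W.ι))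
  refine ⟨_, spMap (toAway A h) ≫ b, w'', inferInstance, ?_, ?_⟩
  · rw [Pt.ev_spOver x (toAway A h) b wb w'']
    exact hh
  · have hmem : spMap ψ z ∈ Set.range (spMap (toAway A h)) := by
      show spMap ψ z ∈ Set.range (PrimeSpectrum.comap (algebraMap A (Localization.Away h)))
      rw [PrimeSpectrum.localization_away_comap_range (Localization.Away h) h]
      intro hz
      letI := hL.toField
      have hz' : ψ.hom h ∈ z.asIdeal := hz
      exact z.isPrime.ne_top (z.asIdeal.eq_top_of_isUnit_mem hz' (isUnit_iff_ne_zero.2 hne))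
    obtain ⟨y, hy⟩ := hmem
    exact ⟨y, by
      show b (spMap (toAway A h) y) = _
      rw [hy, ← hab]
      rfl⟩

theorem exists_locus_map (x : Pt hF T) :
    ∃ m : (locus c x).toScheme ⟶ Spec (CommRingCat.of c.C), (univPt hF c).pull m = x.pull (locus c x).ι := by
  let U := locus c x
  choose A a w ha hP y hy using fun t : U => t.2
  have hsub : ∀ t, Set.range (a t) ⊆ Set.range U.ι := fun t => by
    rintro _ ⟨s, rfl⟩
    simp only [Scheme.Opens.range_ι, SetLike.mem_coe]
    exact ⟨A t, a t, w t, ha t, hP t, ⟨s, rfl⟩⟩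
  let l : ∀ t, Spec (CommRingCat.of (A t)) ⟶ U.toScheme := fun t => IsOpenImmersion.lift U.ι (a t) (hsub t)
  have hl : ∀ t, l t ≫ U.ι = a t := fun t => IsOpenImmersion.lift_fac _ _ _
  let 𝒰 : U.toScheme.OpenCover := Scheme.Cover.mkOfCovers U (fun t => Spec (CommRingCat.of (A t))) l
    (fun t => ⟨t, y t, U.ι.isOpenEmbedding.injective (by
      rw [← Scheme.Hom.comp_apply, hl]; exact hy t)⟩)
    (fun t => by
      haveI : IsOpenImmersion (l t ≫ U.ι) := by rw [hl]; exact ha t
      exact IsOpenImmersion.of_comp (l t) U.ι)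
  let Y : Over (Spec (CommRingCat.of R)) := Over.mk (U.ι ≫ x.str)
  have hw : ∀ t, l t ≫ U.ι ≫ x.str = (sp (A t)).hom := fun t => by rw [← Category.assoc, hl, w]
  let cm : ∀ t, sp (A t) ⟶ member (Y := Y) 𝒰 t := fun t => Over.homMk (𝟙 _) ((Category.id_comp _).trans (hw t))
  let dm : ∀ t, member (Y := Y) 𝒰 t ⟶ sp (A t) := fun t => Over.homMk (𝟙 _) ((Category.id_comp _).trans (hw t).symm)
  choose φ hφ using fun t => (c.lift (hP t)).exists
  have hval : ∀ t (B : CommAlgCat.{u} R) (g : sp B ⟶ member (Y := Y) 𝒰 t) (w' : (g.left ≫ a t) ≫ x.str = (sp B).hom),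
      F.map (φ t ≫ algOf (g ≫ dm t)) c.univ = x.ev B (g.left ≫ a t) w' := by
    intro t B g w'
    rw [Functor.map_comp_apply, hφ]
    have he : spMap (algOf (g ≫ dm t)) ≫ a t = g.left ≫ a t := by
      rw [show spMap (algOf (g ≫ dm t)) = (g ≫ dm t).left from congrArg CommaMorphism.left (spOver_algOf (g ≫ dm t))]
      show (g.left ≫ 𝟙 _) ≫ a t = _
      rw [Category.comp_id]
    rw [← Pt.ev_spOver x _ (a t) (w t) (by rw [he]; exact w')]
    exact Pt.ev_congr rfl B he _ _
  obtain ⟨m, hm⟩ := exists_glue_hom (Y := Y) (X := sp c.C) 𝒰 (fun t => dm t ≫ spOver (φ t)) fun i j B g g' h => by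
    rw [← Category.assoc, ← Category.assoc, ← spOver_algOf (g ≫ dm i), ← spOver_algOf (g' ≫ dm j), ← spOver_comp,
      ← spOver_comp]
    have hh : g.left ≫ l i = g'.left ≫ l j := congrArg CommaMorphism.left h
    have hga : g.left ≫ a i = g'.left ≫ a j := by rw [← hl, ← hl, ← Category.assoc, hh, Category.assoc]
    have wi : (g.left ≫ a i) ≫ x.str = (sp B).hom := by
      rw [← hl, Category.assoc, Category.assoc]
      exact Over.w g
    have wj : (g'.left ≫ a j) ≫ x.str = (sp B).hom := by rw [← hga]; exact wi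
    refine congrArg spOver ((c.lift (c.map_mem _ c.mem_univ)).unique rfl ?_)
    rw [hval j B g' wj, hval i B g wi]
    exact Pt.ev_congr rfl B hga.symm _ _
  refine ⟨m.left, Pt.ext' (Over.w m) fun B b w₁ w₂ => ?_⟩
  rw [univPt_ev_pull, Pt.ev_pull]
  let ιT : Y ⟶ Over.mk x.str := Over.homMk U.ι rfl
  have hLR : (Fam.ofPt c.univ).map m = x.fam.map ιT := by
    refine Fam.ext_cover (T := Y) 𝒰 hF fun t D g => ?_
    rw [Fam.map_val, Fam.map_val, Fam.ofPt_val]
    rw [Category.assoc, hm, ← Category.assoc, algOf_comp, algOf_spOver]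
    have wi : (g.left ≫ a t) ≫ x.str = (sp D).hom := by
      rw [← hl, Category.assoc, Category.assoc]
      exact Over.w g
    rw [hval t D g wi]
    refine congrArg (x.fam.1 D) (Over.OverMorphism.ext ?_)
    show g.left ≫ a t = (g.left ≫ l t) ≫ U.ι
    rw [Category.assoc, hl]
  have := congrArg (fun v : Fam F Y => v.1 B (Over.homMk b w₂)) hLR
  refine Eq.trans ?_ (this.trans (congrArg (x.fam.1 B) (Over.OverMorphism.ext rfl)))
  rw [Fam.map_val, Fam.ofPt_val]
  exact congrArg (fun g : sp B ⟶ sp c.C => F.map (algOf g) c.univ) (Over.OverMorphism.ext rfl)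

theorem range_subset_locus (x : Pt hF T) {S : Scheme.{u}} (h : S ⟶ T) (b : S ⟶ Spec (CommRingCat.of c.C))
    (e : (univPt hF c).pull b = x.pull h) : Set.range h ⊆ (locus c x : Set T) := by
  rintro _ ⟨s, rfl⟩
  obtain ⟨L, hL, p, hp⟩ := exists_field_pt (Over.mk (h ≫ x.str)) s
  letI := hL.toField
  have w : (p.left ≫ h) ≫ x.str = (sp L).hom := (Category.assoc _ _ _).trans (Over.w p)
  let z : Spec (CommRingCat.of L) := (⟨⊥, Ideal.isPrime_bot⟩ : PrimeSpectrum L)
  have := mem_locus_of_field c x hL (p.left ≫ h) w ?_ z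
  · rw [Scheme.Hom.comp_apply] at this
    exact (congrArg (fun q => h q ∈ locus c x) (hp z)).mp this
  · have hP := univPt_ev_P hF c b L p.left ((congrArg (p.left ≫ ·) (congrArg Pt.str e)).trans (Over.w p))
    rw [Pt.ev_congr e L (a := p.left) rfl _ (Over.w p), Pt.ev_pull] at hP
    exact hP

variable (hF)

/-- The map from a chart. -/
noncomputable def chartMap : yoneda.obj (Spec (CommRingCat.of c.C)) ⟶ presheaf hF :=
  yonedaEquiv.symm (univPt hF c)

theorem chartMap_app {S : Scheme.{u}} (b : S ⟶ Spec (CommRingCat.of c.C)) :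
    (chartMap hF c).app (op S) b = (univPt hF c).pull b := rfl

theorem isOpenImmersion_chartMap : IsOpenImmersion.presheaf (chartMap hF c) := by
  refine MorphismProperty.relative.of_exists fun T g => ?_
  let x : Pt hF T := yonedaEquiv g
  obtain ⟨m, hm⟩ := exists_locus_map c x
  have hg : ∀ {S : Scheme.{u}} (h : S ⟶ T), g.app (op S) h = x.pull h := fun {S} h => by
    obtain ⟨x', rfl⟩ := yonedaEquiv.symm.surjective g
    rw [show x = x' from yonedaEquiv.apply_symm_apply x']
    rfl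
  refine ⟨(locus c x).toScheme, yoneda.map m, (locus c x).ι, ?_, inferInstance⟩
  refine IsPullback.of_forall_isPullback_app fun S => ?_
  rw [Types.isPullback_iff]
  refine ⟨ConcreteCategory.hom_ext _ _ fun l => ?_, fun l l' hll => ?_, fun b h hbh => ?_⟩
  · show (univPt hF c).pull (l ≫ m) = g.app (op S.unop) (l ≫ (locus c x).ι)
    rw [hg]
    refine ((presheaf_map hF (l ≫ m) _).symm.trans ?_).trans (presheaf_map hF _ x)
    rw [op_comp, op_comp, Functor.map_comp_apply, Functor.map_comp_apply]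
    exact congrArg _ hm
  · exact (cancel_mono (locus c x).ι).1 hll.2
  · have e : (univPt hF c).pull b = x.pull h := hbh.trans (hg (S := S.unop) h)
    have hsub := range_subset_locus c x h b e
    refine ⟨IsOpenImmersion.lift (locus c x).ι h (by simpa using hsub), ?_, IsOpenImmersion.lift_fac _ _ _⟩
    refine chart_hom_ext hF c ?_
    show (univPt hF c).pull (_ ≫ m) = (univPt hF c).pull b
    refine ((presheaf_map hF _ _).symm.trans ?_).trans e.symm
    rw [op_comp, Functor.map_comp_apply]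
    refine (congrArg _ hm).trans ?_
    rw [show (x.pull (locus c x).ι) = (presheaf hF).map (locus c x).ι.op x from rfl, ← Functor.map_comp_apply,
      ← op_comp, IsOpenImmersion.lift_fac]
    rfl

variable {ι : Type u} (cs : ι → Chart F)
  (hcov : ∀ (L : CommAlgCat.{u} R), IsField L → ∀ x : F.obj L, ∃ i, (cs i).P L x)

include hcov in
theorem isLocallySurjective_desc :
    Presheaf.IsLocallySurjective Scheme.zariskiTopology (Sigma.desc fun i => chartMap hF (cs i)) := by
  refine ⟨fun {T} (x : Pt hF T) => ?_⟩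
  let I := ι
  have hc : ∀ t : T, ∃ i, t ∈ locus (cs i) x := fun t => by
    obtain ⟨L, hL, p, hp⟩ := exists_field_pt (Over.mk x.str) t
    letI := hL.toField
    obtain ⟨i, hi⟩ := hcov L hL (x.ev L p.left (Over.w p))
    exact ⟨i, hp (⟨⊥, Ideal.isPrime_bot⟩ : PrimeSpectrum L) ▸ mem_locus_of_field (cs i) x hL _ _ hi _⟩
  let 𝒰 : T.OpenCover := Scheme.Cover.mkOfCovers I (fun i => (locus (cs i) x).toScheme) (fun i => (locus (cs i) x).ι)
    fun t => ⟨(hc t).choose, ⟨t, (hc t).choose_spec⟩, rfl⟩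
  refine GrothendieckTopology.superset_covering _ ?_ 𝒰.mem_grothendieckTopology
  rintro S f ⟨_, l, _, ⟨i⟩, rfl⟩
  obtain ⟨m, hm⟩ := exists_locus_map (cs i) x
  refine ⟨(Sigma.ι (fun i => yoneda.obj (Spec (CommRingCat.of (cs i).C))) i).app (op S) (l ≫ m), ?_⟩
  rw [← NatTrans.comp_app_apply, Sigma.ι_desc, chartMap_app]
  refine (presheaf_map hF (l ≫ m) _).symm.trans ?_
  rw [op_comp, op_comp, Functor.map_comp_apply, Functor.map_comp_apply]
  exact congrArg _ hm

include hF hcov in
/-- A Zariski sheaf covered by charts is represented by a scheme over the base. -/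
theorem exists_representing :
    ∃ (X : Over (Spec (CommRingCat.of R))) (e : ∀ A, (sp A ⟶ X) ≃ F.obj A), IsNat X F e := by
  haveI := isLocallySurjective_desc hF cs hcov
  let Fs : Sheaf Scheme.zariskiTopology.{u} (Type u) :=
    ⟨presheaf hF, (isSheaf_iff_isSheaf_of_type _ _).2 (isSheaf_presheaf hF)⟩
  have hf : ∀ i, IsOpenImmersion.presheaf (chartMap hF (cs i)) := fun i => isOpenImmersion_chartMap hF (cs i)
  obtain ⟨G, ⟨rep⟩⟩ :=
    (Scheme.LocalRepresentability.isRepresentable (F := Fs) (f := fun i => chartMap hF (cs i)) hf).has_representation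
  let u₀ : Pt hF G := rep.homEquiv (𝟙 G)
  have hrep : ∀ {S : Scheme.{u}} (h : S ⟶ G), (rep.homEquiv h : Pt hF S) = u₀.pull h := fun {S} h => by
    conv_lhs => rw [← Category.comp_id h, rep.homEquiv_comp]
    rfl
  let X : Over (Spec (CommRingCat.of R)) := Over.mk u₀.str
  have hbij : ∀ A : CommAlgCat.{u} R, Function.Bijective fun g : sp A ⟶ X => u₀.fam.1 A g := by
    intro A
    have hval : ∀ g : sp A ⟶ X, (rep.homEquiv g.left : Pt hF _) = Pt.mk' (sp A).hom (Fam.ofPt (u₀.fam.1 A g)) := by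
      intro g
      rw [hrep]
      refine Pt.ext' (Over.w g) fun B b w w' => ?_
      rw [Pt.ev_pull]
      show u₀.fam.1 B _ = (Pt.fam (Pt.mk' _ _)).1 B _
      rw [Pt.fam_mk']
      show _ = F.map (algOf (Over.homMk b w' : sp B ⟶ sp A)) (u₀.fam.1 A g)
      rw [← u₀.fam.2]
      refine congrArg (u₀.fam.1 B) (Over.OverMorphism.ext ?_)
      show b ≫ g.left = spMap _ ≫ g.left
      rw [show spMap (algOf (Over.homMk b w' : sp B ⟶ sp A)) = b from
        congrArg CommaMorphism.left (spOver_algOf (Over.homMk b w' : sp B ⟶ sp A))]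
    refine ⟨fun g g' h => ?_, fun z => ?_⟩
    · refine Over.OverMorphism.ext (rep.homEquiv.injective ?_)
      exact ((hval g).trans (by simp only at h; rw [h])).trans (hval g').symm
    · let l : Spec (CommRingCat.of A) ⟶ G := rep.homEquiv.symm (Pt.mk' (sp A).hom (Fam.ofPt z))
      have hl : u₀.pull l = Pt.mk' (sp A).hom (Fam.ofPt z) := (hrep l).symm.trans (rep.homEquiv.apply_symm_apply _)
      refine ⟨Over.homMk l (congrArg Pt.str hl), ?_⟩
      show u₀.ev A l _ = z
      have h1 := Pt.ev_congr hl A (a := 𝟙 _) rfl ((Category.id_comp _).trans (congrArg Pt.str hl)) (Category.id_comp _)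
      rw [Pt.ev_pull] at h1
      refine (Pt.ev_congr rfl A (Category.id_comp l).symm _ _).trans (h1.trans ?_)
      show (Pt.fam (Pt.mk' _ _)).1 A _ = z
      rw [Pt.fam_mk']
      refine Eq.trans (congrArg ((Fam.ofPt z).1 A) (Over.OverMorphism.ext rfl)) (Fam.ofPt_id z)
  exact ⟨X, fun A => Equiv.ofBijective _ (hbij A), fun A B φ g => u₀.fam.2 A B φ g⟩

end Groth.Agent.Grass60
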