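import Groth.Agent.Grass60.GrassSheaf
import Groth.Agent.Grass60.Rep

/-!
The Grassmannian of an arbitrary module is representable.
-/

set_option autoImplicit false
set_option backward.isDefEq.respectTransparency false
set_option linter.style.haveILetI false

universe u

open TensorProduct CategoryTheory AlgebraicGeometry

namespace Groth.Agent.Grass60

open Synt29.RepOpen
open Module (Grassmannian)

variable {R : Type u} [CommRing R] {M : Type u} [AddCommGroup M] [Module R M] {k : ℕ}
variable {A C : Type u} [CommRing A] [Algebra R A] [CommRing C] [Algebra R C] (x : Fin k → M)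

/-- The submodule spanned by the chosen elements and the point. -/
def colSpan (N : Submodule A (A ⊗[R] M)) : Submodule A (A ⊗[R] M) :=
  N ⊔ Submodule.span A (Set.range fun i => (1 : A) ⊗ₜ[R] x i)

/-- The chosen elements span the quotient. -/
def InMChart (N : Grassmannian A (A ⊗[R] M) k) : Prop := colSpan x N.toSubmodule = ⊤

variable {x}

theorem eq_top_of_one_tmul {p : Submodule A (A ⊗[R] M)} (h : ∀ m : M, (1 : A) ⊗ₜ[R] m ∈ p) : p = ⊤ := by
  refine eq_top_iff.2 fun z hz => ?_
  clear hz
  induction z with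
  | zero => exact p.zero_mem
  | tmul a m =>
    rw [show (a ⊗ₜ[R] m : A ⊗[R] M) = a • ((1 : A) ⊗ₜ[R] m) by rw [smul_tmul', smul_eq_mul, mul_one]]
    exact p.smul_mem a (h m)
  | add y z hy hz => exact p.add_mem hy hz

theorem bcι_mem_colSpan (φ : A →ₐ[R] C) (N : Grassmannian A (A ⊗[R] M) k) {z : A ⊗[R] M}
    (hz : z ∈ colSpan x N.toSubmodule) : bcι φ z ∈ colSpan x (Grassmannian.map φ N).toSubmodule := by
  obtain ⟨n, hn, w, hw, rfl⟩ := Submodule.mem_sup.1 hz
  rw [map_add]
  refine add_mem (Submodule.mem_sup_left (bcι_mem_map φ N hn)) (Submodule.mem_sup_right ?_)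
  clear hz
  induction hw using Submodule.span_induction with
  | mem z hz =>
    obtain ⟨i, rfl⟩ := hz
    exact Submodule.subset_span ⟨i, by rw [bcι_tmul, map_one]⟩
  | zero => simp
  | add a b _ _ ha hb => rw [map_add]; exact add_mem ha hb
  | smul t a _ ha => rw [bcι_smul]; exact Submodule.smul_mem _ _ ha

theorem InMChart.map (φ : A →ₐ[R] C) {N : Grassmannian A (A ⊗[R] M) k} (h : InMChart x N) :
    InMChart x (Grassmannian.map φ N) :=
  eq_top_of_one_tmul fun m => by
    have := bcι_mem_colSpan φ N (z := (1 : A) ⊗ₜ[R] m) (by rw [h]; exact Submodule.mem_top)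
    rwa [bcι_tmul, map_one] at this

section Graph

variable (u : M →ₗ[R] (Fin k → A))

theorem liftBaseChange_section (hu : ∀ j, u (x j) = Pi.single j 1) (y : Fin k → A) :
    u.liftBaseChange A (∑ i, y i • ((1 : A) ⊗ₜ[R] x i)) = y := by
  rw [map_sum]
  refine (Finset.sum_congr rfl fun i _ => ?_).trans (pi_eq_sum_univ' y).symm
  rw [map_smul, LinearMap.liftBaseChange_one_tmul, hu]

theorem liftBaseChange_surjective (hu : ∀ j, u (x j) = Pi.single j 1) :
    Function.Surjective (u.liftBaseChange A) := fun y => ⟨_, liftBaseChange_section u hu y⟩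

/-- The point with given coordinates. -/
noncomputable def gr (hu : ∀ j, u (x j) = Pi.single j 1) : Grassmannian A (A ⊗[R] M) k :=
  letI e := (u.liftBaseChange A).quotKerEquivOfSurjective (liftBaseChange_surjective u hu)
  { toSubmodule := LinearMap.ker (u.liftBaseChange A)
    finite_quotient := Module.Finite.equiv e.symm
    projective_quotient := Module.Projective.of_equiv e.symm
    rankAtStalk_eq := fun p => by
      have : Nontrivial A := PrimeSpectrum.nontrivial p
      rw [Module.rankAtStalk_eq_of_equiv e, Module.rankAtStalk_eq_finrank_of_free]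
      simp }

theorem gr_toSubmodule (hu : ∀ j, u (x j) = Pi.single j 1) :
    (gr u hu).toSubmodule = LinearMap.ker (u.liftBaseChange A) := rfl

theorem sub_sum_mem_gr (hu : ∀ j, u (x j) = Pi.single j 1) (z : A ⊗[R] M) :
    z - ∑ i, u.liftBaseChange A z i • ((1 : A) ⊗ₜ[R] x i) ∈ (gr u hu).toSubmodule := by
  rw [gr_toSubmodule, LinearMap.mem_ker, map_sub, liftBaseChange_section u hu, sub_self]

theorem gr_inMChart (hu : ∀ j, u (x j) = Pi.single j 1) : InMChart x (gr u hu) := by
  refine eq_top_iff.2 fun z _ => Submodule.mem_sup.2 ⟨_, sub_sum_mem_gr u hu z, _, ?_, sub_add_cancel _ _⟩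
  exact Submodule.sum_mem _ fun i _ => Submodule.smul_mem _ _ (Submodule.subset_span ⟨i, rfl⟩)

theorem gr_injective {u' : M →ₗ[R] (Fin k → A)} (hu : ∀ j, u (x j) = Pi.single j 1)
    (hu' : ∀ j, u' (x j) = Pi.single j 1) (h : gr u hu = gr u' hu') : u = u' := by
  refine LinearMap.ext fun m => ?_
  have h1 := sub_sum_mem_gr u hu ((1 : A) ⊗ₜ[R] m)
  rw [h, gr_toSubmodule, LinearMap.mem_ker, map_sub, liftBaseChange_section u' hu',
    LinearMap.liftBaseChange_one_tmul, LinearMap.liftBaseChange_one_tmul, sub_eq_zero] at h1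
  exact h1.symm

theorem map_gr (φ : A →ₐ[R] C) (hu : ∀ j, u (x j) = Pi.single j 1)
    (hu' : ∀ j, ((φ.toLinearMap.compLeft (Fin k)).comp u) (x j) = Pi.single j 1) :
    Grassmannian.map φ (gr u hu) = gr ((φ.toLinearMap.compLeft (Fin k)).comp u) hu' := by
  let v := (φ.toLinearMap.compLeft (Fin k)).comp u
  symm
  refine grassmannian_eq_of_le fun z hz => ?_
  have key : ∀ w : C ⊗[R] M, w - ∑ i, v.liftBaseChange C w i • ((1 : C) ⊗ₜ[R] x i) ∈
      (Grassmannian.map φ (gr u hu)).toSubmodule := by
    intro w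
    induction w with
    | zero => simp
    | tmul c m =>
      have h1 := bcι_mem_map φ _ (sub_sum_mem_gr u hu ((1 : A) ⊗ₜ[R] m))
      rw [LinearMap.liftBaseChange_one_tmul, map_sub, map_sum, bcι_tmul, map_one] at h1
      simp only [bcι_smul, bcι_tmul, map_one] at h1
      rw [show (c ⊗ₜ[R] m : C ⊗[R] M) = c • ((1 : C) ⊗ₜ[R] m) by rw [smul_tmul', smul_eq_mul, mul_one],
        map_smul, LinearMap.liftBaseChange_one_tmul]
      have h2 := Submodule.smul_mem _ c h1
      rw [smul_sub, Finset.smul_sum] at h2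
      simp only [smul_smul] at h2
      exact h2
    | add y z hy hz =>
      convert add_mem hy hz using 1
      simp only [map_add, Pi.add_apply, add_smul, Finset.sum_add_distrib]
      abel
  have := key z
  rw [gr_toSubmodule, LinearMap.mem_ker] at hz
  rw [show v.liftBaseChange C z = 0 from hz] at this
  simpa using this

theorem InMChart.exists_eq {N : Grassmannian A (A ⊗[R] M) k} (h : InMChart x N) :
    ∃ (u : M →ₗ[R] (Fin k → A)) (hu : ∀ j, u (x j) = Pi.single j 1), N = gr u hu := by
  let col : (Fin k → A) →ₗ[A] (A ⊗[R] M) ⧸ N.toSubmodule :=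
    Fintype.linearCombination A fun i => N.toSubmodule.mkQ ((1 : A) ⊗ₜ[R] x i)
  have hs : Function.Surjective col := by
    intro q
    obtain ⟨z, rfl⟩ := N.toSubmodule.mkQ_surjective q
    have hz : z ∈ colSpan x N.toSubmodule := by rw [show colSpan x N.toSubmodule = ⊤ from h]; trivial
    obtain ⟨n, hn, w, hw, rfl⟩ := Submodule.mem_sup.1 hz
    obtain ⟨c, rfl⟩ := Submodule.mem_span_range_iff_exists_fun A |>.1 hw
    refine ⟨c, ?_⟩
    rw [map_add, Submodule.mkQ_apply, (Submodule.Quotient.mk_eq_zero _).2 hn, zero_add]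
    simp [col, Fintype.linearCombination_apply]
  have hb : Function.Bijective col := Module.bijective_of_surjective_of_rankAtStalk_eq hs fun q _ => by
    have : Nontrivial A := PrimeSpectrum.nontrivial ⟨q, inferInstance⟩
    rw [N.rankAtStalk_eq, Module.rankAtStalk_eq_finrank_of_free]
    simp
  let e := LinearEquiv.ofBijective col hb
  let v : A ⊗[R] M →ₗ[A] (Fin k → A) := e.symm.toLinearMap.comp N.toSubmodule.mkQ
  let u : M →ₗ[R] (Fin k → A) := (v.restrictScalars R).comp (TensorProduct.mk R A M 1)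
  have hv : u.liftBaseChange A = v := TensorProduct.AlgebraTensorModule.ext fun a m => by
    rw [show (a ⊗ₜ[R] m : A ⊗[R] M) = a • ((1 : A) ⊗ₜ[R] m) by rw [smul_tmul', smul_eq_mul, mul_one],
      map_smul, map_smul, LinearMap.liftBaseChange_one_tmul]
    rfl
  have hu : ∀ j, u (x j) = Pi.single j 1 := fun j => by
    refine e.symm_apply_eq.2 ?_
    show N.toSubmodule.mkQ ((1 : A) ⊗ₜ[R] x j) = col (Pi.single j 1)
    simp [col, Fintype.linearCombination_apply_single]
  refine ⟨u, hu, Grassmannian.ext ?_⟩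
  rw [gr_toSubmodule, hv, LinearEquiv.ker_comp, Submodule.ker_mkQ]

end Graph

section Chart

variable (R) (x)

/-- The relations of a chart. -/
def mRel : Set (MvPolynomial (M × Fin k) R) :=
  (Set.range fun p : M × M × Fin k =>
    MvPolynomial.X (p.1 + p.2.1, p.2.2) - MvPolynomial.X (p.1, p.2.2) - MvPolynomial.X (p.2.1, p.2.2)) ∪
  (Set.range fun p : R × M × Fin k =>
    MvPolynomial.X (p.1 • p.2.1, p.2.2) - MvPolynomial.C p.1 * MvPolynomial.X (p.2.1, p.2.2)) ∪
  Set.range fun p : Fin k × Fin k => MvPolynomial.X (x p.1, p.2) - MvPolynomial.C ((Pi.single p.1 (1 : R) : Fin k → R) p.2)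

/-- The algebra of a chart. -/
abbrev mRing : Type u := MvPolynomial (M × Fin k) R ⧸ Ideal.span (mRel R x)

variable {R} {x}

theorem mk_mRel {r : MvPolynomial (M × Fin k) R} (h : r ∈ mRel R x) :
    Ideal.Quotient.mk (Ideal.span (mRel R x)) r = 0 :=
  Ideal.Quotient.eq_zero_iff_mem.2 (Ideal.subset_span h)

variable (R) (x)

/-- The universal coordinates. -/
noncomputable def uC : M →ₗ[R] (Fin k → mRing R x) where
  toFun m i := Ideal.Quotient.mk _ (MvPolynomial.X (m, i))
  map_add' m m' := funext fun i => by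
    have := mk_mRel (R := R) (x := x) (Or.inl (Or.inl ⟨(m, m', i), rfl⟩))
    rw [map_sub, map_sub, sub_sub, sub_eq_zero] at this
    exact this
  map_smul' r m := funext fun i => by
    have := mk_mRel (R := R) (x := x) (Or.inl (Or.inr ⟨(r, m, i), rfl⟩))
    rw [map_sub, map_mul, sub_eq_zero] at this
    refine this.trans ?_
    simp only [RingHom.id_apply, Pi.smul_apply]
    rw [← Ideal.Quotient.mkₐ_eq_mk R, ← map_mul, ← map_smul, MvPolynomial.smul_eq_C_mul]

theorem uC_apply_x (j : Fin k) : uC R x (x j) = Pi.single j 1 := funext fun i => by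
  have := mk_mRel (R := R) (x := x) (Or.inr ⟨(j, i), rfl⟩)
  rw [map_sub, sub_eq_zero] at this
  refine this.trans ?_
  by_cases h : i = j
  · subst h; simp
  · simp [Pi.single_eq_of_ne h]

theorem isOpen_inMChart {A L : Type u} [CommRing A] [Algebra R A] [Field L] [Algebra R L] (ψ : A →ₐ[R] L)
    (N : Grassmannian A (A ⊗[R] M) k) (h : InMChart x (Grassmannian.map ψ N)) :
    ∃ a : A, ψ a ≠ 0 ∧ InMChart x (Grassmannian.map (awayHom (R := R) a) N) := by
  letI : Algebra A L := ψ.toRingHom.toAlgebra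
  haveI : IsScalarTower R A L := IsScalarTower.of_algebraMap_eq' ψ.comp_algebraMap.symm
  let Q' := (A ⊗[R] M) ⧸ colSpan x N.toSubmodule
  let f : ((A ⊗[R] M) ⧸ N.toSubmodule) →ₗ[A] Q' := Submodule.factor le_sup_left
  have : Module.Finite A Q' := Module.Finite.of_surjective f (Submodule.factor_surjective _)
  have hsub : Subsingleton (L ⊗[A] Q') := by
    refine subsingleton_of_forall_eq 0 fun w => ?_
    obtain ⟨q, rfl⟩ := LinearMap.baseChange_surjective L (Submodule.factor_surjective _ : Function.Surjective f) w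
    obtain ⟨z, rfl⟩ := Grassmannian.baseChangeMkQ_surjective (B := L) N.toSubmodule q
    have hz : z ∈ colSpan x (Grassmannian.map ψ N).toSubmodule := by
      rw [show colSpan x (Grassmannian.map ψ N).toSubmodule = ⊤ from h]; trivial
    obtain ⟨n, hn, w, hw, rfl⟩ := Submodule.mem_sup.1 hz
    rw [map_add, show Grassmannian.baseChangeMkQ L N.toSubmodule n = 0 from (mem_map_iff ψ N n).1 hn, zero_add]
    clear hz hn
    induction hw using Submodule.span_induction with
    | mem y hy =>
      obtain ⟨i, rfl⟩ := hy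
      have h1 : quotMap ψ N (bcι ψ ((1 : A) ⊗ₜ[R] x i)) = (1 : L) ⊗ₜ[A] N.toSubmodule.mkQ ((1 : A) ⊗ₜ[R] x i) :=
        quotMap_bcι ψ N _
      rw [bcι_tmul, map_one] at h1
      show f.baseChange L (quotMap ψ N _) = 0
      rw [h1, LinearMap.baseChange_tmul,
        show f (N.toSubmodule.mkQ ((1 : A) ⊗ₜ[R] x i)) = 0 from
          (Submodule.Quotient.mk_eq_zero _).2 (Submodule.mem_sup_right (Submodule.subset_span ⟨i, rfl⟩)), tmul_zero]
    | zero => simp
    | add a b _ _ ha hb => rw [map_add, map_add, ha, hb, add_zero]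
    | smul t a _ ha => rw [map_smul, map_smul, ha, smul_zero]
  let p : PrimeSpectrum A := ⟨RingHom.ker ψ.toRingHom, RingHom.ker_isPrime _⟩
  have hp : p ∉ Module.support A Q' := by
    intro hp
    haveI := p.isPrime
    let κ := p.asIdeal.ResidueField
    haveI : Nontrivial (κ ⊗[A] Q') := (Module.mem_support_iff_nontrivial_residueField_tensorProduct p).1 hp
    let g : κ →+* L := Ideal.ResidueField.lift p.asIdeal ψ.toRingHom le_rfl fun y (hy : y ∉ RingHom.ker ψ.toRingHom) =>
      isUnit_iff_ne_zero.2 hy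
    letI : Algebra κ L := g.toAlgebra
    haveI : IsScalarTower A κ L := IsScalarTower.of_algebraMap_eq fun a => (Ideal.ResidueField.lift_algebraMap ..).symm
    have : Subsingleton (L ⊗[κ] (κ ⊗[A] Q')) :=
      (AlgebraTensorModule.cancelBaseChange A κ L L Q').toEquiv.subsingleton_congr.2 hsub
    have h0 : Module.finrank L (L ⊗[κ] (κ ⊗[A] Q')) = 0 := Module.finrank_zero_of_subsingleton
    rw [Module.finrank_baseChange] at h0
    exact not_subsingleton (κ ⊗[A] Q') (Module.finrank_zero_iff.1 h0)
  rw [Module.mem_support_iff_of_finite, SetLike.not_le_iff_exists] at hp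
  obtain ⟨a, ha, hap⟩ := hp
  refine ⟨a, hap, eq_top_of_one_tmul fun m => ?_⟩
  have h1 : a • ((1 : A) ⊗ₜ[R] m) ∈ colSpan x N.toSubmodule :=
    (Submodule.Quotient.mk_eq_zero _).1 (Module.mem_annihilator.1 ha (Submodule.Quotient.mk ((1 : A) ⊗ₜ[R] m)))
  have h2 := bcι_mem_colSpan (awayHom (R := R) a) N h1
  rw [bcι_smul, bcι_tmul, map_one] at h2
  exact (Submodule.smul_mem_iff_of_isUnit _ (IsLocalization.Away.algebraMap_isUnit a)).1 h2

/-- The chart attached to a family of elements. -/
noncomputable def mChart : Chart (mFun R M k) where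
  P _ N := InMChart x N
  C := CommAlgCat.of R (mRing R x)
  univ := gr (uC R x) (uC_apply_x R x)
  mem_univ := gr_inMChart _ _
  map_mem {_ _} φ {N} h := InMChart.map φ.hom h
  lift {A N} h := by
    obtain ⟨u, hu, rfl⟩ := InMChart.exists_eq h
    let ev : MvPolynomial (M × Fin k) R →ₐ[R] A := MvPolynomial.aeval fun p => u p.1 p.2
    have hev : ∀ r ∈ Ideal.span (mRel R x), ev r = 0 := by
      refine fun r hr => (Ideal.span_le (I := RingHom.ker ev.toRingHom)).2 ?_ hr
      rintro _ ((⟨⟨m, m', i⟩, rfl⟩ | ⟨⟨r, m, i⟩, rfl⟩) | ⟨⟨j, i⟩, rfl⟩)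
      · simp [ev]
      · simp [ev, Algebra.smul_def]
      · simp [ev, hu, Pi.single_apply]
    let ρ : mRing R x →ₐ[R] A := Ideal.Quotient.liftₐ _ ev hev
    have hρ : ∀ ρ' : mRing R x →ₐ[R] A, (ρ'.toLinearMap.compLeft (Fin k)).comp (uC R x) = u ↔ ρ' = ρ := by
      intro ρ'
      constructor
      · intro h
        refine Ideal.Quotient.algHom_ext _ (MvPolynomial.algHom_ext fun v => ?_)
        exact (congrFun (LinearMap.congr_fun h v.1) v.2).trans (MvPolynomial.aeval_X (fun p : M × Fin k => u p.1 p.2) v).symm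
      · rintro rfl
        exact LinearMap.ext fun m => funext fun i => MvPolynomial.aeval_X _ (m, i)
    have hu' : ∀ (ρ' : mRing R x →ₐ[R] A) (j), ((ρ'.toLinearMap.compLeft (Fin k)).comp (uC R x)) (x j) = Pi.single j 1 := by
      intro ρ' j
      funext i
      show ρ' (uC R x (x j) i) = _
      rw [uC_apply_x]
      by_cases h : i = j
      · subst h; simp
      · simp [Pi.single_eq_of_ne h]
    refine ⟨CommAlgCat.ofHom ρ, ?_, fun ρ' hρ' => CommAlgCat.hom_ext ((hρ ρ'.hom).1 ?_)⟩
    · show Grassmannian.map ρ (gr (uC R x) _) = _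
      rw [map_gr _ ρ _ (hu' ρ)]
      congr 1
      exact (hρ ρ).2 rfl
    · have h1 : Grassmannian.map ρ'.hom (gr (uC R x) (uC_apply_x R x)) = gr u hu := hρ'
      rw [map_gr _ ρ'.hom _ (hu' ρ'.hom)] at h1
      exact gr_injective _ _ _ h1
  isOpen {A} N L hL ψ h := by
    letI := hL.toField
    exact isOpen_inMChart R x ψ.hom N h

end Chart

/-- Some chart contains a given point over a field. -/
theorem exists_inMChart {L : Type u} [Field L] [Algebra R L] (N : Grassmannian L (L ⊗[R] M) k) :
    ∃ x : Fin k → M, InMChart x N := by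
  classical
  let S : Set ((L ⊗[R] M) ⧸ N.toSubmodule) := Set.range fun m : M => N.toSubmodule.mkQ ((1 : L) ⊗ₜ[R] m)
  have hS : Submodule.span L S = ⊤ := by
    have h1 : Submodule.span L (Set.range fun m : M => (1 : L) ⊗ₜ[R] m) = ⊤ :=
      eq_top_of_one_tmul fun m => Submodule.subset_span ⟨m, rfl⟩
    rw [show S = N.toSubmodule.mkQ '' (Set.range fun m : M => (1 : L) ⊗ₜ[R] m) from
      (Set.range_comp N.toSubmodule.mkQ fun m : M => (1 : L) ⊗ₜ[R] m), ← Submodule.map_span, h1, Submodule.map_top,
      Submodule.range_mkQ]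
  obtain ⟨b, hbS, hbspan, hbli⟩ := exists_linearIndependent L S
  let B : Module.Basis b L ((L ⊗[R] M) ⧸ N.toSubmodule) := Module.Basis.mk hbli (by
    rw [Subtype.range_coe, hbspan, hS])
  haveI : Fintype b := FiniteDimensional.fintypeBasisIndex B
  have hcard : Fintype.card b = k := by
    rw [← Module.finrank_eq_card_basis B]
    have h0 := N.rankAtStalk_eq ⟨⊥, Ideal.isPrime_bot⟩
    rw [Module.rankAtStalk_eq_finrank_of_free] at h0
    exact h0
  let σ := (Fintype.equivFinOfCardEq hcard).symm
  choose m hm using fun i => hbS (σ i).2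
  refine ⟨m, eq_top_iff.2 fun z _ => ?_⟩
  have hz : N.toSubmodule.mkQ z ∈ Submodule.span L (Set.range fun i => N.toSubmodule.mkQ ((1 : L) ⊗ₜ[R] m i)) := by
    rw [show (fun i => N.toSubmodule.mkQ ((1 : L) ⊗ₜ[R] m i)) = Subtype.val ∘ σ from funext hm,
      σ.surjective.range_comp, Subtype.range_coe, hbspan, hS]
    trivial
  rw [Set.range_comp' N.toSubmodule.mkQ (fun i => (1 : L) ⊗ₜ[R] m i), ← Submodule.map_span] at hz
  obtain ⟨w, hw, hwz⟩ := hz
  exact Submodule.mem_sup.2 ⟨z - w, (Submodule.Quotient.eq _).1 hwz.symm, w, hw, sub_add_cancel _ _⟩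

variable (R M k)

/-- The Grassmannian of a module is representable. -/
theorem exists_grassmannian :
    ∃ (X : Over (Spec (CommRingCat.of R))) (e : ∀ A, (sp A ⟶ X) ≃ (mFun R M k).obj A), IsNat X (mFun R M k) e :=
  exists_representing isZarSheaf_mFun (fun x : Fin k → M => mChart R x) fun L hL N => by
    letI := hL.toField
    exact exists_inMChart N

end Groth.Agent.Grass60
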