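import Groth.Agent.Grass60.Closed
import Groth.Agent.Grass60.Fam

/-!
The Grassmannian functor of a module is a Zariski sheaf.
-/

set_option autoImplicit false
set_option backward.isDefEq.respectTransparency false
set_option linter.style.haveILetI false

universe u

open TensorProduct CategoryTheory

namespace Groth.Agent.Grass60

open Synt29.RepOpen
open Module (Grassmannian)

variable {R : Type u} [CommRing R] {M : Type u} [AddCommGroup M] [Module R M] {k : ℕ}
variable {A C D : Type u} [CommRing A] [Algebra R A] [CommRing C] [Algebra R C] [CommRing D] [Algebra R D]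

theorem bcι_smul (φ : A →ₐ[R] C) (a : A) (x : A ⊗[R] M) : bcι φ (a • x) = φ a • bcι φ x := by
  induction x with
  | zero => simp
  | tmul a' m => rw [smul_tmul', bcι_tmul, bcι_tmul, smul_tmul', smul_eq_mul, map_mul, smul_eq_mul]
  | add x y hx hy => rw [smul_add, map_add, map_add, smul_add, hx, hy]

theorem bcι_bcι (φ : A →ₐ[R] C) (ψ : C →ₐ[R] D) (x : A ⊗[R] M) : bcι ψ (bcι φ x) = bcι (ψ.comp φ) x := by
  induction x with
  | zero => simp
  | tmul a m => rfl
  | add x y hx hy => simp only [map_add, hx, hy]

theorem bcι_mem_map (φ : A →ₐ[R] C) (N : Grassmannian A (A ⊗[R] M) k) {x : A ⊗[R] M}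
    (hx : x ∈ N.toSubmodule) : bcι φ x ∈ (Grassmannian.map φ N).toSubmodule := by
  refine (mem_map_iff φ N _).2 ?_
  rw [quotMap_bcι, Submodule.mkQ_apply, (Submodule.Quotient.mk_eq_zero _).2 hx, tmul_zero]

theorem map_eq_span (φ : A →ₐ[R] C) (N : Grassmannian A (A ⊗[R] M) k) :
    (Grassmannian.map φ N).toSubmodule = Submodule.span C (bcι φ '' (N.toSubmodule : Set (A ⊗[R] M))) := by
  letI : Algebra A C := φ.toRingHom.toAlgebra
  haveI : IsScalarTower R A C := IsScalarTower.of_algebraMap_eq' φ.comp_algebraMap.symm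
  refine le_antisymm (fun z hz => ?_) (Submodule.span_le.2 ?_)
  · let cbc := TensorProduct.AlgebraTensorModule.cancelBaseChange R A C C M
    have hz' : quotMap φ N z = 0 := (mem_map_iff φ N z).1 hz
    obtain ⟨w, hw⟩ := (lTensor_exact (M := N.toSubmodule) C (LinearMap.exact_subtype_mkQ N.toSubmodule)
      N.toSubmodule.mkQ_surjective (cbc.symm z)).1 hz'
    rw [← cbc.apply_symm_apply z, ← hw]
    clear hw hz hz'
    induction w with
    | zero => simp
    | tmul c x =>
      have h1 : cbc (c ⊗ₜ[A] (x : A ⊗[R] M)) = c • bcι φ (x : A ⊗[R] M) := by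
        generalize (x : A ⊗[R] M) = y
        induction y with
        | zero => simp
        | tmul t b => simp [cbc, bcι_tmul, smul_tmul', Algebra.smul_def, mul_comm]; rfl
        | add y y' hy hy' => rw [tmul_add, map_add, map_add, smul_add, hy, hy']
      rw [LinearMap.lTensor_tmul, Submodule.subtype_apply, h1]
      exact Submodule.smul_mem _ _ (Submodule.subset_span ⟨_, x.2, rfl⟩)
    | add x y hx hy => rw [map_add, map_add]; exact add_mem hx hy
  · rintro _ ⟨x, hx, rfl⟩
    exact bcι_mem_map φ N hx

/-- Comparable points are equal. -/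
theorem grassmannian_eq_of_le {P : Type u} [AddCommGroup P] [Module A P] {N N' : Grassmannian A P k}
    (h : N.toSubmodule ≤ N'.toSubmodule) : N = N' := by
  let g := Submodule.factor h
  have hb : Function.Bijective g :=
    Module.bijective_of_surjective_of_rankAtStalk_eq (Submodule.factor_surjective h) fun q _ => by
      rw [N.rankAtStalk_eq, N'.rankAtStalk_eq]
  refine Grassmannian.ext (le_antisymm h fun z hz => ?_)
  have : g (Submodule.Quotient.mk z) = g 0 := by
    rw [map_zero]
    exact (Submodule.Quotient.mk_eq_zero _).2 hz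
  exact (Submodule.Quotient.mk_eq_zero _).1 (hb.1 this)

section Away

/-- The map to a localisation at one element. -/
noncomputable abbrev awayHom (f : A) : A →ₐ[R] Localization.Away f :=
  IsScalarTower.toAlgHom R A (Localization.Away f)

/-- Localisation of a base change. -/
noncomputable def awayι (f : A) : A ⊗[R] M →ₗ[A] Localization.Away f ⊗[R] M :=
  AlgebraTensorModule.rTensor R M (Algebra.linearMap A (Localization.Away f))

instance (f : A) : IsLocalizedModule (Submonoid.powers f) (awayι (R := R) (M := M) f) := by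
  unfold awayι
  infer_instance

theorem awayι_eq (f : A) (x : A ⊗[R] M) : awayι f x = bcι (awayHom (R := R) f) x := by
  induction x with
  | zero => simp
  | tmul a m => rfl
  | add x y hx hy => rw [map_add, map_add, hx, hy]

theorem exists_pow_smul_mem (f : A) (N : Grassmannian A (A ⊗[R] M) k) (y : A ⊗[R] M)
    (h : bcι (awayHom f) y ∈ (Grassmannian.map (awayHom f) N).toSubmodule) :
    ∃ n : ℕ, f ^ n • y ∈ N.toSubmodule := by
  rw [map_eq_span, show bcι (awayHom (R := R) f) '' (N.toSubmodule : Set (A ⊗[R] M)) = awayι f '' N.toSubmodule from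
    Set.image_congr fun z _ => (awayι_eq f z).symm, ← Submodule.localized'_eq_span (Localization.Away f) (Submonoid.powers f),
    ← awayι_eq] at h
  obtain ⟨m, hm, ⟨_, j, rfl⟩, hj⟩ := h
  rw [IsLocalizedModule.mk'_eq_iff, Submonoid.smul_def, ← map_smul] at hj
  obtain ⟨⟨_, l, rfl⟩, hl⟩ := IsLocalizedModule.exists_of_eq (S := Submonoid.powers f) hj
  refine ⟨l + j, ?_⟩
  rw [pow_add, mul_smul]
  simp only [Submonoid.smul_def] at hl
  rw [← hl]
  exact N.toSubmodule.smul_mem _ hm

/-- Points are determined locally. -/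
theorem grassmannian_ext_local (s : Set A) (hs : Ideal.span s = ⊤) (N N' : Grassmannian A (A ⊗[R] M) k)
    (h : ∀ f ∈ s, Grassmannian.map (awayHom f) N = Grassmannian.map (awayHom f) N') : N = N' := by
  refine grassmannian_eq_of_le fun z hz => ?_
  refine Submodule.mem_of_span_eq_top_of_smul_pow_mem _ s hs z fun f => ?_
  exact exists_pow_smul_mem (f : A) N' z (h f f.2 ▸ bcι_mem_map _ N hz)

/-- Compatible local points glue, for a finite covering family. -/
theorem exists_glue_finite (t : Finset A) (ht : Ideal.span (t : Set A) = ⊤)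
    (x : ∀ f : t, Grassmannian (Localization.Away (f : A)) (Localization.Away (f : A) ⊗[R] M) k)
    (hx : ∀ (f g : t) (B : Type u) [CommRing B] [Algebra R B] (φ : Localization.Away (f : A) →ₐ[R] B)
      (ψ : Localization.Away (g : A) →ₐ[R] B), φ.comp (awayHom (f : A)) = ψ.comp (awayHom (g : A)) →
        Grassmannian.map φ (x f) = Grassmannian.map ψ (x g)) :
    ∃ N : Grassmannian A (A ⊗[R] M) k, ∀ f : t, Grassmannian.map (awayHom (f : A)) N = x f := by
  classical
  let S : Submodule A (A ⊗[R] M) := ⨅ f : t, ((x f).toSubmodule.restrictScalars A).comap (awayι (f : A))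
  have hS : ∀ {y : A ⊗[R] M}, y ∈ S ↔ ∀ g : t, awayι (g : A) y ∈ (x g).toSubmodule := fun {y} => by
    simp [S, Submodule.mem_iInf]
  have hloc : ∀ f : t, S.localized' (Localization.Away (f : A)) (Submonoid.powers (f : A)) (awayι (f : A)) =
      (x f).toSubmodule := by
    intro f
    refine le_antisymm ?_ fun z hz => ?_
    · rw [Submodule.localized'_eq_span, Submodule.span_le]
      rintro _ ⟨y, hy, rfl⟩
      exact hS.1 hy f
    · obtain ⟨⟨y, ⟨_, n, rfl⟩⟩, hy⟩ := IsLocalizedModule.surj (Submonoid.powers (f : A)) (awayι (f : A)) z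
      have hyf : awayι (f : A) y ∈ (x f).toSubmodule := by
        rw [← hy, Submonoid.smul_def]
        exact ((x f).toSubmodule.restrictScalars A).smul_mem _ hz
      have hg : ∀ g : t, ∃ m, (f : A) ^ m • awayι (g : A) y ∈ (x g).toSubmodule := by
        intro g
        let f' : Localization.Away (g : A) := algebraMap A _ (f : A)
        let χ : Localization.Away (g : A) →ₐ[R] Localization.Away f' := awayHom f'
        let φ : Localization.Away (f : A) →ₐ[R] Localization.Away f' :=
          IsLocalization.liftAlgHom (M := Submonoid.powers (f : A)) (f := χ.comp (awayHom (g : A))) fun z => by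
            obtain ⟨j, hj⟩ := z.2
            rw [← hj, map_pow]
            exact (IsLocalization.Away.algebraMap_isUnit f').pow j
        have hφ : φ.comp (awayHom (f : A)) = χ.comp (awayHom (g : A)) :=
          AlgHom.ext fun a => IsLocalization.lift_eq _ _
        have h1 := bcι_mem_map φ (x f) hyf
        rw [hx f g _ φ χ hφ, awayι_eq, bcι_bcι, hφ, ← bcι_bcι, ← awayι_eq] at h1
        obtain ⟨m, hm⟩ := exists_pow_smul_mem f' (x g) _ h1
        refine ⟨m, ?_⟩
        rw [← IsScalarTower.algebraMap_smul (Localization.Away (g : A)), map_pow]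
        exact hm
      choose m hm using hg
      have hmem : (f : A) ^ (∑ g, m g) • y ∈ S := hS.2 fun g => by
        rw [map_smul, ← Finset.sum_erase_add _ _ (Finset.mem_univ g), pow_add, mul_smul]
        exact ((x g).toSubmodule.restrictScalars A).smul_mem _ (hm g)
      refine ⟨_, hmem, ⟨_, (∑ g, m g) + n, rfl⟩, ?_⟩
      rw [IsLocalizedModule.mk'_eq_iff, map_smul, ← hy]
      simp only [Submonoid.smul_def, pow_add, mul_smul]
  have e : ∀ f : t, (Localization.Away (f : A) ⊗[R] M ⧸
      S.localized' (Localization.Away (f : A)) (Submonoid.powers (f : A)) (awayι (f : A))) ≃ₗ[Localization.Away (f : A)]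
      (Localization.Away (f : A) ⊗[R] M ⧸ (x f).toSubmodule) := fun f => Submodule.quotEquivOfEq _ _ (hloc f)
  let Q : ∀ f : (t : Set A), Type u := fun f =>
    Localization.Away (f : A) ⊗[R] M ⧸
      S.localized' (Localization.Away (f : A)) (Submonoid.powers (f : A)) (awayι (f : A))
  let ϕ : ∀ f : (t : Set A), ((A ⊗[R] M) ⧸ S) →ₗ[A] Q f := fun f =>
    S.toLocalizedQuotient' (Localization.Away (f : A)) (Submonoid.powers (f : A)) (awayι (f : A))
  have hproj : ∀ f : t, Module.Projective (Localization.Away (f : A)) (Q f) := fun f =>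
    Module.Projective.of_equiv (e f).symm
  have hfin : ∀ f : t, Module.Finite (Localization.Away (f : A)) (Q f) := fun f => Module.Finite.equiv (e f).symm
  have hfp : Module.FinitePresentation A ((A ⊗[R] M) ⧸ S) := by
    refine Module.FinitePresentation.of_localizationSpan' (Mₚ := fun f : (t : Set A) => Localization.Away (f : A) ⊗[R] M ⧸
        S.localized' (Localization.Away (f : A)) (Submonoid.powers (f : A)) (awayι (f : A))) (Rₚ := fun f : (t : Set A) => Localization.Away (f : A))
      (t : Set A) ht ϕ fun f => ?_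
    haveI := hproj f
    haveI := hfin f
    exact Module.finitePresentation_of_projective _ _
  have hflat : Module.Flat A ((A ⊗[R] M) ⧸ S) := by
    refine Module.flat_of_isLocalized_span A ((A ⊗[R] M) ⧸ S) (t : Set A) ht Q ϕ fun f => ?_
    haveI := hproj f
    haveI : Module.Flat A (Localization.Away (f : A)) := IsLocalization.flat _ (Submonoid.powers (f : A))
    exact Module.Flat.trans A (Localization.Away (f : A)) _
  have hprojQ : Module.Projective A ((A ⊗[R] M) ⧸ S) := Module.Flat.projective_of_finitePresentation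
  have hrank : ∀ p : PrimeSpectrum A, Module.rankAtStalk (R := A) ((A ⊗[R] M) ⧸ S) p = k := by
    intro p
    obtain ⟨f, hft, hfp'⟩ := Set.not_subset.1 fun h : (t : Set A) ⊆ p.asIdeal =>
      p.isPrime.ne_top (top_unique (ht ▸ Ideal.span_le.2 h))
    have hdisj : Disjoint (Submonoid.powers f : Set A) p.asIdeal :=
      (Ideal.disjoint_powers_iff_notMem _ p.isPrime.isRadical).2 hfp'
    obtain ⟨q, hq⟩ : ∃ q, PrimeSpectrum.comap (algebraMap A (Localization.Away f)) q = p := by
      refine (Set.ext_iff.1 (PrimeSpectrum.localization_away_comap_range (Localization.Away f) f) p).2 ?_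
      exact hfp'
    have e' := (IsLocalizedModule.isBaseChange (Submonoid.powers f) (Localization.Away f) (ϕ ⟨f, hft⟩)).equiv
    rw [← hq, ← Module.rankAtStalk_baseChange, Module.rankAtStalk_eq_of_equiv (e'.trans (e ⟨f, hft⟩)),
      (x ⟨f, hft⟩).rankAtStalk_eq]
  let N : Grassmannian A (A ⊗[R] M) k :=
    { toSubmodule := S
      finite_quotient := inferInstance
      projective_quotient := hprojQ
      rankAtStalk_eq := hrank }
  refine ⟨N, fun f => Grassmannian.ext ?_⟩
  rw [map_eq_span, ← hloc f, Submodule.localized'_eq_span]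
  exact congrArg _ (Set.image_congr fun y _ => (awayι_eq (f : A) y).symm)

end Away

theorem isZarSheaf_mFun : IsZarSheaf (mFun R M k) where
  sep A s hs N N' h := grassmannian_ext_local s hs N N' h
  glue A s hs x hx := by
    classical
    obtain ⟨t, hts, ht⟩ := (Ideal.span_eq_top_iff_finite s).1 hs
    obtain ⟨N, hN⟩ := exists_glue_finite t ht (fun f : t => x ⟨f, hts f.2⟩) fun f g B _ _ φ ψ h =>
      hx ⟨f, hts f.2⟩ ⟨g, hts g.2⟩ (CommAlgCat.of R B) (CommAlgCat.ofHom φ) (CommAlgCat.ofHom ψ) (CommAlgCat.hom_ext h)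
    refine ⟨N, fun f => ?_⟩
    refine grassmannian_ext_local ((awayHom (R := R) (f : A)) '' (t : Set A)) ?_ _ _ ?_
    · rw [show (awayHom (R := R) (f : A)) '' (t : Set A) = (algebraMap A (Localization.Away (f : A))) '' t from rfl,
        ← Ideal.map_span, ht, Ideal.map_top]
    rintro _ ⟨g, hg, rfl⟩
    let B := Localization.Away (awayHom (R := R) (f : A) g)
    let χ : Localization.Away (f : A) →ₐ[R] B := awayHom _
    let ψ : Localization.Away g →ₐ[R] B :=
      IsLocalization.liftAlgHom (M := Submonoid.powers g) (f := χ.comp (awayHom (f : A))) fun z => by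
        obtain ⟨j, hj⟩ := z.2
        rw [← hj, map_pow]
        exact (IsLocalization.Away.algebraMap_isUnit (S := B) (awayHom (R := R) (f : A) g) : IsUnit (χ (awayHom (R := R) (f : A) g))).pow j
    have hψ : ψ.comp (awayHom g) = χ.comp (awayHom (f : A)) := AlgHom.ext fun a => IsLocalization.lift_eq _ _
    show Grassmannian.map χ (Grassmannian.map (awayHom (f : A)) N) = Grassmannian.map χ (x f)
    rw [← Grassmannian.map_comp, ← hψ, Grassmannian.map_comp, hN ⟨g, hg⟩]
    exact hx ⟨g, hts hg⟩ f (CommAlgCat.of R B) (CommAlgCat.ofHom ψ) (CommAlgCat.ofHom χ) (CommAlgCat.hom_ext hψ)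

end Groth.Agent.Grass60
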