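import Groth.Agent.Grass60.HilbFam
import Groth.Agent.Grass60.GrassRep
import Groth.Agent.HilbDLib.StableLocus

/-!
The Hilbert functor of points of an affine scheme over an affine base is representable.
-/

set_option autoImplicit false
set_option backward.isDefEq.respectTransparency false
set_option linter.style.haveILetI false

universe u

open CategoryTheory CategoryTheory.Limits AlgebraicGeometry TensorProduct

namespace Groth.Agent.Grass60

open Synt29.RepOpen HilbDLib
open Module (Grassmannian)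

section Ring

variable {P Q : CommRingCat.{u}}

/-- The ideal of a closed subscheme of a spectrum. -/
noncomputable def toJ (I : (Spec P).IdealSheafData) : Ideal P :=
  (I.ideal ⟨⊤, isAffineOpen_top (Spec P)⟩).comap (Scheme.ΓSpecIso P).inv.hom

theorem toJ_injective : Function.Injective (toJ (P := P)) := fun _ _ h =>
  Scheme.IdealSheafData.ext_of_isAffine (Ideal.comap_injective_of_surjective _
    (ConcreteCategory.bijective_of_isIso (Scheme.ΓSpecIso P).inv).2 h)

theorem map_toJ (I : (Spec P).IdealSheafData) :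
    (toJ I).map (Scheme.ΓSpecIso P).inv.hom = I.ideal ⟨⊤, isAffineOpen_top (Spec P)⟩ :=
  Ideal.map_comap_of_surjective _ (ConcreteCategory.bijective_of_isIso (Scheme.ΓSpecIso P).inv).2 _

theorem toJ_comap (ψ : P ⟶ Q) (I : (Spec P).IdealSheafData) :
    toJ (I.comap (Spec.map ψ)) = (toJ I).map ψ.hom := by
  conv_lhs => rw [toJ, DescLib.comap_ideal_top_of_isAffine, ← map_toJ I, Ideal.map_map]
  have hn : (Spec.map ψ).appTop.hom.comp (Scheme.ΓSpecIso P).inv.hom = (Scheme.ΓSpecIso Q).inv.hom.comp ψ.hom :=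
    (congrArg CommRingCat.Hom.hom (Scheme.ΓSpecIso_inv_naturality ψ)).symm
  rw [hn, ← Ideal.map_map, Ideal.comap_map_of_bijective _ (ConcreteCategory.bijective_of_isIso (Scheme.ΓSpecIso Q).inv)]

theorem toJ_ker (J : Ideal P) : toJ (Spec.map (CommRingCat.ofHom (Ideal.Quotient.mk J))).ker = J := by
  let q := CommRingCat.ofHom (Ideal.Quotient.mk J)
  haveI : IsClosedImmersion (Spec.map q) := IsClosedImmersion.spec_of_surjective q Ideal.Quotient.mk_surjective
  unfold toJ
  rw [Scheme.Hom.ker_apply]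
  ext z
  show (Spec.map q).appTop.hom ((Scheme.ΓSpecIso P).inv.hom z) = 0 ↔ z ∈ J
  have hn : (Spec.map q).appTop.hom ((Scheme.ΓSpecIso P).inv.hom z) = (Scheme.ΓSpecIso _).inv.hom (q.hom z) :=
    (RingHom.congr_fun (congrArg CommRingCat.Hom.hom (Scheme.ΓSpecIso_inv_naturality q)) z).symm
  rw [hn, map_eq_zero_iff _ (ConcreteCategory.bijective_of_isIso (Scheme.ΓSpecIso (CommRingCat.of (P ⧸ J))).inv).1]
  exact Ideal.Quotient.eq_zero_iff_mem

theorem deg_iso_comp {U V W : Scheme.{u}} (e : U ⟶ V) [IsIso e] (p : V ⟶ W) (d : ℕ) :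
    Mor2.IsFinLocFreeOfDeg d (e ≫ p) ↔ Mor2.IsFinLocFreeOfDeg d p := by
  constructor
  · rintro ⟨⟨h1, h2, h3⟩, h4⟩
    haveI : IsFinite p := (MorphismProperty.cancel_left_of_respectsIso (P := @IsFinite) e p).1 h1
    haveI : Flat p := (MorphismProperty.cancel_left_of_respectsIso (P := @Flat) e p).1 h2
    refine ⟨⟨inferInstance, inferInstance,
      (MorphismProperty.cancel_left_of_respectsIso (P := @LocallyOfFinitePresentation) e p).1 h3⟩, fun y => ?_⟩
    rw [← h4 y, Scheme.Hom.finrank_comp_left_of_isIso]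
  · rintro ⟨⟨h1, h2, h3⟩, h4⟩
    haveI := h1; haveI := h2; haveI := h3
    exact ⟨⟨inferInstance, inferInstance, inferInstance⟩, fun y => by
      rw [Scheme.Hom.finrank_comp_left_of_isIso]; exact h4 y⟩

theorem deg_spec_iff (A Q : Type u) [CommRing A] [CommRing Q] [Algebra A Q] (d : ℕ) :
    Mor2.IsFinLocFreeOfDeg d (Spec.map (CommRingCat.ofHom (algebraMap A Q))) ↔
      Module.Finite A Q ∧ Module.Projective A Q ∧ ∀ p, Module.rankAtStalk (R := A) Q p = d := by
  constructor
  · rintro ⟨⟨h1, h2, h3⟩, h4⟩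
    haveI : Module.Finite A Q := RingHom.finite_algebraMap.1 ((IsFinite.SpecMap_iff _).1 h1)
    haveI : Module.Flat A Q := RingHom.flat_algebraMap_iff.1 (Flat.SpecMap_iff.1 h2)
    haveI : Algebra.FinitePresentation A Q :=
      RingHom.finitePresentation_algebraMap.1 ((LocallyOfFinitePresentation.SpecMap_iff _).1 h3)
    haveI : Module.FinitePresentation A Q := Module.FinitePresentation.of_finite_of_finitePresentation A Q
    exact ⟨inferInstance, Module.Flat.projective_of_finitePresentation, fun p => by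
      rw [← Scheme.Hom.finrank_SpecMap_algebraMap A Q p]; exact h4 p⟩
  · rintro ⟨h1, h2, h4⟩
    haveI : Module.FinitePresentation A Q := Module.finitePresentation_of_projective A Q
    refine ⟨⟨(IsFinite.SpecMap_iff _).2 (RingHom.finite_algebraMap.2 h1),
      Flat.SpecMap_iff.2 (RingHom.flat_algebraMap_iff.2 inferInstance),
      (LocallyOfFinitePresentation.SpecMap_iff _).2 (RingHom.finitePresentation_algebraMap.2 inferInstance)⟩,
      fun p => ?_⟩
    rw [Scheme.Hom.finrank_SpecMap_algebraMap A Q p]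
    exact h4 p

end Ring

variable {R : Type u} [CommRing R] (B : Type u) [CommRing B] [Algebra R B]

/-- The affine scheme of an algebra over the base. -/
noncomputable abbrev fB (R : Type u) [CommRing R] (B : Type u) [CommRing B] [Algebra R B] :
    Spec (CommRingCat.of B) ⟶ Spec (CommRingCat.of R) :=
  Spec.map (CommRingCat.ofHom (algebraMap R B))

/-- The spectrum of the tensor product as base change. -/
noncomputable def kap (A : CommAlgCat.{u} R) :
    Spec (CommRingCat.of ((A : Type u) ⊗[R] B)) ⟶ PicF.XT (fB R B) (sp A) :=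
  (pullbackSpecIso R A B).inv ≫ (pullbackSymmetry _ _).hom

instance (A : CommAlgCat.{u} R) : IsIso (kap B A) := by unfold kap; infer_instance

theorem kap_fst (A : CommAlgCat.{u} R) : kap B A ≫ pullback.fst (fB R B) (sp A).hom =
    Spec.map (CommRingCat.ofHom (Algebra.TensorProduct.includeRight (R := R) (A := (A : Type u)) (B := B)).toRingHom) := by
  rw [kap, Category.assoc]
  erw [pullbackSymmetry_hom_comp_fst]
  exact pullbackSpecIso_inv_snd R A B

theorem kap_proj (A : CommAlgCat.{u} R) : kap B A ≫ PicF.XTproj (fB R B) (sp A) =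
    Spec.map (CommRingCat.ofHom (Algebra.TensorProduct.includeLeftRingHom : A →+* (A : Type u) ⊗[R] B)) := by
  show kap B A ≫ pullback.snd _ _ = _
  rw [kap, Category.assoc]
  erw [pullbackSymmetry_hom_comp_snd]
  exact pullbackSpecIso_inv_fst R A B

/-- The map of tensor products. -/
noncomputable abbrev psi {A C : CommAlgCat.{u} R} (φ : A ⟶ C) : (A : Type u) ⊗[R] B →ₐ[R] (C : Type u) ⊗[R] B :=
  Algebra.TensorProduct.map φ.hom (AlgHom.id R B)

theorem kap_nat {A C : CommAlgCat.{u} R} (φ : A ⟶ C) :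
    kap B C ≫ PicF.XTmap (fB R B) (spOver φ) = Spec.map (CommRingCat.ofHom (psi B φ).toRingHom) ≫ kap B A := by
  refine pullback.hom_ext ?_ ?_
  · rw [Category.assoc, Category.assoc, XTmap_fst, kap_fst, kap_fst, ← Spec.map_comp, ← CommRingCat.ofHom_comp]
    refine congrArg (fun t => Spec.map (CommRingCat.ofHom t)) (RingHom.ext fun b => ?_)
    show (1 : C) ⊗ₜ[R] b = psi B φ ((1 : A) ⊗ₜ[R] b)
    simp
  · show (kap B C ≫ _) ≫ PicF.XTproj _ _ = (_ ≫ kap B A) ≫ PicF.XTproj _ _
    rw [Category.assoc, Category.assoc, XTmap_proj, ← Category.assoc, kap_proj, kap_proj]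
    show _ ≫ spMap φ = _
    rw [← Spec.map_comp, ← Spec.map_comp, ← CommRingCat.ofHom_comp, ← CommRingCat.ofHom_comp]
    refine congrArg (fun t => Spec.map (CommRingCat.ofHom t)) (RingHom.ext fun a => ?_)
    show (φ.hom a) ⊗ₜ[R] (1 : B) = psi B φ (a ⊗ₜ[R] (1 : B))
    simp

variable {B}

/-- The ideal of a closed subscheme of the base change. -/
noncomputable def toJA {A : CommAlgCat.{u} R} (I : (PicF.XT (fB R B) (sp A)).IdealSheafData) :
    Ideal ((A : Type u) ⊗[R] B) :=
  toJ (I.comap (kap B A))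

theorem toJA_injective {A : CommAlgCat.{u} R} : Function.Injective (toJA (B := B) (A := A)) := fun I I' h => by
  have := congrArg (fun K : Scheme.IdealSheafData _ => K.comap (inv (kap B A))) (toJ_injective h)
  simpa only [← Scheme.IdealSheafData.comap_comp, IsIso.inv_hom_id, Scheme.IdealSheafData.comap_id] using this

theorem toJA_comap {A C : CommAlgCat.{u} R} (φ : A ⟶ C) (I : (PicF.XT (fB R B) (sp A)).IdealSheafData) :
    toJA (I.comap (PicF.XTmap (fB R B) (spOver φ))) = (toJA I).map (psi B φ).toRingHom := by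
  rw [toJA, ← Scheme.IdealSheafData.comap_comp, kap_nat, Scheme.IdealSheafData.comap_comp, toJ_comap]
  rfl

/-- The closed subscheme of an ideal. -/
noncomputable def ofJA {A : CommAlgCat.{u} R} (J : Ideal ((A : Type u) ⊗[R] B)) :
    (PicF.XT (fB R B) (sp A)).IdealSheafData :=
  (Spec.map (CommRingCat.ofHom (Ideal.Quotient.mk J))).ker.comap (inv (kap B A))

theorem toJA_ofJA {A : CommAlgCat.{u} R} (J : Ideal ((A : Type u) ⊗[R] B)) : toJA (ofJA J) = J := by
  rw [toJA, ofJA, ← Scheme.IdealSheafData.comap_comp, IsIso.hom_inv_id, Scheme.IdealSheafData.comap_id]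
  exact toJ_ker (P := CommRingCat.of ((A : Type u) ⊗[R] B)) J

theorem deg_iff {A : CommAlgCat.{u} R} (I : (PicF.XT (fB R B) (sp A)).IdealSheafData) (d : ℕ) :
    Mor2.IsFinLocFreeOfDeg d (I.subschemeι ≫ PicF.XTproj (fB R B) (sp A)) ↔
      Module.Finite A (((A : Type u) ⊗[R] B) ⧸ toJA I) ∧ Module.Projective A (((A : Type u) ⊗[R] B) ⧸ toJA I) ∧
        ∀ p, Module.rankAtStalk (R := A) (((A : Type u) ⊗[R] B) ⧸ toJA I) p = d := by
  let s := Spec.map (CommRingCat.ofHom (Ideal.Quotient.mk (toJA I)))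
  haveI : IsClosedImmersion s := IsClosedImmersion.spec_of_surjective _ Ideal.Quotient.mk_surjective
  have hI : I.comap (kap B A) = s.ker := toJ_injective (toJ_ker (P := CommRingCat.of ((A : Type u) ⊗[R] B)) (toJA I)).symm
  have e : (I.comap (kap B A)).subschemeι ≫ kap B A ≫ PicF.XTproj (fB R B) (sp A) =
      ((I.comapIso (kap B A)).hom ≫ pullback.snd (kap B A) I.subschemeι) ≫ I.subschemeι ≫ PicF.XTproj (fB R B) (sp A) := by
    rw [← Scheme.IdealSheafData.comapIso_hom_fst]
    simp only [Category.assoc, pullback.condition_assoc]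
  rw [← deg_iso_comp ((I.comapIso (kap B A)).hom ≫ pullback.snd (kap B A) I.subschemeι) _ d, ← e, hI,
    finLocFreeOfDeg_ker, kap_proj, ← Spec.map_comp]
  exact deg_spec_iff A (((A : Type u) ⊗[R] B) ⧸ toJA I) d

section Stable

open HilbDLib.StableLocus (Stab)

theorem mul_mem_of_stab {A : Type u} [CommRing A] [Algebra R A] {N : Submodule A (A ⊗[R] B)} (h : Stab N)
    (r : A ⊗[R] B) {x : A ⊗[R] B} (hx : x ∈ N) : r * x ∈ N := by
  induction r with
  | zero => simp
  | tmul a b =>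
    rw [show a ⊗ₜ[R] b = a • ((1 : A) ⊗ₜ[R] b) by rw [smul_tmul', smul_eq_mul, mul_one], smul_mul_assoc]
    exact N.smul_mem a (h b x hx)
  | add y z hy hz => rw [add_mul]; exact add_mem hy hz

variable {d : ℕ}

/-- The ideal of a stable point. -/
def idealOfStab {A : Type u} [CommRing A] [Algebra R A] (N : Grassmannian A (A ⊗[R] B) d) (h : Stab N.toSubmodule) :
    Ideal (A ⊗[R] B) where
  carrier := N.toSubmodule
  add_mem' := N.toSubmodule.add_mem
  zero_mem' := N.toSubmodule.zero_mem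
  smul_mem' r _ hx := mul_mem_of_stab h r hx

theorem stab_deg {A : CommAlgCat.{u} R} (N : Grassmannian A ((A : Type u) ⊗[R] B) d) (h : Stab N.toSubmodule) :
    Mor2.IsFinLocFreeOfDeg d ((ofJA (idealOfStab N h)).subschemeι ≫ PicF.XTproj (fB R B) (sp A)) := by
  rw [deg_iff, toJA_ofJA]
  let e : (((A : Type u) ⊗[R] B) ⧸ idealOfStab N h) ≃ₗ[A] (((A : Type u) ⊗[R] B) ⧸ N.toSubmodule) :=
    (Submodule.Quotient.restrictScalarsEquiv (A : Type u) (idealOfStab N h)).symm.trans
      (Submodule.quotEquivOfEq _ _ rfl)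
  exact ⟨Module.Finite.equiv e.symm, Module.Projective.of_equiv e.symm,
    fun p => by rw [Module.rankAtStalk_eq_of_equiv e, N.rankAtStalk_eq]⟩

/-- The point of a closed subscheme. -/
noncomputable def ptOf {A : CommAlgCat.{u} R} (I : (PicF.XT (fB R B) (sp A)).IdealSheafData)
    (hI : Mor2.IsFinLocFreeOfDeg d (I.subschemeι ≫ PicF.XTproj (fB R B) (sp A))) :
    Grassmannian A ((A : Type u) ⊗[R] B) d :=
  letI e : (((A : Type u) ⊗[R] B) ⧸ (toJA I).restrictScalars A) ≃ₗ[A] (((A : Type u) ⊗[R] B) ⧸ toJA I) :=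
    Submodule.Quotient.restrictScalarsEquiv (A : Type u) (toJA I)
  { toSubmodule := (toJA I).restrictScalars A
    finite_quotient := haveI := ((deg_iff I d).1 hI).1; Module.Finite.equiv e.symm
    projective_quotient := haveI := ((deg_iff I d).1 hI).2.1; Module.Projective.of_equiv e.symm
    rankAtStalk_eq := fun p => (congrFun (Module.rankAtStalk_eq_of_equiv e) p).trans (((deg_iff I d).1 hI).2.2 p) }

theorem stab_ptOf {A : CommAlgCat.{u} R} (I : (PicF.XT (fB R B) (sp A)).IdealSheafData)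
    (hI : Mor2.IsFinLocFreeOfDeg d (I.subschemeι ≫ PicF.XTproj (fB R B) (sp A))) : Stab (ptOf I hI).toSubmodule :=
  fun _ _ hx => (toJA I).mul_mem_left _ hx

theorem ptOf_injective {A : CommAlgCat.{u} R} {I I' : (PicF.XT (fB R B) (sp A)).IdealSheafData} {hI hI'}
    (h : ptOf (d := d) I hI = ptOf I' hI') : I = I' :=
  toJA_injective (Submodule.restrictScalars_injective A _ _
    (congrArg (fun N : Grassmannian A ((A : Type u) ⊗[R] B) d => N.toSubmodule) h))

theorem ptOf_ofJA {A : CommAlgCat.{u} R} (N : Grassmannian A ((A : Type u) ⊗[R] B) d) (h : Stab N.toSubmodule) (hI) :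
    ptOf (ofJA (idealOfStab N h)) hI = N :=
  Grassmannian.ext (Submodule.ext fun x => by
    show x ∈ toJA (ofJA (idealOfStab N h)) ↔ _
    rw [toJA_ofJA]
    rfl)

theorem ptOf_congr {A : CommAlgCat.{u} R} {I I' : (PicF.XT (fB R B) (sp A)).IdealSheafData} (hII : I = I')
    (hI : Mor2.IsFinLocFreeOfDeg d (I.subschemeι ≫ PicF.XTproj (fB R B) (sp A))) (hI') :
    ptOf I hI = ptOf I' hI' := by
  subst hII
  rfl

theorem ptOf_comap {A C : CommAlgCat.{u} R} (φ : A ⟶ C) (I : (PicF.XT (fB R B) (sp A)).IdealSheafData) (hI) (hI') :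
    ptOf (d := d) (I.comap (PicF.XTmap (fB R B) (spOver φ))) hI' = Grassmannian.map φ.hom (ptOf I hI) := by
  refine (Grassmannian.ext ?_).symm
  rw [map_eq_span]
  show Submodule.span (C : Type u) (bcι φ.hom '' (toJA I : Set ((A : Type u) ⊗[R] B))) =
    (toJA (I.comap (PicF.XTmap (fB R B) (spOver φ)))).restrictScalars C
  rw [toJA_comap]
  have hb : ∀ x, bcι φ.hom x = psi B φ x := fun x => by
    induction x with
    | zero => simp
    | tmul a b => rfl
    | add x y hx hy => rw [map_add, map_add, hx, hy]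
  refine le_antisymm (Submodule.span_le.2 ?_) fun z hz => ?_
  · rintro _ ⟨x, hx, rfl⟩
    rw [hb]
    exact Ideal.mem_map_of_mem (psi B φ).toRingHom hx
  · set S := Submodule.span (C : Type u) (bcι φ.hom '' (toJA I : Set ((A : Type u) ⊗[R] B))) with hS
    have hstab : Stab S := by
      intro b x hx
      induction hx using Submodule.span_induction with
      | mem y hy =>
        obtain ⟨x, hx, rfl⟩ := hy
        refine Submodule.subset_span ⟨((1 : A) ⊗ₜ[R] b) * x, (toJA I).mul_mem_left _ hx, ?_⟩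
        rw [hb, hb, map_mul]
        simp
      | zero => simp
      | add y z _ _ hy hz => rw [mul_add]; exact add_mem hy hz
      | smul t y _ hy => rw [mul_smul_comm]; exact Submodule.smul_mem _ t hy
    have hz' : z ∈ (toJA I).map (psi B φ).toRingHom := hz
    clear hz
    induction hz' using Submodule.span_induction with
    | mem y hy =>
      obtain ⟨x, hx, rfl⟩ := hy
      exact Submodule.subset_span ⟨x, hx, hb x⟩
    | zero => simp
    | add y z _ _ hy hz => exact add_mem hy hz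
    | smul t y _ hy => exact mul_mem_of_stab hstab t hy

theorem exists_pt_fam {X : Over (Spec (CommRingCat.of R))} (e : ∀ A, (sp A ⟶ X) ≃ (mFun R B d).obj A)
    (he : IsNat X (mFun R B d) e) {H : Over (Spec (CommRingCat.of R))} (j : H ⟶ X)
    (hstab : ∀ A (g : sp A ⟶ H), Stab (e A (g ≫ j)).toSubmodule) :
    ∃ J : IdealFam (fB R B) H, IsNatFam (fB R B) J ∧ ∀ A (g : sp A ⟶ H),
      ∃ hd, ptOf (d := d) (J A g) hd = e A (g ≫ j) := by
  refine ⟨fun A g => ofJA (idealOfStab (e A (g ≫ j)) (hstab A g)), fun A C φ g => ?_,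
    fun A g => ⟨stab_deg _ _, ptOf_ofJA _ _ _⟩⟩
  have hd' := isFinLocFreeOfDeg_pull (fB R B) (spOver φ) _ (stab_deg (e A (g ≫ j)) (hstab A g))
  rw [pull_eq_comap] at hd'
  refine ptOf_injective (hI := stab_deg _ _) (hI' := hd') ?_
  rw [ptOf_comap φ _ (stab_deg _ _), ptOf_ofJA, ptOf_ofJA, Category.assoc]
  exact he A C φ (g ≫ j)

theorem deg_comap {T T' : Over (Spec (CommRingCat.of R))} (g : T' ⟶ T) (I : (PicF.XT (fB R B) T).IdealSheafData)
    (hI : Mor2.IsFinLocFreeOfDeg d (I.subschemeι ≫ PicF.XTproj (fB R B) T)) :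
    Mor2.IsFinLocFreeOfDeg d ((I.comap (PicF.XTmap (fB R B) g)).subschemeι ≫ PicF.XTproj (fB R B) T') := by
  have := isFinLocFreeOfDeg_pull (fB R B) g I hI
  rwa [pull_eq_comap] at this

theorem existsUnique_classifying {X : Over (Spec (CommRingCat.of R))} (e : ∀ A, (sp A ⟶ X) ≃ (mFun R B d).obj A)
    (he : IsNat X (mFun R B d) e) {H : Over (Spec (CommRingCat.of R))} (j : H ⟶ X) [Mono j]
    (hfac : ∀ A (g : sp A ⟶ X), Stab (e A g).toSubmodule → ∃ l : sp A ⟶ H, l ≫ j = g)
    (I : (PicF.XT (fB R B) H).IdealSheafData)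
    (hI : ∀ A (g : sp A ⟶ H), ∃ hd, ptOf (d := d) (I.comap (PicF.XTmap (fB R B) g)) hd = e A (g ≫ j))
    (T : Over (Spec (CommRingCat.of R))) (Z' : HilbD.Obj (fB R B) d T) :
    ∃! c : T ⟶ H, HilbD.pull (fB R B) c I = Z'.1 := by
  have hfac' : ∀ A (g : sp A ⟶ T), ∃ l : sp A ⟶ H, l ≫ j = (e A).symm (ptOf _ (deg_comap g Z'.1 Z'.2)) := fun A g =>
    hfac A _ (by rw [Equiv.apply_symm_apply]; exact stab_ptOf _ _)
  choose α hα using hfac'
  have hαn : IsNatPts α := fun A C φ g => (cancel_mono j).1 (by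
    rw [hα, Category.assoc, hα]
    apply (e C).injective
    rw [he, Equiv.apply_symm_apply, Equiv.apply_symm_apply]
    have e1 : (Z'.1.comap (PicF.XTmap (fB R B) g)).comap (PicF.XTmap (fB R B) (spOver φ)) =
        Z'.1.comap (PicF.XTmap (fB R B) (spOver φ ≫ g)) := by
      rw [XTmap_comp, Scheme.IdealSheafData.comap_comp]
    exact (ptOf_congr e1 (deg_comap _ _ (deg_comap g Z'.1 Z'.2)) _).symm.trans (ptOf_comap φ _ _ _))
  obtain ⟨c, hc, hcu⟩ := existsUnique_hom α hαn
  have key : ∀ A (g : sp A ⟶ T) (c' : T ⟶ H), e A ((g ≫ c') ≫ j) = ptOf _ (deg_comap g Z'.1 Z'.2) ↔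
      (I.comap (PicF.XTmap (fB R B) c')).comap (PicF.XTmap (fB R B) g) = Z'.1.comap (PicF.XTmap (fB R B) g) := by
    intro A g c'
    rw [← Scheme.IdealSheafData.comap_comp, ← XTmap_comp]
    obtain ⟨hd, hd'⟩ := hI A (g ≫ c')
    rw [← hd']
    exact ⟨fun h => ptOf_injective h, fun h => ptOf_congr h _ _⟩
  refine ⟨c, ?_, fun c' hc' => hcu c' fun A g => (cancel_mono j).1 ((e A).injective ?_)⟩
  · show HilbD.pull (fB R B) c I = Z'.1
    rw [pull_eq_comap]
    exact ext_pts fun A g => (key A g c).1 (by rw [hc, hα, Equiv.apply_symm_apply])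
  · rw [hα, Equiv.apply_symm_apply]
    refine (key A g c').2 ?_
    rw [← pull_eq_comap (fB R B) c', show HilbD.pull (fB R B) c' I = Z'.1 from hc']

theorem representable_fB (d : ℕ) : HilbD.Representable (fB R B) d := by
  obtain ⟨X, e, he⟩ := exists_grassmannian R B d
  obtain ⟨Z, ι, hι, hZ⟩ := StableLocus.exists_closedImmersion X e fun A C φ g g' hg => by
    rw [show g' = spOver φ ≫ g from Over.OverMorphism.ext hg]
    exact he A C φ g
  let H : Over (Spec (CommRingCat.of R)) := Over.mk (ι ≫ X.hom)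
  let j : H ⟶ X := Over.homMk ι rfl
  haveI : Mono j := ⟨fun a b h => Over.OverMorphism.ext ((cancel_mono ι).1 (congrArg CommaMorphism.left h))⟩
  have hfac : ∀ A (g : sp A ⟶ X), Stab (e A g).toSubmodule → ∃ l : sp A ⟶ H, l ≫ j = g := fun A g hg => by
    obtain ⟨l, hl⟩ := (hZ A g).2 hg
    exact ⟨Over.homMk l (by show l ≫ ι ≫ X.hom = _; rw [← Category.assoc, hl, Over.w]), Over.OverMorphism.ext hl⟩
  obtain ⟨J, hJn, hJ⟩ := exists_pt_fam e he j fun A g => (hZ A (g ≫ j)).1 ⟨g.left, rfl⟩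
  obtain ⟨I, hI⟩ := exists_glue_pts hJn
  have hId : Mor2.IsFinLocFreeOfDeg d (I.subschemeι ≫ PicF.XTproj (fB R B) H) :=
    finLocFreeOfDeg_of_pts I fun A g => by rw [hI A g]; exact (hJ A g).choose
  refine ⟨H, ⟨I, hId⟩, fun T Z' => existsUnique_classifying e he j hfac I (fun A g => ?_) T Z'⟩
  rw [hI A g]
  exact hJ A g

end Stable

section Transport

variable {X Y S S' : Scheme.{u}}

/-- Representability is insensitive to isomorphisms of the base. -/
theorem representable_comp_iso (g : Y ⟶ S') (σ : S' ⟶ S) [IsIso σ] {d : ℕ} (h : HilbD.Representable g d) :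
    HilbD.Representable (g ≫ σ) d := by
  let Φ : Over S → Over S' := fun T => Over.mk (T.hom ≫ inv σ)
  let Φm : ∀ {T T' : Over S}, (T' ⟶ T) → (Φ T' ⟶ Φ T) := fun {T T'} m =>
    Over.homMk m.left (by show m.left ≫ T.hom ≫ inv σ = T'.hom ≫ inv σ; rw [← Category.assoc, Over.w])
  let q : ∀ T : Over S, PicF.XT (g ≫ σ) T ⟶ PicF.XT g (Φ T) := fun T =>
    pullback.lift (pullback.fst _ _) (pullback.snd _ _) (by
      show pullback.fst (g ≫ σ) T.hom ≫ g = pullback.snd (g ≫ σ) T.hom ≫ T.hom ≫ inv σ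
      rw [← pullback.condition_assoc, Category.assoc, IsIso.hom_inv_id, Category.comp_id])
  let r : ∀ T : Over S, PicF.XT g (Φ T) ⟶ PicF.XT (g ≫ σ) T := fun T =>
    pullback.lift (pullback.fst _ _) (pullback.snd _ _) (by
      show pullback.fst g (T.hom ≫ inv σ) ≫ g ≫ σ = pullback.snd g (T.hom ≫ inv σ) ≫ T.hom
      rw [pullback.condition_assoc, Category.assoc, IsIso.inv_hom_id, Category.comp_id])
  haveI : ∀ T, IsIso (q T) := fun T => ⟨r T, by apply pullback.hom_ext <;> simp [q, r],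
    by apply pullback.hom_ext <;> simp [q, r]⟩
  have hq : ∀ {T T' : Over S} (m : T' ⟶ T), PicF.XTmap (g ≫ σ) m ≫ q T = q T' ≫ PicF.XTmap g (Φm m) := fun {T T'} m => by
    apply pullback.hom_ext <;> simp [q, Φm, PicF.XTmap]
  have hdeg : ∀ (T : Over S) (I : (PicF.XT g (Φ T)).IdealSheafData), Mor2.IsFinLocFreeOfDeg d
      ((I.comap (q T)).subschemeι ≫ PicF.XTproj (g ≫ σ) T) ↔
        Mor2.IsFinLocFreeOfDeg d (I.subschemeι ≫ PicF.XTproj g (Φ T)) := fun T I => by
    rw [← deg_iso_comp ((I.comapIso (q T)).hom ≫ pullback.snd (q T) I.subschemeι) (I.subschemeι ≫ PicF.XTproj g (Φ T)) d,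
      ← Scheme.IdealSheafData.comapIso_hom_fst]
    refine iff_of_eq (congrArg _ ?_)
    simp only [Category.assoc, ← pullback.condition_assoc]
    simp [q]
  obtain ⟨H, ⟨Z, hZd⟩, hZ⟩ := h
  let H₁ : Over S := Over.mk (H.hom ≫ σ)
  let ε : H ≅ Φ H₁ := Over.isoMk (Iso.refl _) (by
    show 𝟙 _ ≫ (H.hom ≫ σ) ≫ inv σ = H.hom
    rw [Category.id_comp, Category.assoc, IsIso.hom_inv_id, Category.comp_id])
  let Z₁ : HilbD.Obj (g ≫ σ) d H₁ := ⟨(HilbD.pull g ε.inv Z).comap (q H₁),
    (hdeg H₁ _).2 (isFinLocFreeOfDeg_pull g ε.inv Z hZd)⟩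
  refine ⟨H₁, Z₁, fun T Z' => ?_⟩
  have hZ'd : Mor2.IsFinLocFreeOfDeg d ((Z'.1.comap (r T)).subschemeι ≫ PicF.XTproj g (Φ T)) := by
    rw [← hdeg, ← Scheme.IdealSheafData.comap_comp,
      show q T ≫ r T = 𝟙 _ by apply pullback.hom_ext <;> simp [q, r], Scheme.IdealSheafData.comap_id]
    exact Z'.2
  obtain ⟨c, hc, hcu⟩ := hZ (Φ T) ⟨_, hZ'd⟩
  have hiff : ∀ m : T ⟶ H₁, HilbD.pull (g ≫ σ) m Z₁.1 = Z'.1 ↔ HilbD.pull g (Φm m ≫ ε.inv) Z = Z'.1.comap (r T) := by
    intro m
    simp only [pull_eq_comap, Z₁, ← Scheme.IdealSheafData.comap_comp, XTmap_comp]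
    rw [← Category.assoc, hq, Category.assoc, Scheme.IdealSheafData.comap_comp]
    have h1 : r T ≫ q T = 𝟙 _ := by apply pullback.hom_ext <;> simp [q, r]
    have h2 : q T ≫ r T = 𝟙 _ := by apply pullback.hom_ext <;> simp [q, r]
    constructor
    · intro h
      rw [← h, ← Scheme.IdealSheafData.comap_comp, h1, Scheme.IdealSheafData.comap_id]
    · intro h
      rw [h, ← Scheme.IdealSheafData.comap_comp, h2, Scheme.IdealSheafData.comap_id]
  let m : T ⟶ H₁ := Over.homMk c.left (by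
    show c.left ≫ H.hom ≫ σ = T.hom
    rw [← Category.assoc, Over.w c]
    show (T.hom ≫ inv σ) ≫ σ = T.hom
    rw [Category.assoc, IsIso.inv_hom_id, Category.comp_id])
  refine ⟨m, (hiff m).2 ?_, fun m' hm' => ?_⟩
  · rw [show Φm m ≫ ε.inv = c from Over.OverMorphism.ext (Category.comp_id _)]
    exact hc
  · have := hcu _ ((hiff m').1 hm')
    exact Over.OverMorphism.ext ((Category.comp_id _).symm.trans (congrArg CommaMorphism.left this))

theorem representable_of_isAffine [IsAffine X] [IsAffine S] (f : X ⟶ S) (d : ℕ) : HilbD.Representable f d := by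
  letI : Algebra Γ(S, ⊤) Γ(X, ⊤) := f.appTop.hom.toAlgebra
  have e : X.isoSpec.hom ≫ (fB Γ(S, ⊤) Γ(X, ⊤) ≫ S.isoSpec.inv) = f := by
    rw [← Category.assoc, Iso.comp_inv_eq]
    exact Scheme.isoSpec_hom_naturality f
  obtain ⟨H, Z, hZ⟩ := representable_comp_iso _ S.isoSpec.inv (representable_fB (R := Γ(S, ⊤)) (B := Γ(X, ⊤)) d)
  obtain ⟨K, ZK, _, _, hK, -⟩ := HilbDLib.exists_universal X.isoSpec.hom _ d H Z hZ
  rw [← e]
  exact ⟨K, ZK, hK⟩

end Transport

end Groth.Agent.Grass60
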