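import Groth.Agent.Grass60.Fam
import Groth.Agent.HilbDLib.Fpqc

/-!
Families of closed subschemes of `X ×_S T` given on affine points of `T`, `S` affine.
-/

set_option autoImplicit false
set_option backward.isDefEq.respectTransparency false
set_option linter.style.haveILetI false

universe u

open CategoryTheory CategoryTheory.Limits AlgebraicGeometry

namespace Groth.Agent.Grass60

open Synt29.RepOpen HilbDLib

variable {R : Type u} [CommRing R] {X : Scheme.{u}} (f : X ⟶ Spec (CommRingCat.of R))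

/-- Ideal sheaves on the affine points of a scheme over the base. -/
abbrev IdealFam (T : Over (Spec (CommRingCat.of R))) :=
  ∀ A : CommAlgCat.{u} R, (sp A ⟶ T) → (PicF.XT f (sp A)).IdealSheafData

/-- Compatibility with base change. -/
def IsNatFam {T : Over (Spec (CommRingCat.of R))} (J : IdealFam f T) : Prop :=
  ∀ (A B : CommAlgCat.{u} R) (φ : A ⟶ B) (g : sp A ⟶ T),
    J B (spOver φ ≫ g) = (J A g).comap (PicF.XTmap f (spOver φ))

variable {f}

theorem XTmap_fst {T T' : Over (Spec (CommRingCat.of R))} (g : T' ⟶ T) :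
    PicF.XTmap f g ≫ pullback.fst f T.hom = pullback.fst f T'.hom :=
  (pullback.lift_fst _ _ _).trans (Category.comp_id _)

theorem XTmap_proj {T T' : Over (Spec (CommRingCat.of R))} (g : T' ⟶ T) :
    PicF.XTmap f g ≫ PicF.XTproj f T = PicF.XTproj f T' ≫ g.left :=
  (isPullback_XTmap f g).w

theorem comap_agree {T : Over (Spec (CommRingCat.of R))} {J : IdealFam f T} (hJ : IsNatFam f J) {W : Scheme.{u}}
    [IsAffine W] {A B : CommAlgCat.{u} R} (g : sp A ⟶ T) (h : sp B ⟶ T) (w : W ⟶ PicF.XT f (sp A))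
    (w' : W ⟶ PicF.XT f (sp B)) (hw : w ≫ PicF.XTmap f g = w' ≫ PicF.XTmap f h) :
    (J A g).comap w = (J B h).comap w' := by
  let Wv : Over (Spec (CommRingCat.of R)) := Over.mk (w ≫ PicF.XTproj f (sp A) ≫ (sp A).hom)
  haveI : IsAffine Wv.left := inferInstanceAs (IsAffine W)
  obtain ⟨C, ⟨i⟩⟩ := exists_sp_iso Wv
  have hproj : (w ≫ PicF.XTproj f (sp A)) ≫ g.left = (w' ≫ PicF.XTproj f (sp B)) ≫ h.left := by
    rw [Category.assoc, Category.assoc, ← XTmap_proj, ← XTmap_proj, ← Category.assoc, hw, Category.assoc]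
  have hfst : w ≫ pullback.fst f (sp A).hom = w' ≫ pullback.fst f (sp B).hom := by
    rw [← XTmap_fst g, ← XTmap_fst h, ← Category.assoc, hw, Category.assoc]
  let a₀ : Wv ⟶ sp A := Over.homMk (w ≫ PicF.XTproj f (sp A)) (Category.assoc _ _ _)
  let b₀ : Wv ⟶ sp B := Over.homMk (w' ≫ PicF.XTproj f (sp B)) (by
    show (w' ≫ PicF.XTproj f (sp B)) ≫ (sp B).hom = w ≫ PicF.XTproj f (sp A) ≫ (sp A).hom
    rw [← Over.w h, ← Category.assoc, ← hproj, Category.assoc, Over.w g, Category.assoc])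
  obtain ⟨α, hα⟩ := exists_spMap (i.hom ≫ a₀)
  obtain ⟨β, hβ⟩ := exists_spMap (i.hom ≫ b₀)
  have hgh : spOver α ≫ g = spOver β ≫ h := by
    rw [← hα, ← hβ, Category.assoc, Category.assoc]
    exact congrArg (i.hom ≫ ·) (Over.OverMorphism.ext hproj)
  let σ : W ⟶ PicF.XT f (sp C) := pullback.lift (w ≫ pullback.fst f (sp A).hom) i.inv.left (by
    rw [Category.assoc, pullback.condition]
    exact (Over.w i.inv).symm)
  have hσa : σ ≫ PicF.XTmap f (spOver α) = w := by
    refine pullback.hom_ext ?_ ?_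
    · rw [Category.assoc, XTmap_fst]
      exact pullback.lift_fst _ _ _
    · show (σ ≫ PicF.XTmap f (spOver α)) ≫ PicF.XTproj f (sp A) = w ≫ PicF.XTproj f (sp A)
      rw [Category.assoc, XTmap_proj, ← hα, ← Category.assoc]
      show (σ ≫ pullback.snd f (sp C).hom) ≫ i.hom.left ≫ a₀.left = _
      rw [pullback.lift_snd, ← Category.assoc, ← Over.comp_left, i.inv_hom_id]
      exact Category.id_comp _
  have hσb : σ ≫ PicF.XTmap f (spOver β) = w' := by
    refine pullback.hom_ext ?_ ?_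
    · rw [Category.assoc, XTmap_fst]
      exact (pullback.lift_fst _ _ _).trans hfst
    · show (σ ≫ PicF.XTmap f (spOver β)) ≫ PicF.XTproj f (sp B) = w' ≫ PicF.XTproj f (sp B)
      rw [Category.assoc, XTmap_proj, ← hβ, ← Category.assoc]
      show (σ ≫ pullback.snd f (sp C).hom) ≫ i.hom.left ≫ b₀.left = _
      rw [pullback.lift_snd, ← Category.assoc, ← Over.comp_left, i.inv_hom_id]
      exact Category.id_comp _
  have e := (hJ A C α g).symm.trans ((congrArg (J C) hgh).trans (hJ B C β h))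
  rw [← hσa, ← hσb, Scheme.IdealSheafData.comap_comp, Scheme.IdealSheafData.comap_comp, e]

/-- Finitely or infinitely many affine points cover. -/
theorem exists_affine_pts (T : Over (Spec (CommRingCat.of R))) :
    ∃ (ι : Type u) (A : ι → CommAlgCat.{u} R) (g : ∀ i, sp (A i) ⟶ T),
      (∀ i, IsOpenImmersion (g i).left) ∧ ∀ t, ∃ i y, (g i).left y = t := by
  let 𝒰 := T.left.affineCover
  have haff : ∀ i, IsAffine (member 𝒰 i).left := fun i => inferInstanceAs (IsAffine (T.left.affineCover.X i))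
  choose A hA using fun i => haveI := haff i; exists_sp_iso (member 𝒰 i)
  refine ⟨_, A, fun i => (hA i).some.hom ≫ incl 𝒰 i, fun i => ?_, fun t => ?_⟩
  · haveI : IsIso (hA i).some.hom.left := inferInstanceAs (IsIso ((Over.forget _).map (hA i).some.hom))
    haveI : IsOpenImmersion (𝒰.f i) := 𝒰.map_prop i
    exact inferInstanceAs (IsOpenImmersion ((hA i).some.hom.left ≫ 𝒰.f i))
  · obtain ⟨i, y, hy⟩ := 𝒰.exists_eq t
    refine ⟨i, (hA i).some.inv.left y, ?_⟩
    show 𝒰.f i ((hA i).some.hom.left ((hA i).some.inv.left y)) = t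
    rw [← Scheme.Hom.comp_apply (hA i).some.inv.left, ← Over.comp_left, Iso.inv_hom_id]
    exact hy

theorem isOpenImmersion_XTmap {T T' : Over (Spec (CommRingCat.of R))} (g : T' ⟶ T) [IsOpenImmersion g.left] :
    IsOpenImmersion (PicF.XTmap f g) :=
  MorphismProperty.of_isPullback (P := @IsOpenImmersion) (isPullback_XTmap f g).flip inferInstance

/-- The induced cover of `X_T`. -/
theorem exists_xtCover (T : Over (Spec (CommRingCat.of R))) :
    ∃ (ι : Type u) (A : ι → CommAlgCat.{u} R) (g : ∀ i, sp (A i) ⟶ T),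
      (∀ i, IsOpenImmersion (g i).left) ∧ (∀ t, ∃ i y, (g i).left y = t) ∧
      ∀ x : PicF.XT f T, ∃ i y, PicF.XTmap f (g i) y = x := by
  obtain ⟨ι, A, g, hg, hs⟩ := exists_affine_pts T
  refine ⟨ι, A, g, hg, hs, fun x => ?_⟩
  obtain ⟨i, y, hy⟩ := hs (PicF.XTproj f T x)
  obtain ⟨z, hz, -⟩ := Scheme.Pullback.exists_preimage_pullback (f := PicF.XTproj f T) (g := (g i).left) x y hy.symm
  refine ⟨i, (isPullback_XTmap f (g i)).isoPullback.inv z, ?_⟩
  rw [← Scheme.Hom.comp_apply, IsPullback.isoPullback_inv_fst]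
  exact hz

/-- Ideal sheaves agreeing at all affine points are equal. -/
theorem ext_pts {T : Over (Spec (CommRingCat.of R))} {I I' : (PicF.XT f T).IdealSheafData}
    (h : ∀ (A : CommAlgCat.{u} R) (g : sp A ⟶ T), I.comap (PicF.XTmap f g) = I'.comap (PicF.XTmap f g)) :
    I = I' := by
  obtain ⟨ι, A, g, hg, -, hs⟩ := exists_xtCover (f := f) T
  haveI := fun i => hg i
  haveI := fun i => isOpenImmersion_XTmap (f := f) (g i)
  let 𝒰 : (PicF.XT f T).OpenCover := Scheme.Cover.mkOfCovers ι (fun i => PicF.XT f (sp (A i)))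
    (fun i => PicF.XTmap f (g i)) hs (fun i => inferInstance)
  exact DescLib.eq_of_cover 𝒰 fun i => h _ (g i)

/-- A compatible family of ideal sheaves on affine points comes from a unique ideal sheaf. -/
theorem exists_glue_pts {T : Over (Spec (CommRingCat.of R))} {J : IdealFam f T} (hJ : IsNatFam f J) :
    ∃ I : (PicF.XT f T).IdealSheafData, ∀ (A : CommAlgCat.{u} R) (g : sp A ⟶ T), I.comap (PicF.XTmap f g) = J A g := by
  obtain ⟨ι, A, g, hg, -, hs⟩ := exists_xtCover (f := f) T
  haveI := fun i => hg i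
  haveI := fun i => isOpenImmersion_XTmap (f := f) (g i)
  let 𝒰 : (PicF.XT f T).OpenCover := Scheme.Cover.mkOfCovers ι (fun i => PicF.XT f (sp (A i)))
    (fun i => PicF.XTmap f (g i)) hs (fun i => inferInstance)
  have hmem : Presieve.ofArrows 𝒰.X 𝒰.f ∈ Scheme.fpqcPrecoverage (PicF.XT f T) :=
    Scheme.zariskiPrecoverage_le_fpqcPrecoverage _ 𝒰.mem₀
  obtain ⟨I, hI, -⟩ := DescLib.existsUnique_descend_fpqc 𝒰.f hmem (fun i => J (A i) (g i)) fun i j => by
    refine DescLib.eq_of_cover (pullback (𝒰.f i) (𝒰.f j)).affineCover fun k => ?_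
    rw [← Scheme.IdealSheafData.comap_comp, ← Scheme.IdealSheafData.comap_comp]
    refine comap_agree hJ (g i) (g j) _ _ ?_
    rw [Category.assoc, Category.assoc]
    exact congrArg _ pullback.condition
  refine ⟨I, fun B h => DescLib.eq_of_cover (𝒰.pullback₁ (PicF.XTmap f h)) fun i => ?_⟩
  refine DescLib.eq_of_cover ((𝒰.pullback₁ (PicF.XTmap f h)).X i).affineCover fun k => ?_
  rw [← Scheme.IdealSheafData.comap_comp, ← Scheme.IdealSheafData.comap_comp, ← Scheme.IdealSheafData.comap_comp]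
  let q := ((𝒰.pullback₁ (PicF.XTmap f h)).X i).affineCover.f k ≫ pullback.snd (PicF.XTmap f h) (𝒰.f i)
  let p := ((𝒰.pullback₁ (PicF.XTmap f h)).X i).affineCover.f k ≫ pullback.fst (PicF.XTmap f h) (𝒰.f i)
  show I.comap (p ≫ PicF.XTmap f h) = (J B h).comap p
  have hpq : p ≫ PicF.XTmap f h = q ≫ 𝒰.f i := by
    simp only [p, q, Category.assoc, pullback.condition]
  rw [hpq, Scheme.IdealSheafData.comap_comp, hI i]
  exact (comap_agree hJ h (g i) p q hpq).symm

/-- The degree condition is tested on affine points. -/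
theorem finLocFreeOfDeg_of_pts {d : ℕ} {T : Over (Spec (CommRingCat.of R))} (I : (PicF.XT f T).IdealSheafData)
    (h : ∀ (A : CommAlgCat.{u} R) (g : sp A ⟶ T),
      Mor2.IsFinLocFreeOfDeg d ((I.comap (PicF.XTmap f g)).subschemeι ≫ PicF.XTproj f (sp A))) :
    Mor2.IsFinLocFreeOfDeg d (I.subschemeι ≫ PicF.XTproj f T) := by
  obtain ⟨ι, A, g, hg, hgs⟩ := exists_affine_pts T
  haveI := fun i => hg i
  let 𝒰 : T.left.OpenCover := Scheme.Cover.mkOfCovers ι (fun i => (sp (A i)).left) (fun i => (g i).left) hgs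
    (fun i => hg i)
  let π := I.subschemeι ≫ PicF.XTproj f T
  have H : ∀ i, IsPullback (pullback.snd (PicF.XTmap f (g i)) I.subschemeι)
      (pullback.fst (PicF.XTmap f (g i)) I.subschemeι ≫ PicF.XTproj f (sp (A i))) π (g i).left := fun i =>
    (IsPullback.of_hasPullback (PicF.XTmap f (g i)) I.subschemeι).flip.paste_vert (isPullback_XTmap f (g i))
  have hd : ∀ i, Mor2.IsFinLocFreeOfDeg d
      (pullback.fst (PicF.XTmap f (g i)) I.subschemeι ≫ PicF.XTproj f (sp (A i))) := fun i => by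
    have h1 := h (A i) (g i)
    rwa [show I.comap (PicF.XTmap f (g i)) = (pullback.fst (PicF.XTmap f (g i)) I.subschemeι).ker from rfl,
      finLocFreeOfDeg_ker] at h1
  have hiso : ∀ i, pullback.snd π (𝒰.f i) =
      (H i).isoPullback.inv ≫ pullback.fst (PicF.XTmap f (g i)) I.subschemeι ≫ PicF.XTproj f (sp (A i)) :=
    fun i => (IsPullback.isoPullback_inv_snd (H i)).symm
  haveI h1 : IsFinite π := IsZariskiLocalAtTarget.of_openCover 𝒰 fun i => by
    show IsFinite (pullback.snd π (𝒰.f i))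
    haveI := (hd i).1.1
    rw [hiso]; infer_instance
  haveI h2 : Flat π := IsZariskiLocalAtTarget.of_openCover 𝒰 fun i => by
    show Flat (pullback.snd π (𝒰.f i))
    haveI := (hd i).1.2.1
    rw [hiso]; infer_instance
  haveI h3 : LocallyOfFinitePresentation π := IsZariskiLocalAtTarget.of_openCover 𝒰 fun i => by
    show LocallyOfFinitePresentation (pullback.snd π (𝒰.f i))
    haveI := (hd i).1.2.2
    rw [hiso]; infer_instance
  refine ⟨⟨h1, h2, h3⟩, fun y => ?_⟩
  obtain ⟨i, y', rfl⟩ := hgs y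
  have e := (hd i).2 y'
  rw [← (H i).isoPullback_hom_snd, Scheme.Hom.finrank_comp_left_of_isIso, Scheme.Hom.finrank_pullback_snd] at e
  exact e

end Groth.Agent.Grass60
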