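import Groth.Agent.Grass60.HilbAffine
import Groth.Agent.Grass60.FiniteSet
import Groth.Agent.AlgSpDec.FinDeg

/-!
The Hilbert functor of points of a separated scheme in which finitely many points of a fibre lie in
an affine open is representable.
-/

set_option autoImplicit false
set_option backward.isDefEq.respectTransparency false
set_option linter.style.haveILetI false

universe u

open CategoryTheory CategoryTheory.Limits AlgebraicGeometry Opposite

namespace Groth.Agent.Grass60.HilbGen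

open HilbDLib

variable {X S : Scheme.{u}} (f : X ⟶ S) (d : ℕ)

/-- A value of the Hilbert functor on a scheme: a structure map and a closed subscheme. -/
@[ext]
structure HPt (T : Scheme.{u}) : Type u where
  /-- the structure map -/
  str : T ⟶ S
  /-- the closed subscheme -/
  obj : HilbD.Obj f d (Over.mk str)

variable {f d} {T T' T'' : Scheme.{u}}

/-- The projection of the closed subscheme. -/
noncomputable abbrev HPt.π (x : HPt f d T) : x.obj.1.subscheme ⟶ T :=
  x.obj.1.subschemeι ≫ PicF.XTproj f (Over.mk x.str)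

/-- Pullback of a value. -/
noncomputable def HPt.pull (h : T' ⟶ T) (x : HPt f d T) : HPt f d T' :=
  ⟨h ≫ x.str, HilbD.pull f (Over.homMk h rfl : Over.mk (h ≫ x.str) ⟶ Over.mk x.str) x.obj.1,
    isFinLocFreeOfDeg_pull f _ _ x.obj.2⟩

theorem HPt.pull_eq_iff (h : T' ⟶ T) (x : HPt f d T) (y : HPt f d T') :
    x.pull h = y ↔ ∃ m : Over.mk y.str ⟶ Over.mk x.str, m.left = h ∧
      x.obj.1.comap (PicF.XTmap f m) = y.obj.1 := by
  constructor
  · rintro rfl
    exact ⟨Over.homMk h rfl, rfl, (pull_eq_comap f _ _).symm⟩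
  · rintro ⟨m, hml, hm⟩
    obtain ⟨q, J, hJ⟩ := y
    obtain rfl : q = h ≫ x.str := by rw [← hml]; exact (Over.w m).symm
    obtain rfl : m = Over.homMk h rfl := Over.OverMorphism.ext hml
    unfold HPt.pull
    congr 1
    exact Subtype.ext ((pull_eq_comap f _ _).trans hm)

theorem HPt.pull_id (x : HPt f d T) : x.pull (𝟙 T) = x := by
  refine (HPt.pull_eq_iff _ _ _).2 ⟨𝟙 _, rfl, ?_⟩
  rw [← pull_eq_comap]
  exact HilbDLib.pull_id f _

theorem HPt.pull_pull (h : T' ⟶ T) (h' : T'' ⟶ T') (x : HPt f d T) : (x.pull h).pull h' = x.pull (h' ≫ h) := by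
  symm
  refine (HPt.pull_eq_iff _ _ _).2
    ⟨(Over.homMk h' rfl : Over.mk (h' ≫ h ≫ x.str) ⟶ Over.mk (h ≫ x.str)) ≫ Over.homMk h rfl, rfl, ?_⟩
  rw [XTmap_comp, Scheme.IdealSheafData.comap_comp]
  show _ = HilbD.pull f _ (HilbD.pull f _ x.obj.1)
  rw [pull_eq_comap, pull_eq_comap]

variable (f d)

/-- The presheaf. -/
noncomputable def presheaf : Scheme.{u}ᵒᵖ ⥤ Type u where
  obj T := HPt f d T.unop
  map h := ↾fun x => x.pull h.unop
  map_id T := ConcreteCategory.hom_ext _ _ fun x => x.pull_id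
  map_comp h h' := ConcreteCategory.hom_ext _ _ fun x => (x.pull_pull _ _).symm

variable {f d}

/-- The degree condition is local on the parameter scheme. -/
theorem deg_of_cover {T : Over S} (I : (PicF.XT f T).IdealSheafData) (𝒰 : T.left.OpenCover)
    (W : 𝒰.I₀ → Over S) (g : ∀ i, W i ⟶ T) (e : ∀ i, (W i).left ≅ 𝒰.X i) (he : ∀ i, (e i).hom ≫ 𝒰.f i = (g i).left)
    (h : ∀ i, Mor2.IsFinLocFreeOfDeg d ((I.comap (PicF.XTmap f (g i))).subschemeι ≫ PicF.XTproj f (W i))) :
    Mor2.IsFinLocFreeOfDeg d (I.subschemeι ≫ PicF.XTproj f T) := by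
  let π := I.subschemeι ≫ PicF.XTproj f T
  have H : ∀ i, IsPullback (pullback.snd (PicF.XTmap f (g i)) I.subschemeι)
      (pullback.fst (PicF.XTmap f (g i)) I.subschemeι ≫ PicF.XTproj f (W i) ≫ (e i).hom) π (𝒰.f i) := fun i => by
    have h1 := (IsPullback.of_hasPullback (PicF.XTmap f (g i)) I.subschemeι).flip.paste_vert (isPullback_XTmap f (g i))
    refine h1.of_iso (Iso.refl _) (Iso.refl _) (e i) (Iso.refl _) ?_ ?_ ?_ ?_ <;> simp [π, he]
  have hd : ∀ i, Mor2.IsFinLocFreeOfDeg d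
      (pullback.fst (PicF.XTmap f (g i)) I.subschemeι ≫ PicF.XTproj f (W i)) := fun i => by
    have h1 := h i
    rwa [show I.comap (PicF.XTmap f (g i)) = (pullback.fst (PicF.XTmap f (g i)) I.subschemeι).ker from rfl,
      finLocFreeOfDeg_ker] at h1
  have hiso : ∀ i, pullback.snd π (𝒰.f i) =
      (H i).isoPullback.inv ≫ (pullback.fst (PicF.XTmap f (g i)) I.subschemeι ≫ PicF.XTproj f (W i)) ≫ (e i).hom :=
    fun i => by rw [Category.assoc]; exact (IsPullback.isoPullback_inv_snd (H i)).symm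
  haveI h1 : IsFinite π := IsZariskiLocalAtTarget.of_openCover 𝒰 fun i => by
    show IsFinite (pullback.snd π (𝒰.f i))
    haveI := (hd i).1.1
    rw [hiso]; infer_instance
  haveI h2 : Flat π := IsZariskiLocalAtTarget.of_openCover 𝒰 fun i => by
    show Flat (pullback.snd π (𝒰.f i))
    haveI := (hd i).1.2.1
    rw [hiso]; infer_instance
  haveI h3 : LocallyOfFinitePresentation π := IsZariskiLocalAtTarget.of_openCover 𝒰 fun i => by
    show LocallyOfFinitePresentation (pullback.snd π (𝒰.f i))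
    haveI := (hd i).1.2.2
    rw [hiso]; infer_instance
  refine ⟨⟨h1, h2, h3⟩, fun y => ?_⟩
  obtain ⟨i, y', rfl⟩ := 𝒰.exists_eq y
  have hh : g i = g i := rfl
  have H' := (IsPullback.of_hasPullback (PicF.XTmap f (g i)) I.subschemeι).flip.paste_vert (isPullback_XTmap f (g i))
  have e' := (hd i).2 ((e i).inv y')
  rw [← H'.isoPullback_hom_snd, Scheme.Hom.finrank_comp_left_of_isIso, Scheme.Hom.finrank_pullback_snd] at e'
  rw [← he i, ← Scheme.Hom.comp_apply, Iso.inv_hom_id_assoc] at e'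
  exact e'

theorem isOpenImmersion_XTmap {T T' : Over S} (g : T' ⟶ T) [IsOpenImmersion g.left] :
    IsOpenImmersion (PicF.XTmap f g) :=
  MorphismProperty.of_isPullback (P := @IsOpenImmersion) (isPullback_XTmap f g).flip inferInstance

variable (f d) in
theorem isSheaf_presheaf : Presieve.IsSheaf Scheme.zariskiTopology (presheaf f d) := by
  rw [Precoverage.isSheaf_toGrothendieck_iff_of_isStableUnderBaseChange_of_small.{u}]
  intro Y E x hx
  let 𝓤 : Y.OpenCover := E
  let xi : ∀ i, HPt f d (𝓤.X i) := fun i => x (𝓤.f i) (.mk i)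
  have hcomp : ∀ (i j : 𝓤.I₀) {Z : Scheme.{u}} (a : Z ⟶ 𝓤.X i) (b : Z ⟶ 𝓤.X j),
      a ≫ 𝓤.f i = b ≫ 𝓤.f j → (xi i).pull a = (xi j).pull b :=
    fun i j Z a b h => hx a b (.mk i) (.mk j) h
  obtain ⟨p, hp⟩ : ∃ p : Y ⟶ S, ∀ i, 𝓤.f i ≫ p = (xi i).str :=
    ⟨Scheme.Cover.glueMorphisms 𝓤 (fun i => (xi i).str) fun i j =>
      congrArg HPt.str (hcomp i j _ _ pullback.condition), fun i => Scheme.Cover.ι_glueMorphisms 𝓤 _ _ i⟩
  let T : Over S := Over.mk p
  let m : ∀ i, Over.mk (xi i).str ⟶ T := fun i => Over.homMk (𝓤.f i) (hp i)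
  haveI hoi : ∀ i, IsOpenImmersion (m i).left := fun i => 𝓤.map_prop i
  haveI : ∀ i, IsOpenImmersion (PicF.XTmap f (m i)) := fun i => isOpenImmersion_XTmap (m i)
  let 𝒳 : (PicF.XT f T).OpenCover := Scheme.Cover.mkOfCovers 𝓤.I₀ (fun i => PicF.XT f (Over.mk (xi i).str))
    (fun i => PicF.XTmap f (m i)) (fun z => by
      obtain ⟨i, y, hy⟩ := 𝓤.exists_eq (PicF.XTproj f T z)
      obtain ⟨w, hw, -⟩ := Scheme.Pullback.exists_preimage_pullback (f := PicF.XTproj f T) (g := (m i).left) z y hy.symm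
      refine ⟨i, (isPullback_XTmap f (m i)).isoPullback.inv w, ?_⟩
      rw [← Scheme.Hom.comp_apply, IsPullback.isoPullback_inv_fst]
      exact hw) (fun i => inferInstance)
  have hmem : Presieve.ofArrows 𝒳.X 𝒳.f ∈ Scheme.fpqcPrecoverage (PicF.XT f T) :=
    Scheme.zariskiPrecoverage_le_fpqcPrecoverage _ 𝒳.mem₀
  have hov : ∀ i j : 𝓤.I₀, (xi i).obj.1.comap (pullback.fst (𝒳.f i) (𝒳.f j)) =
      (xi j).obj.1.comap (pullback.snd (𝒳.f i) (𝒳.f j)) := by
    intro i j
    let P := pullback (𝒳.f i) (𝒳.f j)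
    let a : P ⟶ 𝓤.X i := pullback.fst (𝒳.f i) (𝒳.f j) ≫ PicF.XTproj f (Over.mk (xi i).str)
    let b : P ⟶ 𝓤.X j := pullback.snd (𝒳.f i) (𝒳.f j) ≫ PicF.XTproj f (Over.mk (xi j).str)
    have hab : a ≫ 𝓤.f i = b ≫ 𝓤.f j := by
      show (_ ≫ _) ≫ (m i).left = (_ ≫ _) ≫ (m j).left
      rw [Category.assoc, Category.assoc, ← (isPullback_XTmap f (m i)).w, ← (isPullback_XTmap f (m j)).w]
      exact pullback.condition_assoc _
    obtain ⟨n, hn, hnI⟩ := (HPt.pull_eq_iff _ _ _).1 (hcomp i j a b hab).symm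
    let σ : P ⟶ PicF.XT f (Over.mk (a ≫ (xi i).str)) :=
      pullback.lift (pullback.fst (𝒳.f i) (𝒳.f j) ≫ pullback.fst f (xi i).str) (𝟙 P) (by
        show _ = 𝟙 P ≫ a ≫ (xi i).str
        rw [Category.id_comp, Category.assoc, pullback.condition, Category.assoc]
        rfl)
    let n₀ : Over.mk (a ≫ (xi i).str) ⟶ Over.mk (xi i).str := Over.homMk a rfl
    have h1 : σ ≫ PicF.XTmap f n₀ = pullback.fst (𝒳.f i) (𝒳.f j) := by
      apply pullback.hom_ext
      · simp [σ, n₀, PicF.XTmap]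
      · simp [σ, n₀, PicF.XTmap, a]
        all_goals exact Category.id_comp _
    have hfst : pullback.fst (𝒳.f i) (𝒳.f j) ≫ pullback.fst f (xi i).str =
        pullback.snd (𝒳.f i) (𝒳.f j) ≫ pullback.fst f (xi j).str := by
      have := pullback.condition (f := 𝒳.f i) (g := 𝒳.f j) =≫ pullback.fst f T.hom
      simpa [𝒳, PicF.XTmap] using this
    have h2 : σ ≫ PicF.XTmap f n = pullback.snd (𝒳.f i) (𝒳.f j) := by
      apply pullback.hom_ext
      · simp only [σ, PicF.XTmap, pullback.map, Category.assoc, pullback.lift_fst, Category.comp_id]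
        exact hfst
      · simp only [σ, PicF.XTmap, pullback.map, Category.assoc, pullback.lift_snd, hn]
        exact (pullback.lift_snd_assoc _ _ _ _).trans (Category.id_comp _)
    rw [← h1, ← h2, Scheme.IdealSheafData.comap_comp, Scheme.IdealSheafData.comap_comp, ← pull_eq_comap f n₀]
    exact congrArg (fun K : Scheme.IdealSheafData _ => K.comap σ) hnI.symm
  obtain ⟨I, hI, hIu⟩ := DescLib.existsUnique_descend_fpqc 𝒳.f hmem (fun i => (xi i).obj.1) hov
  have hId : Mor2.IsFinLocFreeOfDeg d (I.subschemeι ≫ PicF.XTproj f T) :=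
    deg_of_cover I 𝓤 (fun i => Over.mk (xi i).str) m (fun i => Iso.refl _) (fun i => Category.id_comp _)
      fun i => by rw [show I.comap (PicF.XTmap f (m i)) = (xi i).obj.1 from hI i]; exact (xi i).obj.2
  refine ⟨⟨p, I, hId⟩, ?_, fun z hz => ?_⟩
  · rintro Z e ⟨i⟩
    exact (HPt.pull_eq_iff _ _ _).2 ⟨m i, rfl, hI i⟩
  · have hzs : z.str = p := Scheme.Cover.hom_ext 𝓤 _ _ fun i => by
      rw [hp]
      exact congrArg HPt.str (hz (𝓤.f i) (.mk i))
    obtain ⟨q, J, hJ⟩ := z
    obtain rfl : q = p := hzs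
    congr 1
    refine Subtype.ext (hIu J fun i => ?_)
    obtain ⟨n, hn, hnJ⟩ := (HPt.pull_eq_iff _ _ _).1 (hz (𝓤.f i) (.mk i))
    rw [show n = m i from Over.OverMorphism.ext hn] at hnJ
    exact hnJ

theorem XTmap_fst_apply {q : T' ⟶ S} {p : T ⟶ S} (m : Over.mk q ⟶ Over.mk p) (v : PicF.XT f (Over.mk q)) :
    pullback.fst f p (PicF.XTmap f m v) = pullback.fst f q v := by
  show (PicF.XTmap f m ≫ pullback.fst f p) v = _
  rw [show PicF.XTmap f m ≫ pullback.fst f p = pullback.fst f q from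
    (pullback.lift_fst _ _ _).trans (Category.comp_id _)]
  rfl

section Chart

variable (V : S.Opens) (U : X.Opens) (hUV : U ≤ f ⁻¹ᵁ V)

/-- The restricted morphism. -/
noncomputable abbrev gmap : U.toScheme ⟶ V.toScheme := f.resLE V U hUV

/-- The embedding of `U ×_V T` into `X ×_S T`. -/
noncomputable def jmap (T : Over V.toScheme) :
    PicF.XT (gmap V U hUV) T ⟶ PicF.XT f (Over.mk (T.hom ≫ V.ι)) :=
  pullback.map (gmap V U hUV) T.hom f (T.hom ≫ V.ι) U.ι (𝟙 _) V.ι (by simp) (by simp)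

theorem jmap_fst (T : Over V.toScheme) :
    jmap V U hUV T ≫ pullback.fst f (T.hom ≫ V.ι) = pullback.fst (gmap V U hUV) T.hom ≫ U.ι :=
  pullback.lift_fst _ _ _

theorem jmap_proj (T : Over V.toScheme) :
    jmap V U hUV T ≫ PicF.XTproj f (Over.mk (T.hom ≫ V.ι)) = PicF.XTproj (gmap V U hUV) T :=
  (pullback.lift_snd _ _ _).trans (Category.comp_id _)

theorem isPullback_jmap (T : Over V.toScheme) :
    IsPullback (jmap V U hUV T) (pullback.fst (gmap V U hUV) T.hom) (pullback.fst f (T.hom ≫ V.ι)) U.ι := by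
  refine (IsPullback.of_bot ?_ (jmap_fst V U hUV T).symm (IsPullback.of_hasPullback f (T.hom ≫ V.ι))).flip
  rw [show jmap V U hUV T ≫ pullback.snd f (T.hom ≫ V.ι) = pullback.snd (gmap V U hUV) T.hom from jmap_proj V U hUV T,
    ← Scheme.Hom.resLE_comp_ι f hUV]
  exact ⟨⟨by rw [← Category.assoc, ← Category.assoc, pullback.condition]⟩,
    ⟨PullbackCone.isLimitOfCompMono (gmap V U hUV) T.hom V.ι _ (limit.isLimit _)⟩⟩

instance isOpenImmersion_jmap (T : Over V.toScheme) : IsOpenImmersion (jmap V U hUV T) :=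
  MorphismProperty.of_isPullback (P := @IsOpenImmersion) (isPullback_jmap V U hUV T).flip inferInstance

theorem mem_range_jmap (T : Over V.toScheme) (w : PicF.XT f (Over.mk (T.hom ≫ V.ι))) :
    w ∈ Set.range (jmap V U hUV T) ↔ pullback.fst f (T.hom ≫ V.ι) w ∈ U := by
  constructor
  · rintro ⟨v, rfl⟩
    show (jmap V U hUV T ≫ pullback.fst f (T.hom ≫ V.ι)) v ∈ U
    rw [jmap_fst, Scheme.Hom.comp_apply]
    exact (pullback.fst (gmap V U hUV) T.hom v).2
  · intro h
    obtain ⟨v, hv, -⟩ := Scheme.Pullback.exists_preimage_pullback (f := pullback.fst f (T.hom ≫ V.ι)) (g := U.ι)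
      w ⟨_, h⟩ rfl
    refine ⟨(isPullback_jmap V U hUV T).isoPullback.inv v, ?_⟩
    rw [← Scheme.Hom.comp_apply, IsPullback.isoPullback_inv_fst]
    exact hv

theorem XTmap_jmap {T T' : Over V.toScheme} (m : T' ⟶ T) (m' : Over.mk (T'.hom ≫ V.ι) ⟶ Over.mk (T.hom ≫ V.ι))
    (hm : m'.left = m.left) :
    PicF.XTmap (gmap V U hUV) m ≫ jmap V U hUV T = jmap V U hUV T' ≫ PicF.XTmap f m' := by
  apply pullback.hom_ext <;> simp [jmap, PicF.XTmap, hm]

/-- The closed subscheme lies over `U`. -/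
def Supp {T : Over S} (J : (PicF.XT f T).IdealSheafData) : Prop :=
  ∀ z : J.subscheme, pullback.fst f T.hom (J.subschemeι z) ∈ U

variable [IsSeparated f]

theorem exists_push (T : Over V.toScheme) (I : HilbD.Obj (gmap V U hUV) d T) :
    ∃ J : HilbD.Obj f d (Over.mk (T.hom ≫ V.ι)), J.1.comap (jmap V U hUV T) = I.1 ∧ Supp U J.1 := by
  let j := jmap V U hUV T
  let s := I.1.subschemeι ≫ j
  have hs : s ≫ PicF.XTproj f (Over.mk (T.hom ≫ V.ι)) = I.1.subschemeι ≫ PicF.XTproj (gmap V U hUV) T := by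
    rw [Category.assoc, jmap_proj]
  haveI : IsFinite (s ≫ PicF.XTproj f (Over.mk (T.hom ≫ V.ι))) := by rw [hs]; exact I.2.1.1
  haveI : IsSeparated (PicF.XTproj f (Over.mk (T.hom ≫ V.ι))) :=
    MorphismProperty.pullback_snd (P := @IsSeparated) _ _ inferInstance
  haveI : IsFinite s := IsFinite.of_comp s (PicF.XTproj f (Over.mk (T.hom ≫ V.ι)))
  haveI : IsClosedImmersion s := (IsClosedImmersion.iff_isFinite_and_mono s).2 ⟨inferInstance, inferInstance⟩
  have hdeg : Mor2.IsFinLocFreeOfDeg d (s.ker.subschemeι ≫ PicF.XTproj f (Over.mk (T.hom ≫ V.ι))) := by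
    rw [finLocFreeOfDeg_ker, hs]; exact I.2
  refine ⟨⟨s.ker, hdeg⟩, ?_, fun z => ?_⟩
  · show s.ker.comap j = I.1
    rw [← Scheme.IdealSheafData.ker_fst_of_isClosedImmersion]
    have hpb : IsPullback I.1.subschemeι (𝟙 _) j s :=
      IsPullback.of_iso_pullback ⟨by simp [s, j]⟩
        ⟨pullback.lift I.1.subschemeι (𝟙 _) (by simp [s, j]), pullback.snd _ _, by simp, by
          apply pullback.hom_ext
          · simp only [Category.assoc, pullback.lift_fst, Category.id_comp]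
            refine ((cancel_mono j).1 ?_).symm
            rw [Category.assoc]
            exact pullback.condition
          · simp⟩ (pullback.lift_fst _ _ _) (pullback.lift_snd _ _ _)
    rw [← hpb.isoPullback_inv_fst, Scheme.Hom.ker_comp_of_isIso, Scheme.IdealSheafData.ker_subschemeι]
  · have hz : s.ker.subschemeι z ∈ Set.range s := by
      have h1 : Set.range s.ker.subschemeι = closure (Set.range s) := by
        rw [Scheme.IdealSheafData.range_subschemeι, Scheme.Hom.support_ker]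
      have h2 : s.ker.subschemeι z ∈ Set.range s.ker.subschemeι := ⟨z, rfl⟩
      rwa [h1, IsClosed.closure_eq s.isClosedEmbedding.isClosed_range] at h2
    obtain ⟨w, hw⟩ := hz
    rw [← hw]
    exact (mem_range_jmap V U hUV T _).1 ⟨I.1.subschemeι w, rfl⟩

omit [IsSeparated f] in
theorem deg_comap_jmap {T : Over V.toScheme} (J : HilbD.Obj f d (Over.mk (T.hom ≫ V.ι))) (hJ : Supp U J.1) :
    Mor2.IsFinLocFreeOfDeg d ((J.1.comap (jmap V U hUV T)).subschemeι ≫ PicF.XTproj (gmap V U hUV) T) := by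
  let j := jmap V U hUV T
  haveI : Surjective (pullback.snd j J.1.subschemeι) := ⟨fun z => by
    obtain ⟨v, hv⟩ := (mem_range_jmap V U hUV T _).2 (hJ z)
    obtain ⟨w, -, hw⟩ := Scheme.Pullback.exists_preimage_pullback (f := j) (g := J.1.subschemeι) v z hv
    exact ⟨w, hw⟩⟩
  haveI : IsIso (pullback.snd j J.1.subschemeι) :=
    (isIso_iff_isOpenImmersion_and_surjective _).2 ⟨inferInstance, inferInstance⟩
  rw [show J.1.comap j = (pullback.fst j J.1.subschemeι).ker from rfl, finLocFreeOfDeg_ker,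
    ← jmap_proj V U hUV T, ← Category.assoc, pullback.condition, Category.assoc, deg_iso_comp]
  exact J.2

omit [IsSeparated f] in
theorem supp_ext {T : Over V.toScheme} {J J' : (PicF.XT f (Over.mk (T.hom ≫ V.ι))).IdealSheafData}
    (hJ : Supp U J) (hJ' : Supp U J') (h : J.comap (jmap V U hUV T) = J'.comap (jmap V U hUV T)) : J = J' := by
  let j := jmap V U hUV T
  have key : ∀ K : (PicF.XT f (Over.mk (T.hom ≫ V.ι))).IdealSheafData, Supp U K → (K.comap j).map j = K := by
    intro K hK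
    haveI : Surjective (pullback.snd j K.subschemeι) := ⟨fun z => by
      obtain ⟨v, hv⟩ := (mem_range_jmap V U hUV T _).2 (hK z)
      obtain ⟨w, -, hw⟩ := Scheme.Pullback.exists_preimage_pullback (f := j) (g := K.subschemeι) v z hv
      exact ⟨w, hw⟩⟩
    haveI : IsIso (pullback.snd j K.subschemeι) :=
      (isIso_iff_isOpenImmersion_and_surjective _).2 ⟨inferInstance, inferInstance⟩
    rw [Scheme.IdealSheafData.map, ← Scheme.IdealSheafData.comapIso_hom_fst, Category.assoc, pullback.condition,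
      Scheme.Hom.ker_comp_of_isIso, Scheme.Hom.ker_comp_of_isIso, Scheme.IdealSheafData.ker_subschemeι]
  rw [← key J hJ, ← key J' hJ', h]

omit [IsSeparated f] in
/-- The locus of a value lying over `U` and `V`. -/
noncomputable def locus (x : HPt f d T) : T.Opens :=
  x.str ⁻¹ᵁ V ⊓ ⟨(x.π '' {z | pullback.fst f x.str (x.obj.1.subschemeι z) ∉ U})ᶜ, by
    haveI : IsFinite x.π := x.obj.2.1.1
    refine (x.π.isClosedMap _ ?_).isOpen_compl
    exact IsClosed.preimage (x.obj.1.subschemeι ≫ pullback.fst f x.str).continuous U.2.isClosed_compl⟩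

omit [IsSeparated f] in
theorem range_subset_locus_iff (x : HPt f d T) (h : T' ⟶ T) :
    Set.range h ⊆ locus V U x ↔ Set.range (h ≫ x.str) ⊆ V ∧ Supp U (x.pull h).obj.1 := by
  have hsup : ∀ z : (x.pull h).obj.1.subscheme, ∃ z₀, x.π z₀ = h ((x.pull h).π z) ∧
      pullback.fst f x.str (x.obj.1.subschemeι z₀) = pullback.fst f (h ≫ x.str) ((x.pull h).obj.1.subschemeι z) := by
    intro z
    let m : Over.mk (h ≫ x.str) ⟶ Over.mk x.str := Over.homMk h rfl
    have hr : (x.pull h).obj.1.subschemeι z ∈ Set.range (pullback.fst (PicF.XTmap f m) x.obj.1.subschemeι) := by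
      have h1 : Set.range (x.pull h).obj.1.subschemeι = closure (Set.range (pullback.fst (PicF.XTmap f m) x.obj.1.subschemeι)) := by
        rw [Scheme.IdealSheafData.range_subschemeι,
          show (x.pull h).obj.1 = (pullback.fst (PicF.XTmap f m) x.obj.1.subschemeι).ker from pull_eq_comap f m _,
          Scheme.Hom.support_ker]
        rfl
      have h2 : (x.pull h).obj.1.subschemeι z ∈ Set.range (x.pull h).obj.1.subschemeι := ⟨z, rfl⟩
      rwa [h1, IsClosed.closure_eq (Scheme.Hom.isClosedEmbedding _).isClosed_range] at h2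
    obtain ⟨w, hw⟩ := hr
    refine ⟨pullback.snd (PicF.XTmap f m) x.obj.1.subschemeι w, ?_, ?_⟩
    · show PicF.XTproj f (Over.mk x.str) (x.obj.1.subschemeι _) = m.left (PicF.XTproj f (Over.mk (h ≫ x.str)) ((x.pull h).obj.1.subschemeι z))
      rw [← hw, ← Scheme.Hom.comp_apply _ x.obj.1.subschemeι, ← pullback.condition, Scheme.Hom.comp_apply,
        ← Scheme.Hom.comp_apply, ← Scheme.Hom.comp_apply, (isPullback_XTmap f m).w]
      rfl
    · rw [← hw, ← Scheme.Hom.comp_apply _ x.obj.1.subschemeι, ← pullback.condition, Scheme.Hom.comp_apply]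
      exact XTmap_fst_apply m _
  constructor
  · intro hh
    refine ⟨fun s ⟨t, ht⟩ => ht ▸ (hh ⟨t, rfl⟩).1, fun z => ?_⟩
    obtain ⟨z₀, h₀, h₁⟩ := hsup z
    have := (hh ⟨(x.pull h).π z, rfl⟩).2
    show pullback.fst f (h ≫ x.str) _ ∈ U
    rw [← h₁]
    by_contra hc
    exact this ⟨z₀, hc, h₀⟩
  · rintro ⟨hV, hU⟩ _ ⟨t, rfl⟩
    refine ⟨hV ⟨t, rfl⟩, ?_⟩
    rintro ⟨z₀, hz₀, hzt⟩
    let m : Over.mk (h ≫ x.str) ⟶ Over.mk x.str := Over.homMk h rfl
    have H := (IsPullback.of_hasPullback (PicF.XTmap f m) x.obj.1.subschemeι).flip.paste_vert (isPullback_XTmap f m)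
    obtain ⟨w, hw, -⟩ := Scheme.Pullback.exists_preimage_pullback (f := x.π) (g := m.left) z₀ t hzt
    let v := H.isoPullback.inv w
    obtain ⟨z, hz⟩ : ∃ z, (x.pull h).obj.1.subschemeι z = pullback.fst (PicF.XTmap f m) x.obj.1.subschemeι v := by
      rw [show (x.pull h).obj.1 = (pullback.fst (PicF.XTmap f m) x.obj.1.subschemeι).ker from pull_eq_comap f m _]
      exact ⟨(pullback.fst (PicF.XTmap f m) x.obj.1.subschemeι).toImage v, by
        rw [← Scheme.Hom.comp_apply]; exact congrArg (fun k : _ ⟶ PicF.XT f (Over.mk (h ≫ x.str)) => k v)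
          (Scheme.Hom.toImage_imageι (pullback.fst (PicF.XTmap f m) x.obj.1.subschemeι))⟩
    apply hz₀
    have hv : pullback.snd (PicF.XTmap f m) x.obj.1.subschemeι v = z₀ := by
      rw [← Scheme.Hom.comp_apply, IsPullback.isoPullback_inv_fst]; exact hw
    show pullback.fst f x.str (x.obj.1.subschemeι z₀) ∈ U
    rw [← hv, ← Scheme.Hom.comp_apply _ x.obj.1.subschemeι, ← pullback.condition, Scheme.Hom.comp_apply, ← hz]
    exact (congrArg (fun p => p ∈ U) (XTmap_fst_apply m _)).mpr (hU z)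

variable (H : Over V.toScheme) (Z : HilbD.Obj (gmap V U hUV) d H) (hZ : HilbD.IsUniversal (gmap V U hUV) d H Z)

/-- The universal value on a chart. -/
noncomputable def univPt : HPt f d H.left :=
  ⟨H.hom ≫ V.ι, (exists_push V U hUV H Z).choose⟩

theorem univPt_range (b : T' ⟶ H.left) : Set.range b ⊆ locus V U (univPt V U hUV H Z) := by
  refine Set.Subset.trans ?_ ((range_subset_locus_iff V U (univPt V U hUV H Z) (𝟙 _)).2 ⟨?_, ?_⟩)
  · rw [Scheme.Hom.id_base]
    simp
  · rintro _ ⟨t, rfl⟩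
    exact (H.hom t).2
  · rw [HPt.pull_id]
    exact (exists_push V U hUV H Z).choose_spec.2

include hZ in
theorem existsUnique_chart (x : HPt f d T) (hx : Set.range (𝟙 T : T ⟶ T) ⊆ locus V U x) :
    ∃! b : T ⟶ H.left, (univPt V U hUV H Z).pull b = x := by
  obtain ⟨hV, hU⟩ := (range_subset_locus_iff V U x (𝟙 T)).1 hx
  rw [HPt.pull_id] at hU
  rw [Category.id_comp] at hV
  obtain ⟨q, hq⟩ : ∃ q : T ⟶ V.toScheme, q ≫ V.ι = x.str :=
    ⟨IsOpenImmersion.lift V.ι x.str (by simpa using hV), IsOpenImmersion.lift_fac _ _ _⟩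
  obtain ⟨p, J⟩ := x
  obtain rfl : q ≫ V.ι = p := hq
  obtain ⟨m, hm, hmu⟩ := hZ (Over.mk q) ⟨_, deg_comap_jmap V U hUV (T := Over.mk q) J hU⟩
  have key : ∀ (m : Over.mk q ⟶ H),
      HilbD.pull (gmap V U hUV) m Z.1 = J.1.comap (jmap V U hUV (Over.mk q)) ↔
        (univPt V U hUV H Z).pull m.left = ⟨q ≫ V.ι, J⟩ := by
    intro m
    let m' : Over.mk (q ≫ V.ι) ⟶ Over.mk (H.hom ≫ V.ι) := Over.homMk m.left (by
      show m.left ≫ H.hom ≫ V.ι = q ≫ V.ι
      rw [← Category.assoc, Over.w m]; rfl)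
    have hc := (exists_push V U hUV H Z).choose_spec
    have e : (HilbD.pull (gmap V U hUV) m Z.1) =
        ((univPt V U hUV H Z).obj.1.comap (PicF.XTmap f m')).comap (jmap V U hUV (Over.mk q)) := by
      rw [pull_eq_comap, ← Scheme.IdealSheafData.comap_comp, ← XTmap_jmap V U hUV m m' rfl,
        Scheme.IdealSheafData.comap_comp, ← hc.1]
      rfl
    rw [HPt.pull_eq_iff, e]
    constructor
    · intro h
      refine ⟨m', rfl, supp_ext V U hUV ?_ hU h⟩
      have h1 := ((range_subset_locus_iff V U (univPt V U hUV H Z) m.left).1 (univPt_range V U hUV H Z m.left)).2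
      have h2 : ((univPt V U hUV H Z).pull m.left) = ⟨q ≫ V.ι, ⟨(univPt V U hUV H Z).obj.1.comap (PicF.XTmap f m'), by
          rw [← pull_eq_comap]; exact isFinLocFreeOfDeg_pull f m' _ (univPt V U hUV H Z).obj.2⟩⟩ :=
        (HPt.pull_eq_iff _ _ _).2 ⟨m', rfl, rfl⟩
      rw [h2] at h1
      exact h1
    · rintro ⟨n, hn, hnJ⟩
      rw [show m' = n from Over.OverMorphism.ext hn.symm, hnJ]
  refine ⟨m.left, (key m).1 hm, fun b hb => ?_⟩
  have hs := congrArg HPt.str hb
  let mb : Over.mk q ⟶ H := Over.homMk b ((cancel_mono V.ι).1 ((Category.assoc _ _ _).trans hs))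
  exact congrArg CommaMorphism.left (hmu mb ((key mb).2 hb))

/-- The map from a chart. -/
noncomputable def chartMap : yoneda.obj H.left ⟶ presheaf f d := yonedaEquiv.symm (univPt V U hUV H Z)

theorem chartMap_app {T : Scheme.{u}} (b : T ⟶ H.left) :
    (chartMap V U hUV H Z).app (op T) b = (univPt V U hUV H Z).pull b := rfl

include hZ in
theorem isOpenImmersion_chartMap : IsOpenImmersion.presheaf (chartMap V U hUV H Z) := by
  refine MorphismProperty.relative.of_exists fun T g => ?_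
  let x : HPt f d T := yonedaEquiv g
  have hg : ∀ {T' : Scheme.{u}} (h : T' ⟶ T), g.app (op T') h = x.pull h := fun {T'} h => by
    obtain ⟨x', rfl⟩ := yonedaEquiv.symm.surjective g
    rw [show x = x' from yonedaEquiv.apply_symm_apply x']
    rfl
  let W := locus V U x
  have hW : Set.range (𝟙 W.toScheme : W.toScheme ⟶ W.toScheme) ⊆ locus V U (x.pull W.ι) := by
    refine (range_subset_locus_iff V U _ _).2 ?_
    rw [HPt.pull_id, Category.id_comp]
    exact (range_subset_locus_iff V U x W.ι).1 (by rw [Scheme.Opens.range_ι])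
  obtain ⟨b₀, hb₀, -⟩ := existsUnique_chart V U hUV H Z hZ (x.pull W.ι) hW
  refine ⟨W.toScheme, yoneda.map b₀, W.ι, ?_, inferInstance⟩
  refine IsPullback.of_forall_isPullback_app fun S' => ?_
  rw [Types.isPullback_iff]
  refine ⟨ConcreteCategory.hom_ext _ _ fun l => ?_, fun l l' hll => ?_, fun (b : S'.unop ⟶ H.left) (h : S'.unop ⟶ T) hbh => ?_⟩
  · show (univPt V U hUV H Z).pull (l ≫ b₀) = g.app (op S'.unop) (l ≫ W.ι)
    rw [hg, ← HPt.pull_pull, hb₀, HPt.pull_pull]
  · exact (cancel_mono W.ι).1 hll.2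
  · have e : (univPt V U hUV H Z).pull b = x.pull h := hbh.trans (hg (T' := S'.unop) h)
    have hsub : Set.range h ⊆ (W : Set T) := by
      refine (range_subset_locus_iff V U x h).2 ?_
      have h1 := (range_subset_locus_iff V U (univPt V U hUV H Z) b).1 (univPt_range V U hUV H Z b)
      rw [e] at h1
      refine ⟨?_, h1.2⟩
      have hstr : b ≫ (univPt V U hUV H Z).str = h ≫ x.str := congrArg HPt.str e
      rw [← hstr]
      exact h1.1
    refine ⟨IsOpenImmersion.lift W.ι h (by simpa using hsub), ?_, IsOpenImmersion.lift_fac _ _ _⟩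
    have hx' : Set.range (𝟙 S'.unop : S'.unop ⟶ S'.unop) ⊆ locus V U (x.pull h) := by
      refine (range_subset_locus_iff V U _ _).2 ?_
      rw [HPt.pull_id, Category.id_comp]
      exact (range_subset_locus_iff V U x h).1 hsub
    refine (existsUnique_chart V U hUV H Z hZ (x.pull h) hx').unique ?_ e
    show (univPt V U hUV H Z).pull (_ ≫ b₀) = _
    rw [← HPt.pull_pull, hb₀, HPt.pull_pull, IsOpenImmersion.lift_fac]

end Chart

theorem exists_finset_cover [IsSeparated f]
    (h : ∀ (s : S) (x : Fin d → X), (∀ i, f.base (x i) = s) → ∃ U : X.Opens, IsAffineOpen U ∧ ∀ i, x i ∈ U)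
    (x : HPt f d T) (t : T) :
    ∃ (V : S.Opens) (U : X.Opens), IsAffineOpen V ∧ IsAffineOpen U ∧ U ≤ f ⁻¹ᵁ V ∧ t ∈ locus V U x := by
  obtain ⟨V, hV, hsV, -⟩ := exists_isAffineOpen_mem_and_subset (x := x.str t) (U := ⊤) trivial
  haveI := x.obj.2.1.1
  haveI := x.obj.2.1.2.1
  have hdeg : AlgSpDec.DegLE d (x.π.fiberToSpecResidueField t) := by
    refine ⟨inferInstanceAs (IsFinite (pullback.snd _ _)), fun s => ?_⟩
    show Scheme.Hom.finrank (pullback.snd x.π (T.fromSpecResidueField t)) s ≤ d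
    rw [Scheme.Hom.finrank_pullback_snd]
    exact (x.obj.2.2 _).le
  obtain ⟨hfin, -, hcard⟩ := hdeg.space
  let F : Set X := Set.range fun z : x.π.fiber t => pullback.fst f x.str (x.obj.1.subschemeι (x.π.fiberι t z))
  haveI : Finite (x.π.fiber t) := hfin
  have hFfin : F.Finite := Set.finite_range _
  have hFs : ∀ p ∈ F, f p = x.str t := by
    rintro _ ⟨z, rfl⟩
    have ht : x.π (x.π.fiberι t z) = t := by
      have : x.π.fiberι t z ∈ x.π ⁻¹' {t} := x.π.range_fiberι t ▸ ⟨z, rfl⟩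
      exact this
    have h1 : f (pullback.fst f x.str (x.obj.1.subschemeι (x.π.fiberι t z))) =
        x.str (x.π (x.π.fiberι t z)) := by
      show _ = x.str (pullback.snd f x.str (x.obj.1.subschemeι (x.π.fiberι t z)))
      rw [← Scheme.Hom.comp_apply, pullback.condition, Scheme.Hom.comp_apply]
    rw [h1, ht]
  obtain ⟨U₀, hU₀, hFU₀⟩ : ∃ U₀ : X.Opens, IsAffineOpen U₀ ∧ F ⊆ U₀ := by
    rcases isEmpty_or_nonempty (x.π.fiber t) with hem | hne
    · exact ⟨⊥, isAffineOpen_bot X, by rintro _ ⟨z, rfl⟩; exact hem.elim z⟩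
    · haveI := Fintype.ofFinite (x.π.fiber t)
      obtain ⟨emb⟩ : Nonempty (x.π.fiber t ↪ Fin d) :=
        Function.Embedding.nonempty_of_card_le (by simpa [Nat.card_eq_fintype_card] using hcard)
      let xs : Fin d → X := fun i =>
        pullback.fst f x.str (x.obj.1.subschemeι (x.π.fiberι t (Function.invFun emb i)))
      obtain ⟨U₀, hU₀, hxs⟩ := h (x.str t) xs fun i => hFs _ ⟨_, rfl⟩
      refine ⟨U₀, hU₀, ?_⟩
      rintro _ ⟨z, rfl⟩
      have := hxs (emb z)
      simp only [xs, Function.leftInverse_invFun emb.injective z] at this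
      exact this
  obtain ⟨U, hU, -, hUW, hFU⟩ := exists_affine_le hU₀ (f ⁻¹ᵁ V) F hFfin hFU₀ fun p hp => by
    show f p ∈ V
    rw [hFs p hp]; exact hsV
  refine ⟨V, U, hV, hU, hUW, hsV, ?_⟩
  rintro ⟨z₀, hz₀, hzt⟩
  refine hz₀ (hFU ⟨(x.π.fiberHomeo t).symm ⟨z₀, hzt⟩, ?_⟩)
  show pullback.fst f x.str (x.obj.1.subschemeι (x.π.fiberι t _)) = _
  rw [Scheme.Hom.fiberι_fiberHomeo_symm]

theorem representable [IsSeparated f]
    (h : ∀ (s : S) (x : Fin d → X), (∀ i, f.base (x i) = s) → ∃ U : X.Opens, IsAffineOpen U ∧ ∀ i, x i ∈ U) :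
    HilbD.Representable f d := by
  let ι := Σ V : {V : S.Opens // IsAffineOpen V}, {U : X.Opens // IsAffineOpen U ∧ U ≤ f ⁻¹ᵁ V.1}
  have hrep : ∀ i : ι, HilbD.Representable (gmap i.1.1 i.2.1 i.2.2.2) d := fun i => by
    haveI : IsAffine i.1.1.toScheme := i.1.2
    haveI : IsAffine i.2.1.toScheme := i.2.2.1
    exact representable_of_isAffine _ d
  choose H Z hZ using hrep
  let Fs : Sheaf Scheme.zariskiTopology.{u} (Type u) :=
    ⟨presheaf f d, (isSheaf_iff_isSheaf_of_type _ _).2 (isSheaf_presheaf f d)⟩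
  let cm : ∀ i : ι, yoneda.obj (H i).left ⟶ presheaf f d := fun i => chartMap i.1.1 i.2.1 i.2.2.2 (H i) (Z i)
  have hcm : ∀ i, IsOpenImmersion.presheaf (cm i) := fun i => isOpenImmersion_chartMap _ _ _ _ _ (hZ i)
  haveI : Presheaf.IsLocallySurjective Scheme.zariskiTopology (Sigma.desc cm) := by
    refine ⟨fun {T} (x : HPt f d T) => ?_⟩
    choose V U hV hU hUV hmem using exists_finset_cover h x
    let 𝒰 : T.OpenCover := Scheme.Cover.mkOfCovers T (fun t => (locus (V t) (U t) x).toScheme)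
      (fun t => (locus (V t) (U t) x).ι) fun t => ⟨t, ⟨t, hmem t⟩, rfl⟩
    refine GrothendieckTopology.superset_covering _ ?_ 𝒰.mem_grothendieckTopology
    rintro S' k ⟨_, l, _, ⟨t⟩, rfl⟩
    let i : ι := ⟨⟨V t, hV t⟩, ⟨U t, hU t, hUV t⟩⟩
    let W := locus (V t) (U t) x
    have hW : Set.range (𝟙 W.toScheme : W.toScheme ⟶ W.toScheme) ⊆ locus (V t) (U t) (x.pull W.ι) := by
      refine (range_subset_locus_iff (V t) (U t) _ _).2 ?_
      rw [HPt.pull_id, Category.id_comp]
      exact (range_subset_locus_iff (V t) (U t) x W.ι).1 (by rw [Scheme.Opens.range_ι])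
    obtain ⟨b, hb, -⟩ := existsUnique_chart (V t) (U t) (hUV t) (H i) (Z i) (hZ i) (x.pull W.ι) hW
    refine ⟨(Sigma.ι (fun i => yoneda.obj (H i).left) i).app (op S') (l ≫ b), ?_⟩
    rw [← NatTrans.comp_app_apply, Sigma.ι_desc]
    show (univPt (V t) (U t) (hUV t) (H i) (Z i)).pull (l ≫ b) = x.pull (l ≫ W.ι)
    rw [← HPt.pull_pull, hb, HPt.pull_pull]
  obtain ⟨G, ⟨rep⟩⟩ := (Scheme.LocalRepresentability.isRepresentable (F := Fs) (f := cm) hcm).has_representation
  let u₀ : HPt f d G := rep.homEquiv (𝟙 G)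
  have hrep : ∀ {T : Scheme.{u}} (k : T ⟶ G), (rep.homEquiv k : HPt f d T) = u₀.pull k := fun {T} k => by
    conv_lhs => rw [← Category.comp_id k, rep.homEquiv_comp]
    rfl
  refine ⟨Over.mk u₀.str, u₀.obj, fun T Z' => ?_⟩
  let x : HPt f d T.left := ⟨T.hom, Z'⟩
  have hl : u₀.pull (rep.homEquiv.symm x) = x := (hrep _).symm.trans (rep.homEquiv.apply_symm_apply x)
  obtain ⟨m, -, hm2⟩ := (HPt.pull_eq_iff _ _ _).1 hl
  refine ⟨m, (pull_eq_comap f m _).trans hm2, fun g hg => Over.OverMorphism.ext (rep.homEquiv.injective ?_)⟩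
  rw [hrep, hrep]
  trans x
  · exact (HPt.pull_eq_iff _ _ _).2 ⟨g, rfl, ((pull_eq_comap f g _).symm.trans hg)⟩
  · exact ((HPt.pull_eq_iff _ _ _).2 ⟨m, rfl, hm2⟩).symm

end Groth.Agent.Grass60.HilbGen
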