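import Groth.Agent.Grass60.NatHom

/-!
The closed locus of a represented functor cut out by a condition with universal ideals.
-/

set_option autoImplicit false
set_option backward.isDefEq.respectTransparency false
set_option linter.style.haveILetI false

universe u

open CategoryTheory CategoryTheory.Limits AlgebraicGeometry

namespace Groth.Agent.Grass60

open Synt29.RepOpen

variable {R : Type u} [CommRing R] {X : Over (Spec (CommRingCat.of R))} {F : CommAlgCat.{u} R ⥤ Type u}
  {e : ∀ A, (sp A ⟶ X) ≃ F.obj A}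

/-- A condition on the points of a functor cut out by ideals. -/
def HasIdeals (P : ∀ A : CommAlgCat.{u} R, F.obj A → Prop) : Prop :=
  ∀ (A : CommAlgCat.{u} R) (x : F.obj A), ∃ I : Ideal A, ∀ (C : CommAlgCat.{u} R) (φ : A ⟶ C),
    P C (F.map φ x) ↔ I ≤ RingHom.ker φ.hom.toRingHom

variable (X F) (P : ∀ A : CommAlgCat.{u} R, F.obj A → Prop) (e)

/-- The condition at a point of `X` with values in a ring. -/
def AtPt {A : Type u} [CommRing A] (a : Spec (CommRingCat.of A) ⟶ X.left) : Prop :=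
  ∀ (alg : Algebra R A) (w : a ≫ X.hom = Spec.map (CommRingCat.ofHom (@algebraMap R A _ _ alg))),
    P (@CommAlgCat.of R _ A _ alg) (e (@CommAlgCat.of R _ A _ alg) (Over.homMk a w))

/-- The universal ideal of a point. -/
def HasI {A : Type u} [CommRing A] (a : Spec (CommRingCat.of A) ⟶ X.left) (I : Ideal A) : Prop :=
  ∀ (C : Type u) [CommRing C] (φ : A →+* C),
    AtPt X F e P (Spec.map (CommRingCat.ofHom φ) ≫ a) ↔ I ≤ RingHom.ker φ

variable {X F e P}

theorem atPt_iff {A : Type u} [CommRing A] [alg : Algebra R A] (a : Spec (CommRingCat.of A) ⟶ X.left)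
    (w : a ≫ X.hom = Spec.map (CommRingCat.ofHom (algebraMap R A))) :
    AtPt X F e P a ↔ P (CommAlgCat.of R A) (e (CommAlgCat.of R A) (Over.homMk a w)) := by
  refine ⟨fun h => h alg w, fun h alg' w' => ?_⟩
  obtain rfl : alg' = alg := Algebra.algebra_ext _ _ fun r => by
    exact RingHom.congr_fun (congrArg CommRingCat.Hom.hom (Spec.map_inj.1 (w'.symm.trans w))) r
  exact h

variable (he : IsNat X F e) (hP : HasIdeals P)

include he in
theorem atPt_comp_alg {A C : Type u} [CommRing A] [Algebra R A] [CommRing C] [Algebra R C]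
    (a : Spec (CommRingCat.of A) ⟶ X.left)
    (wA : a ≫ X.hom = Spec.map (CommRingCat.ofHom (algebraMap R A))) (φ : A →ₐ[R] C) :
    AtPt X F e P (Spec.map (CommRingCat.ofHom φ.toRingHom) ≫ a) ↔
      P (CommAlgCat.of R C) (F.map (CommAlgCat.ofHom φ) (e (CommAlgCat.of R A) (Over.homMk a wA))) := by
  have wC : (Spec.map (CommRingCat.ofHom φ.toRingHom) ≫ a) ≫ X.hom =
      Spec.map (CommRingCat.ofHom (algebraMap R C)) := by
    rw [Category.assoc, wA, ← Spec.map_comp, ← CommRingCat.ofHom_comp]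
    exact congrArg (fun t => Spec.map (CommRingCat.ofHom t)) φ.comp_algebraMap
  rw [atPt_iff _ wC, ← he]
  exact iff_of_eq (congrArg (fun g => P (CommAlgCat.of R C) (e (CommAlgCat.of R C) g)) (Over.OverMorphism.ext rfl))

include he hP in
theorem exists_hasI_alg {A : Type u} [CommRing A] [Algebra R A] (a : Spec (CommRingCat.of A) ⟶ X.left)
    (wA : a ≫ X.hom = Spec.map (CommRingCat.ofHom (algebraMap R A))) :
    ∃ I : Ideal A, HasI X F e P a I := by
  obtain ⟨I, hI⟩ := hP (CommAlgCat.of R A) (e (CommAlgCat.of R A) (Over.homMk a wA))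
  refine ⟨I, fun C _ φ => ?_⟩
  letI : Algebra R C := (φ.comp (algebraMap R A)).toAlgebra
  obtain ⟨φ', hφ'⟩ : ∃ φ' : A →ₐ[R] C, φ'.toRingHom = φ := ⟨{ φ with commutes' := fun _ => rfl }, rfl⟩
  rw [← hφ', atPt_comp_alg he a wA φ']
  exact hI (CommAlgCat.of R C) (CommAlgCat.ofHom φ')

include he hP in
theorem exists_hasI {A : Type u} [CommRing A] (a : Spec (CommRingCat.of A) ⟶ X.left) :
    ∃ I : Ideal A, HasI X F e P a I :=
  letI : Algebra R A := (Spec.preimage (a ≫ X.hom)).hom.toAlgebra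
  exists_hasI_alg he hP a (Spec.map_preimage _).symm

omit he hP in
theorem HasI.unique {A : Type u} [CommRing A] {a : Spec (CommRingCat.of A) ⟶ X.left} {I I' : Ideal A}
    (h : HasI X F e P a I) (h' : HasI X F e P a I') : I = I' := by
  apply le_antisymm
  · exact ((h (A ⧸ I') _).mp ((h' (A ⧸ I') (Ideal.Quotient.mk I')).mpr (by rw [Ideal.mk_ker]))).trans_eq
      Ideal.mk_ker
  · exact ((h' (A ⧸ I) _).mp ((h (A ⧸ I) (Ideal.Quotient.mk I)).mpr (by rw [Ideal.mk_ker]))).trans_eq
      Ideal.mk_ker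

theorem HasI.map {A A' : Type u} [CommRing A] [CommRing A'] {a : Spec (CommRingCat.of A) ⟶ X.left}
    {I : Ideal A} (h : HasI X F e P a I) (ψ : A →+* A') :
    HasI X F e P (Spec.map (CommRingCat.ofHom ψ) ≫ a) (I.map ψ) := by
  intro C _ φ
  rw [← Category.assoc, ← Spec.map_comp, ← CommRingCat.ofHom_comp, h C (φ.comp ψ),
    Ideal.map_le_iff_le_comap, RingHom.comap_ker]

include he hP in
theorem atPt_comp {A C : Type u} [CommRing A] [CommRing C] {a : Spec (CommRingCat.of A) ⟶ X.left}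
    (ha : AtPt X F e P a) (φ : A →+* C) : AtPt X F e P (Spec.map (CommRingCat.ofHom φ) ≫ a) := by
  obtain ⟨I, hI⟩ := exists_hasI he hP a
  refine (hI C φ).2 ?_
  have h0 := (hI A (RingHom.id A)).1 (by rwa [CommRingCat.ofHom_id, Spec.map_id, Category.id_comp])
  intro x hx
  have := h0 hx
  rw [RingHom.mem_ker, RingHom.id_apply] at this
  rw [RingHom.mem_ker, this, map_zero]

include he hP in
theorem atPt_of_span {A : Type u} [CommRing A] (a : Spec (CommRingCat.of A) ⟶ X.left) (s : Set A)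
    (hs : Ideal.span s = ⊤)
    (h : ∀ r ∈ s, AtPt X F e P (Spec.map (CommRingCat.ofHom (algebraMap A (Localization.Away r))) ≫ a)) :
    AtPt X F e P a := by
  obtain ⟨I, hI⟩ := exists_hasI he hP a
  have h0 := (hI A (RingHom.id A)).2 (fun x hx => by
    rw [RingHom.mem_ker, RingHom.id_apply]
    refine Module.eq_zero_of_isLocalized_span s hs (fun r => Localization.Away (r : A))
      (fun r => Algebra.linearMap A (Localization.Away (r : A))) x fun r => ?_
    show algebraMap A (Localization.Away (r : A)) x = 0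
    exact RingHom.mem_ker.1 ((hI _ _).1 (h r r.2) hx))
  rwa [CommRingCat.ofHom_id, Spec.map_id, Category.id_comp] at h0

include he hP in
/-- The closed subscheme of stable points. -/
theorem exists_closedLocus :
    ∃ (Z : Scheme.{u}) (ι : Z ⟶ X.left), IsClosedImmersion ι ∧
      ∀ (A : CommAlgCat.{u} R) (g : sp A ⟶ X),
        (∃ h : (sp A).left ⟶ Z, h ≫ ι = g.left) ↔
          P A (e A g) := by
  choose I hI using fun U : X.left.affineOpens => exists_hasI he hP (A := Γ(X.left, U)) U.2.fromSpec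
  let 𝓘 : X.left.IdealSheafData :=
    { ideal := I
      map_ideal_basicOpen := fun U f => by
        refine HasI.unique ?_ (hI (X.left.affineBasicOpen f))
        have := HasI.map (hI U) (X.left.presheaf.map (homOfLE <| X.left.basicOpen_le f).op).hom
        rwa [CommRingCat.ofHom_hom, IsAffineOpen.map_fromSpec U.2 (X.left.affineBasicOpen f).2] at this }
  refine ⟨𝓘.subscheme, 𝓘.subschemeι, inferInstance, fun A g => ?_⟩
  have hst : AtPt X F e P (A := A) g.left ↔ P A (e A g) := atPt_iff g.left g.w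
  rw [← hst]
  clear hst
  let a : Spec (CommRingCat.of A) ⟶ X.left := g.left
  show (∃ h, h ≫ 𝓘.subschemeι = a) ↔ AtPt X F e P a
  constructor
  · rintro ⟨l, hl⟩
    refine atPt_of_span he hP a
      {r | AtPt X F e P (Spec.map (CommRingCat.ofHom (algebraMap A (Localization.Away r))) ≫ a)} ?_ fun r hr => hr
    rw [← PrimeSpectrum.iSup_basicOpen_eq_top_iff']
    refine eq_top_iff.2 fun p _ => ?_
    obtain ⟨U, hU, hpU, -⟩ := exists_isAffineOpen_mem_and_subset (x := a p) (U := ⊤) trivial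
    obtain ⟨_, ⟨_, ⟨r, rfl⟩, rfl⟩, hpr, hrU⟩ :=
      (PrimeSpectrum.isBasis_basic_opens (R := A)).exists_subset_of_mem_open (a := p) (u := ((a ⁻¹ᵁ U).1 : Set (PrimeSpectrum A))) hpU (a ⁻¹ᵁ U).2
    refine TopologicalSpace.Opens.mem_iSup.2 ⟨r, TopologicalSpace.Opens.mem_iSup.2 ⟨?_, hpr⟩⟩
    let b := Spec.map (CommRingCat.ofHom (algebraMap A (Localization.Away r)))
    have hb : Set.range (b ≫ a) ⊆ Set.range hU.fromSpec := by
      rintro _ ⟨q, rfl⟩
      rw [IsAffineOpen.range_fromSpec]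
      refine hrU ?_
      have : b q ∈ Set.range (PrimeSpectrum.comap (algebraMap A (Localization.Away r))) := ⟨q, rfl⟩
      rw [PrimeSpectrum.localization_away_comap_range (Localization.Away r) r] at this
      exact this
    obtain ⟨ψ, hψ⟩ : ∃ ψ, Spec.map ψ ≫ hU.fromSpec = b ≫ a :=
      ⟨Spec.preimage (IsOpenImmersion.lift hU.fromSpec (b ≫ a) hb), by
        rw [Spec.map_preimage, IsOpenImmersion.lift_fac]⟩
    show AtPt X F e P (b ≫ a)
    rw [← hψ, ← CommRingCat.ofHom_hom ψ]
    refine (hI ⟨U, hU⟩ _ ψ.hom).2 fun x hx => RingHom.mem_ker.2 ?_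
    have hx0 : (𝓘.subschemeι.app U).hom x = 0 := by
      rw [← RingHom.mem_ker, ← Scheme.Hom.ker_apply (f := 𝓘.subschemeι) ⟨U, hU⟩, Scheme.IdealSheafData.ker_subschemeι]
      exact hx
    have h1 : ((b ≫ l ≫ 𝓘.subschemeι).app U).hom x = 0 := by
      rw [Scheme.Hom.comp_app, Scheme.Hom.comp_app]
      simp [hx0]
    rw [hl, ← hψ] at h1
    let A' := CommRingCat.of (Localization.Away r)
    have hle : (⊤ : (Spec A').Opens) ≤ (Spec.map ψ ≫ hU.fromSpec) ⁻¹ᵁ U := by
      rw [Scheme.Hom.comp_preimage, hU.fromSpec_preimage_self]; exact le_top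
    have e1 : hU.fromSpec.appLE U ⊤ (by rw [hU.fromSpec_preimage_self]) = (Scheme.ΓSpecIso Γ(X.left, U)).inv := by
      rw [Scheme.Hom.appLE, IsAffineOpen.fromSpec_app_self]
      simp [← Functor.map_comp]
    have e2 : (Spec.map ψ ≫ hU.fromSpec).appLE U ⊤ hle = ψ ≫ (Scheme.ΓSpecIso A').inv := by
      rw [← Scheme.Hom.appLE_comp_appLE (Spec.map ψ) hU.fromSpec U ⊤ ⊤ (by rw [hU.fromSpec_preimage_self]) (le_of_eq rfl), e1,
        Scheme.ΓSpecIso_inv_naturality]
      congr 1
    have h2 : ((Spec.map ψ ≫ hU.fromSpec).appLE U ⊤ hle).hom x = 0 := by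
      rw [Scheme.Hom.appLE, CommRingCat.hom_comp, RingHom.comp_apply, h1, map_zero]
    rw [e2] at h2
    have h4 := congrArg (Scheme.ΓSpecIso A').hom h2
    simp only [CommRingCat.hom_comp, RingHom.comp_apply, map_zero] at h4
    rwa [Iso.inv_hom_id_apply] at h4
  · intro hg
    have hle : 𝓘.subschemeι.ker ≤ a.ker := by
      rw [Scheme.IdealSheafData.ker_subschemeι]
      refine Scheme.IdealSheafData.le_ofIdeals_iff.mpr fun U x hx => RingHom.mem_ker.mpr ?_
      refine (Spec (CommRingCat.of A)).IsSheaf.section_ext fun t ht => ?_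
      obtain ⟨W, hW, htW, hWle⟩ := exists_isAffineOpen_mem_and_subset (show t ∈ a ⁻¹ᵁ U.1 from ht)
      refine ⟨W, hWle, htW, ?_⟩
      have h2 := ((hI U) Γ(Spec (CommRingCat.of A), W) (a.appLE U W hWle).hom).mp (by
        rw [CommRingCat.ofHom_hom, IsAffineOpen.SpecMap_appLE_fromSpec a U.2 hW hWle,
          ← Spec.map_preimage hW.fromSpec, ← CommRingCat.ofHom_hom (Spec.preimage hW.fromSpec)]
        exact atPt_comp he hP hg _)
      rw [map_zero, ← RingHom.mem_ker.mp (h2 hx)]
      rfl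
    exact ⟨IsClosedImmersion.lift 𝓘.subschemeι a hle, IsClosedImmersion.lift_fac _ _ _⟩

end Groth.Agent.Grass60
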