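import Groth.Agent.Synt29.RepOpen

/-!
A natural family of maps on affine points comes from a morphism of schemes over an affine base.
-/

set_option autoImplicit false
set_option backward.isDefEq.respectTransparency false
set_option linter.style.haveILetI false

universe u

open CategoryTheory CategoryTheory.Limits AlgebraicGeometry

namespace Groth.Agent.Grass60

open Synt29.RepOpen

variable {R : Type u} [CommRing R] {Y X : Over (Spec (CommRingCat.of R))}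

/-- A family of maps on affine points commuting with base change. -/
def IsNatPts (α : ∀ A : CommAlgCat.{u} R, (sp A ⟶ Y) → (sp A ⟶ X)) : Prop :=
  ∀ (A B : CommAlgCat.{u} R) (φ : A ⟶ B) (g : sp A ⟶ Y), α B (spOver φ ≫ g) = spOver φ ≫ α A g

/-- Morphisms over the base agree when they agree on affine points. -/
theorem hom_ext_pts {c c' : Y ⟶ X} (h : ∀ (A : CommAlgCat.{u} R) (g : sp A ⟶ Y), g ≫ c = g ≫ c') : c = c' := by
  refine Over.OverMorphism.ext (Scheme.Cover.hom_ext Y.left.affineCover _ _ fun i => ?_)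
  let T : Over (Spec (CommRingCat.of R)) := Over.mk (Y.left.affineCover.f i ≫ Y.hom)
  have : IsAffine T.left := inferInstanceAs (IsAffine (Y.left.affineCover.X i))
  obtain ⟨A, ⟨iA⟩⟩ := exists_sp_iso T
  let j : T ⟶ Y := Over.homMk (Y.left.affineCover.f i) rfl
  have h1 := h A (iA.hom ≫ j)
  rw [Category.assoc, Category.assoc] at h1
  exact congrArg CommaMorphism.left ((cancel_epi iA.hom).1 h1)

variable (𝒰 : Y.left.OpenCover)

/-- A member of a cover as a scheme over the base. -/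
noncomputable abbrev member (i : 𝒰.I₀) : Over (Spec (CommRingCat.of R)) := Over.mk (𝒰.f i ≫ Y.hom)

/-- The inclusion of a member of a cover. -/
noncomputable abbrev incl (i : 𝒰.I₀) : member 𝒰 i ⟶ Y := Over.homMk (𝒰.f i) rfl

/-- Morphisms out of a scheme over `Y` agree when they do on affine points lying in members of a cover. -/
theorem hom_ext_cover {W : Over (Spec (CommRingCat.of R))} (h : W ⟶ Y) (u v : W ⟶ X)
    (H : ∀ (B : CommAlgCat.{u} R) (b : sp B ⟶ W) (i : 𝒰.I₀) (a : sp B ⟶ member 𝒰 i),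
      b ≫ h = a ≫ incl 𝒰 i → b ≫ u = b ≫ v) : u = v := by
  refine Over.OverMorphism.ext (Scheme.Cover.hom_ext (𝒰.pullback₁ h.left) _ _ fun i => ?_)
  let P : Over (Spec (CommRingCat.of R)) := Over.mk (pullback.fst h.left (𝒰.f i) ≫ W.hom)
  let p : P ⟶ W := Over.homMk (pullback.fst h.left (𝒰.f i)) rfl
  let q : P ⟶ member 𝒰 i := Over.homMk (pullback.snd h.left (𝒰.f i)) (by
    show pullback.snd _ _ ≫ 𝒰.f i ≫ Y.hom = pullback.fst _ _ ≫ W.hom
    rw [← pullback.condition_assoc, Over.w h])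
  have hpq : p ≫ h = q ≫ incl 𝒰 i := Over.OverMorphism.ext pullback.condition
  have : p ≫ u = p ≫ v := hom_ext_pts fun B g => by
    rw [← Category.assoc, ← Category.assoc]
    exact H B (g ≫ p) i (g ≫ q) (by rw [Category.assoc, Category.assoc, hpq])
  exact congrArg CommaMorphism.left this

variable {𝒰}

theorem exists_member_map (α : ∀ A : CommAlgCat.{u} R, (sp A ⟶ Y) → (sp A ⟶ X)) (hα : IsNatPts α)
    (i : 𝒰.I₀) [IsAffine (𝒰.X i)] :
    ∃ f : member 𝒰 i ⟶ X, ∀ (B : CommAlgCat.{u} R) (a : sp B ⟶ member 𝒰 i), a ≫ f = α B (a ≫ incl 𝒰 i) := by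
  have : IsAffine (member 𝒰 i).left := inferInstanceAs (IsAffine (𝒰.X i))
  obtain ⟨A, ⟨iA⟩⟩ := exists_sp_iso (member 𝒰 i)
  refine ⟨iA.inv ≫ α A (iA.hom ≫ incl 𝒰 i), fun B a => ?_⟩
  obtain ⟨φ, hφ⟩ := exists_spMap (a ≫ iA.inv)
  have h1 : a ≫ incl 𝒰 i = spOver φ ≫ iA.hom ≫ incl 𝒰 i := by
    rw [← hφ, Category.assoc, Iso.inv_hom_id_assoc]
  rw [h1, hα, ← hφ, Category.assoc]

theorem overlap_eq (α : ∀ A : CommAlgCat.{u} R, (sp A ⟶ Y) → (sp A ⟶ X))
    (f : ∀ i, member 𝒰 i ⟶ X)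
    (hf : ∀ (B : CommAlgCat.{u} R) i (a : sp B ⟶ member 𝒰 i), a ≫ f i = α B (a ≫ incl 𝒰 i)) (i i' : 𝒰.I₀) :
    pullback.fst (𝒰.f i) (𝒰.f i') ≫ (f i).left = pullback.snd (𝒰.f i) (𝒰.f i') ≫ (f i').left := by
  let P : Over (Spec (CommRingCat.of R)) := Over.mk (pullback.fst (𝒰.f i) (𝒰.f i') ≫ (member 𝒰 i).hom)
  let p : P ⟶ member 𝒰 i := Over.homMk (pullback.fst (𝒰.f i) (𝒰.f i')) rfl
  let q : P ⟶ member 𝒰 i' := Over.homMk (pullback.snd (𝒰.f i) (𝒰.f i')) (by
    exact (pullback.condition_assoc (f := 𝒰.f i) (g := 𝒰.f i') Y.hom).symm)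
  have hpq : p ≫ incl 𝒰 i = q ≫ incl 𝒰 i' := Over.OverMorphism.ext pullback.condition
  have : p ≫ f i = q ≫ f i' := hom_ext_pts fun B g => by
    rw [← Category.assoc, ← Category.assoc, hf, hf, Category.assoc, Category.assoc, hpq]
  exact congrArg CommaMorphism.left this

theorem existsUnique_hom_of_cover (haff : ∀ i, IsAffine (𝒰.X i))
    (α : ∀ A : CommAlgCat.{u} R, (sp A ⟶ Y) → (sp A ⟶ X)) (hα : IsNatPts α) :
    ∃! c : Y ⟶ X, ∀ (A : CommAlgCat.{u} R) (g : sp A ⟶ Y), g ≫ c = α A g := by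
  choose f hf using fun i => @exists_member_map R _ Y X 𝒰 α hα i (haff i)
  have hf' : ∀ (B : CommAlgCat.{u} R) i (a : sp B ⟶ member 𝒰 i), a ≫ f i = α B (a ≫ incl 𝒰 i) :=
    fun B i a => hf i B a
  obtain ⟨c₀, hc₀⟩ : ∃ c₀, ∀ i, 𝒰.f i ≫ c₀ = (f i).left :=
    ⟨Scheme.Cover.glueMorphisms 𝒰 (fun i => (f i).left) (overlap_eq α f hf'), fun i => Scheme.Cover.ι_glueMorphisms 𝒰 _ _ i⟩
  let c : Y ⟶ X := Over.homMk c₀ (by
    refine Scheme.Cover.hom_ext 𝒰 _ _ fun i => ?_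
    show 𝒰.f i ≫ c₀ ≫ X.hom = 𝒰.f i ≫ Y.hom
    rw [← Category.assoc, hc₀]
    exact Over.w (f i))
  have hc : ∀ i, incl 𝒰 i ≫ c = f i := fun i => Over.OverMorphism.ext (hc₀ i)
  have key : ∀ (B : CommAlgCat.{u} R) (g : sp B ⟶ Y), g ≫ c = α B g := fun B g =>
    hom_ext_cover 𝒰 g _ _ fun C b i a hba => by
      obtain ⟨φ, rfl⟩ := exists_spMap b
      rw [← hα, ← Category.assoc, hba, Category.assoc, hc, hf']
  exact ⟨c, key, fun c' hc' => hom_ext_pts fun B g => by rw [hc', key]⟩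

theorem existsUnique_hom (α : ∀ A : CommAlgCat.{u} R, (sp A ⟶ Y) → (sp A ⟶ X)) (hα : IsNatPts α) :
    ∃! c : Y ⟶ X, ∀ (A : CommAlgCat.{u} R) (g : sp A ⟶ Y), g ≫ c = α A g :=
  existsUnique_hom_of_cover (𝒰 := Y.left.affineCover) (fun _ => inferInstance) α hα

end Groth.Agent.Grass60
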