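import Groth.Agent.Grass60.Charts
import Groth.Agent.Grass60.Rep
import Groth.Agent.SegreX.Coord
import Mathlib.AlgebraicGeometry.Morphisms.ClosedImmersion

/-!
The Plücker embedding of the Grassmannian of quotients of a free module.
-/

set_option autoImplicit false
set_option backward.isDefEq.respectTransparency false
set_option linter.style.haveILetI false

universe u

open TensorProduct CategoryTheory CategoryTheory.Limits AlgebraicGeometry

namespace Groth.Agent.Grass60.Plucker

open Synt29.GrassGraph Synt29.RepOpen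
open Module (Grassmannian)

variable {R : Type u} [CommRing R] {n q : ℕ}

/-- The increasing enumeration of a set of columns. -/
def tt (T : Idx n q) : Fin q → Fin n := T.1.orderEmbOfFin T.2

theorem exists_tt_eq (T : Idx n q) {c : Fin n} (hc : c ∈ T.1) : ∃ i, tt T i = c :=
  ⟨(T.1.orderIsoOfFin T.2).symm ⟨c, hc⟩, by
    show ((T.1.orderIsoOfFin T.2) ((T.1.orderIsoOfFin T.2).symm ⟨c, hc⟩) : Fin n) = c
    rw [OrderIso.apply_symm_apply]⟩

section Alg

variable {A B : Type u} [CommRing A] [Algebra R A] [CommRing B] [Algebra R B]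

/-- A minor. -/
def minor (v : Fin n → Fin q → A) (t : Fin q → Fin n) : A := (Matrix.of fun i j => v (t j) i).det

theorem map_minor (φ : A →+* B) (v : Fin n → Fin q → A) (t : Fin q → Fin n) :
    φ (minor v t) = minor (fun c i => φ (v c i)) t := RingHom.map_det φ _

variable (R) in
/-- The linear map of a family of vectors. -/
noncomputable def lin (v : Fin n → Fin q → A) : A ⊗[R] (Fin n → R) →ₗ[A] (Fin q → A) := (bas A).constr A v

theorem lin_bas (v : Fin n → Fin q → A) (c : Fin n) : lin R v (bas A c) = v c := Module.Basis.constr_basis ..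

/-- A family of vectors presenting a point. -/
def IsFrame (N : Grassmannian A (A ⊗[R] (Fin n → R)) q) (v : Fin n → Fin q → A) : Prop :=
  Function.Surjective (lin R v) ∧ LinearMap.ker (lin R v) = N.toSubmodule

variable {N : Grassmannian A (A ⊗[R] (Fin n → R)) q} {v w : Fin n → Fin q → A}

theorem lin_eq (S : Finset (Fin n)) (hS : S.card = q) (u : {c // c ∉ S} → S → A) (v : Fin n → Fin q → A)
    (hv : ∀ c i, v c i = (if hc : c ∈ S then Pi.single ⟨c, hc⟩ 1 else u ⟨c, hc⟩ : S → A) (S.orderIsoOfFin hS i)) :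
    lin R v = (LinearEquiv.funCongrLeft A A (S.orderIsoOfFin hS).toEquiv).toLinearMap.comp
      (proj (R := R) S u) := by
  refine (bas A).ext fun c => funext fun i => ?_
  rw [lin_bas, LinearMap.comp_apply, proj_bas, hv]
  rfl

theorem isFrame_graph (S : Finset (Fin n)) (hS : S.card = q) (u : {c // c ∉ S} → S → A) (v : Fin n → Fin q → A)
    (hv : ∀ c i, v c i = (if hc : c ∈ S then Pi.single ⟨c, hc⟩ 1 else u ⟨c, hc⟩ : S → A) (S.orderIsoOfFin hS i)) :
    IsFrame (graph (R := R) S hS u) v := by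
  refine ⟨?_, ?_⟩
  · rw [lin_eq S hS u v hv, LinearMap.coe_comp]
    exact (LinearEquiv.surjective _).comp (proj_surjective S u)
  · rw [lin_eq S hS u v hv, LinearEquiv.ker_comp, graph_toSubmodule]

theorem isFrame_map_graph (φ : A →ₐ[R] B) (S : Finset (Fin n)) (hS : S.card = q)
    (u : {c // c ∉ S} → S → A) (v : Fin n → Fin q → A)
    (hv : ∀ c i, v c i = (if hc : c ∈ S then Pi.single ⟨c, hc⟩ 1 else u ⟨c, hc⟩ : S → A) (S.orderIsoOfFin hS i)) :
    IsFrame (Grassmannian.map φ (graph (R := R) S hS u)) (fun c i => φ (v c i)) := by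
  rw [map_graph]
  refine isFrame_graph S hS _ _ fun c i => ?_
  rw [hv]
  by_cases hc : c ∈ S
  · rw [dif_pos hc, dif_pos hc, Pi.single_apply, Pi.single_apply, apply_ite φ, map_one, map_zero]
  · rw [dif_neg hc, dif_neg hc]

theorem IsFrame.exists_scale (hv : IsFrame N v) (hw : IsFrame N w) :
    ∃ d : A, ∀ t, minor w t = d * minor v t := by
  let g : (Fin q → A) →ₗ[A] (Fin q → A) :=
    ((LinearMap.ker (lin R v)).liftQ (lin R w) (hv.2.trans hw.2.symm).le).comp
      ((lin R v).quotKerEquivOfSurjective hv.1).symm.toLinearMap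
  have hg : ∀ c, w c = g (v c) := fun c => by
    rw [← lin_bas (R := R) w c, ← lin_bas (R := R) v c]
    show _ = (LinearMap.ker (lin R v)).liftQ (lin R w) (hv.2.trans hw.2.symm).le (((lin R v).quotKerEquivOfSurjective hv.1).symm (lin R v (bas A c)))
    rw [show ((lin R v).quotKerEquivOfSurjective hv.1).symm (lin R v (bas A c)) = Submodule.Quotient.mk (bas A c) from
      (LinearEquiv.symm_apply_eq _).2 rfl]
    rfl
  refine ⟨(LinearMap.toMatrix' g).det, fun t => ?_⟩
  rw [minor, minor, ← Matrix.det_mul]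
  congr 1
  ext i j
  show w (t j) i = _
  rw [hg, ← LinearMap.toMatrix'_mulVec g (v (t j))]
  rfl

theorem IsFrame.inChart_iff (hv : IsFrame N v) (T : Idx n q) :
    InChart T.1 N ↔ IsUnit (minor v (tt T)) := by
  rw [minor, ← Matrix.isUnit_iff_isUnit_det, ← Matrix.mulVec_surjective_iff_isUnit]
  let M := Matrix.of fun i j => v (tt T j) i
  let E := ((Submodule.quotEquivOfEq _ _ hv.2.symm).trans ((lin R v).quotKerEquivOfSurjective hv.1))
  let e : (Fin q → A) ≃ₗ[A] (T.1 → A) := LinearEquiv.funCongrLeft A A (T.1.orderIsoOfFin T.2).symm.toEquiv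
  have h : (E.toLinearMap.comp (colMap T.1 N.toSubmodule)).comp e.toLinearMap = M.mulVecLin := by
    refine LinearMap.pi_ext' fun j => LinearMap.ext_ring ?_
    simp only [LinearMap.comp_apply, LinearEquiv.coe_coe, LinearMap.coe_single]
    have he : e (Pi.single j 1) = Pi.single (T.1.orderIsoOfFin T.2 j) 1 := by
      funext c
      show (Pi.single j (1 : A) : Fin q → A) ((T.1.orderIsoOfFin T.2).symm c) = _
      by_cases hc : c = T.1.orderIsoOfFin T.2 j
      · subst hc; simp
      · rw [Pi.single_eq_of_ne hc, Pi.single_eq_of_ne]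
        intro h'; exact hc (by rw [← h', OrderIso.apply_symm_apply])
    rw [he]
    show lin R v (sect T.1 (Pi.single (T.1.orderIsoOfFin T.2 j) (1 : A))) = _
    rw [← Pi.basisFun_apply, sect, Module.Basis.constr_basis, lin_bas]
    funext i
    simp [M, tt]
  have h' : (M.mulVec : (Fin q → A) → Fin q → A) = (E ∘ colMap T.1 N.toSubmodule) ∘ e := by
    rw [← Matrix.coe_mulVecLin, ← h]; rfl
  rw [show Matrix.mulVec (Matrix.of fun i j => v (tt T j) i) = M.mulVec from rfl, h', e.surjective.of_comp_iff]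
  exact ⟨fun hh => E.surjective.comp hh, fun hh y => by
    obtain ⟨x, hx⟩ := hh (E y)
    exact ⟨x, E.injective hx⟩⟩

theorem minor_update (T : Idx n q) (hT : ∀ i j, v (tt T j) i = (1 : Matrix (Fin q) (Fin q) A) i j)
    {c : Fin n} (hc : c ∉ T.1) (i : Fin q) :
    ∃ (T' : Idx n q) (s : ℤˣ), v c i = (((s : ℤ) : A)) * minor v (tt T') := by
  classical
  let t' := Function.update (tt T) i c
  have hinj : Function.Injective t' := by
    intro a b h
    by_cases ha : a = i
    · by_cases hb : b = i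
      · rw [ha, hb]
      · refine absurd ?_ hc
        simp only [t', ha, Function.update_self, Function.update_of_ne hb] at h
        rw [h]; exact Finset.orderEmbOfFin_mem _ _ _
    · by_cases hb : b = i
      · refine absurd ?_ hc
        simp only [t', hb, Function.update_self, Function.update_of_ne ha] at h
        rw [← h]; exact Finset.orderEmbOfFin_mem _ _ _
      · simp only [t', Function.update_of_ne ha, Function.update_of_ne hb] at h
        exact (T.1.orderEmbOfFin T.2).injective h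
  let T' : Idx n q := ⟨Finset.univ.image t', by rw [Finset.card_image_of_injective _ hinj]; simp⟩
  choose σ hσ using fun j => exists_tt_eq T' (Finset.mem_image_of_mem t' (Finset.mem_univ j))
  have hσi : Function.Bijective σ := Finite.injective_iff_bijective.1 fun a b h => hinj (by rw [← hσ a, ← hσ b, h])
  refine ⟨T', Equiv.Perm.sign (Equiv.ofBijective σ hσi), ?_⟩
  rw [minor, ← Matrix.det_permute']
  have hM : ((Matrix.of fun i j => v (tt T' j) i).submatrix id (Equiv.ofBijective σ hσi)) =
      (1 : Matrix (Fin q) (Fin q) A).updateCol i (v c) := by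
    ext a b
    show v (tt T' (σ b)) a = _
    rw [hσ]
    by_cases hb : b = i
    · subst hb; simp [t']
    · rw [Matrix.updateCol_ne hb, show t' b = tt T b from Function.update_of_ne hb _ _, hT]
  rw [hM, ← Matrix.cramer_apply, Matrix.cramer_one]
  rfl

end Alg

variable (R) (n q)

/-- The number of the last coordinate. -/
abbrev NN : ℕ := n.choose q - 1

variable {n q} (hqn : q ≤ n)

/-- The numbering of coordinates. -/
noncomputable def eps : Fin (NN n q + 1) ≃ Idx n q :=
  (finCongr (show NN n q + 1 = n.choose q from Nat.sub_add_cancel (Nat.choose_pos hqn))).trans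
    (Fintype.equivFinOfCardEq (show Fintype.card (Idx n q) = n.choose q by
      rw [Fintype.card_finset_len, Fintype.card_fin])).symm

/-- The vectors of a chart. -/
noncomputable def vU (S : Idx n q) (c : Fin n) (i : Fin q) : MvPolynomial (Var n S.1) R :=
  (if hc : c ∈ S.1 then Pi.single ⟨c, hc⟩ 1 else uUniv R S.1 ⟨c, hc⟩ : S.1 → MvPolynomial (Var n S.1) R)
    (S.1.orderIsoOfFin S.2 i)

theorem vU_tt (S : Idx n q) (i j : Fin q) :
    vU R S (tt S j) i = (1 : Matrix (Fin q) (Fin q) (MvPolynomial (Var n S.1) R)) i j := by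
  have hmem : tt S j ∈ S.1 := Finset.orderEmbOfFin_mem _ _ _
  rw [vU, dif_pos hmem, show (⟨tt S j, hmem⟩ : S.1) = S.1.orderIsoOfFin S.2 j from Subtype.ext rfl]
  by_cases h : i = j
  · subst h; simp
  · rw [Pi.single_eq_of_ne fun h' => h ((S.1.orderIsoOfFin S.2).injective h'), Matrix.one_apply_ne h]

theorem minor_vU_self (S : Idx n q) : minor (vU R S) (tt S) = 1 := by
  rw [minor, show (Matrix.of fun i j => vU R S (tt S j) i) = 1 from Matrix.ext (vU_tt R S), Matrix.det_one]

variable {R}

theorem isFrame_map (S : Idx n q) {A : CommAlgCat.{u} R} (α : (chart R S.1 S.2).C ⟶ A) :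
    IsFrame (R := R) (A := A) ((gFun R n q).map α (chart R S.1 S.2).univ) (fun c i => α.hom (vU R S c i)) :=
  isFrame_map_graph (A := MvPolynomial (Var n S.1) R) (B := A) α.hom S.1 S.2 (uUniv R S.1) (vU R S) fun _ _ => rfl

/-- Projective space over the base. -/
noncomputable abbrev PR (R : Type u) [CommRing R] (N : ℕ) : Over (Spec (CommRingCat.of R)) :=
  Over.mk (CohB1.ProjSpaceOver.toBase N (Spec (CommRingCat.of R)))

/-- The coordinates on a chart. -/
noncomputable def sec (S : Idx n q) (l : Fin (NN n q + 1)) : Γ((sp (chart R S.1 S.2).C).left, ⊤) :=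
  (Scheme.ΓSpecIso _).inv.hom (minor (vU R S) (tt (eps hqn l)))

theorem isUnit_sec (S : Idx n q) : IsUnit (sec (R := R) hqn S ((eps hqn).symm S)) := by
  rw [sec, Equiv.apply_symm_apply, minor_vU_self, map_one]
  exact isUnit_one

/-- The Plücker map on a chart. -/
noncomputable def cS (S : Idx n q) : sp (chart R S.1 S.2).C ⟶ PR R (NN n q) :=
  Over.homMk (pullback.lift (SegreX.ptS (sec hqn S) _ (isUnit_sec hqn S)) (sp (chart R S.1 S.2).C).hom
    (specULiftZIsTerminal.hom_ext _ _)) (pullback.lift_snd _ _ _)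

theorem cS_fst (S : Idx n q) :
    (cS (R := R) hqn S).left ≫ pullback.fst _ _ = SegreX.ptS (sec hqn S) _ (isUnit_sec hqn S) :=
  pullback.lift_fst _ _ _

variable {X : Over (Spec (CommRingCat.of R))} {e : ∀ A, (sp A ⟶ X) ≃ (gFun R n q).obj A}
  (he : IsNat X (gFun R n q) e)

include he in
theorem cS_agree (S T : Idx n q) {A : CommAlgCat.{u} R} (a : sp A ⟶ sp (chart R S.1 S.2).C)
    (b : sp A ⟶ sp (chart R T.1 T.2).C)
    (h : a ≫ (chart R S.1 S.2).hom e = b ≫ (chart R T.1 T.2).hom e) : a ≫ cS hqn S = b ≫ cS hqn T := by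
  obtain ⟨α, rfl⟩ := exists_spMap a
  obtain ⟨β, rfl⟩ := exists_spMap b
  have h' := congrArg (e A) h
  rw [he, he, Chart.hom, Chart.hom, Equiv.apply_symm_apply, Equiv.apply_symm_apply] at h'
  have hα := isFrame_map S α
  have hβ := isFrame_map T β
  rw [← h'] at hβ
  obtain ⟨d, hd⟩ := hα.exists_scale hβ
  refine Over.OverMorphism.ext (pullback.hom_ext ?_ ?_)
  · show (spMap α ≫ (cS hqn S).left) ≫ pullback.fst _ _ = (spMap β ≫ (cS hqn T).left) ≫ pullback.fst _ _
    rw [Category.assoc, Category.assoc, cS_fst, cS_fst, SegreX.comp_ptS, SegreX.comp_ptS]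
    refine (SegreX.ptS_scale _ _ ((Scheme.ΓSpecIso _).inv.hom d) (fun l => ?_) _ _ _ _).symm
    have hn : ∀ {S' : Idx n q} (γ : (chart R S'.1 S'.2).C ⟶ A),
        (spMap γ).appTop.hom (sec hqn S' l) =
          (Scheme.ΓSpecIso _).inv.hom (minor (fun c i => γ.hom (vU R S' c i)) (tt (eps hqn l))) := fun {S'} γ => by
      have hm : γ.hom.toRingHom (minor (vU R S') (tt (eps hqn l))) =
          minor (fun c i => γ.hom (vU R S' c i)) (tt (eps hqn l)) :=
        map_minor (A := MvPolynomial (Var n S'.1) R) γ.hom.toRingHom _ _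
      rw [← hm]
      exact (RingHom.congr_fun (congrArg CommRingCat.Hom.hom
        (Scheme.ΓSpecIso_inv_naturality (CommRingCat.ofHom γ.hom.toRingHom))) _).symm
    show (spMap β).appTop.hom _ = _ * (spMap α).appTop.hom _
    rw [hn, hn, hd, map_mul]
  · show (spMap α ≫ (cS hqn S).left) ≫ (PR R (NN n q)).hom = (spMap β ≫ (cS hqn T).left) ≫ (PR R (NN n q)).hom
    rw [Category.assoc, Category.assoc, Over.w, Over.w, spMap_w, spMap_w]

include he in
theorem exists_plucker :
    ∃ c : X ⟶ PR R (NN n q), ∀ S : Idx n q, (chart R S.1 S.2).hom e ≫ c = cS hqn S := by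
  haveI := fun S : Idx n q => isOpenImmersion_hom he (chart R S.1 S.2)
  let 𝒰 : X.left.OpenCover := Scheme.Cover.mkOfCovers (ULift.{u} (Idx n q)) (fun S => (sp (chart R S.down.1 S.down.2).C).left)
    (fun S => ((chart R S.down.1 S.down.2).hom e).left) (fun x => by
      obtain ⟨S, hS, y, hy⟩ := exists_chart_mem he x
      exact ⟨⟨⟨S, hS⟩⟩, y, hy⟩) (fun S => inferInstance)
  let j : ∀ S, member 𝒰 S ⟶ sp (chart R S.down.1 S.down.2).C := fun S =>
    Over.homMk (𝟙 _) ((Category.id_comp _).trans (Over.w ((chart R S.down.1 S.down.2).hom e)).symm)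
  have hj : ∀ S, incl 𝒰 S = j S ≫ (chart R S.down.1 S.down.2).hom e := fun S =>
    Over.OverMorphism.ext (Category.id_comp _).symm
  obtain ⟨c, hc⟩ := exists_glue_hom 𝒰 (fun S => j S ≫ cS hqn S.down) fun S T B a b hab => by
    rw [hj, hj, ← Category.assoc, ← Category.assoc] at hab
    rw [← Category.assoc, ← Category.assoc]
    exact cS_agree hqn he S.down T.down _ _ hab
  refine ⟨c, fun S => ?_⟩
  have h1 := hc ⟨S⟩
  rw [hj, Category.assoc] at h1
  refine Over.OverMorphism.ext ?_
  have h2 := congrArg CommaMorphism.left h1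
  simp only [Over.comp_left, j, Over.homMk_left] at h2 ⊢
  exact ((Category.id_comp _).symm.trans h2).trans (Category.id_comp _)

variable {c : X ⟶ PR R (NN n q)} (hc : ∀ S : Idx n q, (chart R S.1 S.2).hom e ≫ c = cS hqn S)

include he hc in
theorem preimage_basicOpen (T : Idx n q) (x : X.left) :
    (c.left ≫ pullback.fst _ _) x ∈
        Proj.basicOpen (CohB1.polyGrading (NN n q) (ULift.{u} ℤ)) (MvPolynomial.X ((eps hqn).symm T)) ↔
      x ∈ Set.range ((chart R T.1 T.2).hom e).left := by
  obtain ⟨S, hS, z, rfl⟩ := exists_chart_mem he x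
  let S' : Idx n q := ⟨S, hS⟩
  obtain ⟨L, hL, p, hp⟩ := exists_field_pt (sp (chart R S'.1 S'.2).C) z
  letI := hL.toField
  let o : Spec (CommRingCat.of L) := (⟨⊥, Ideal.isPrime_bot⟩ : PrimeSpectrum L)
  obtain ⟨α, rfl⟩ := exists_spMap p
  have hz : spMap α o = z := hp o
  have h1 : ((chart R S'.1 S'.2).hom e).left z = (spOver α ≫ (chart R S'.1 S'.2).hom e).left o := by
    rw [← hz]; rfl
  rw [show ((chart R S hS).hom e).left z = (spOver α ≫ (chart R S'.1 S'.2).hom e).left o from h1]
  rw [mem_range_iff_field he _ hL]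
  show _ ↔ InChart T.1 (e L (spOver α ≫ (chart R S'.1 S'.2).hom e))
  have hE : e L (spOver α ≫ (chart R S'.1 S'.2).hom e) = (gFun R n q).map α (chart R S'.1 S'.2).univ := by
    rw [he, Chart.hom, Equiv.apply_symm_apply]
  rw [hE, (isFrame_map S' α).inChart_iff T]
  have hcS : ((spOver α ≫ (chart R S'.1 S'.2).hom e).left ≫ c.left ≫ pullback.fst _ _) =
      spMap α ≫ SegreX.ptS (sec hqn S') _ (isUnit_sec hqn S') := by
    rw [← cS_fst hqn S', ← hc S']
    simp [Category.assoc]
  rw [← Scheme.Hom.comp_apply, show (spOver α ≫ (chart R S'.1 S'.2).hom e).left ≫ c.left ≫ pullback.fst _ _ = _ from hcS]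
  rw [Scheme.Hom.comp_apply]
  show spMap α o ∈ SegreX.ptS (sec hqn S') _ (isUnit_sec hqn S') ⁻¹ᵁ
    Proj.basicOpen (CohB1.polyGrading (NN n q) (ULift.{u} ℤ)) (MvPolynomial.X ((eps hqn).symm T)) ↔ _
  rw [SegreX.ptS_preimage, sec, Equiv.apply_symm_apply]
  erw [basicOpen_eq_of_affine]
  show ¬ (α.hom (minor (vU R S') (tt T)) ∈ o.asIdeal) ↔ _
  rw [isUnit_iff_ne_zero]
  have hm : α.hom.toRingHom (minor (vU R S') (tt T)) = minor (fun c i => α.hom (vU R S' c i)) (tt T) :=
    map_minor (A := MvPolynomial (Var n S'.1) R) α.hom.toRingHom _ _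
  rw [← hm]
  rfl

include he hc in
theorem isClosedImmersion_plucker : IsClosedImmersion c.left := by
  haveI := fun S : Idx n q => isOpenImmersion_hom he (chart R S.1 S.2)
  let N := NN n q
  let fstP : CohB1.ProjSpaceOver N (Spec (CommRingCat.of R)) ⟶ CohB1.ProjSpace N (ULift.{u} ℤ) := pullback.fst _ _
  let 𝒲 := (Proj.affineOpenCoverOfIrrelevantLESpan (CohB1.polyGrading N (ULift.{u} ℤ)) _
    (fun k => ProjPt.X_mem k) (fun _ => one_pos) (SegreX.irrelevant_le_span _ _)).openCover.pullback₁ fstP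
  refine IsZariskiLocalAtTarget.of_openCover 𝒲 fun k => ?_
  obtain ⟨T, rfl⟩ : ∃ T, (eps hqn).symm T = k := ⟨eps hqn k, (eps hqn).symm_apply_apply k⟩
  let l₀ := (eps hqn).symm T
  let chartZ := Proj.awayι (CohB1.polyGrading N (ULift.{u} ℤ)) (MvPolynomial.X l₀) (ProjPt.X_mem l₀) one_pos
  let M := pullback fstP chartZ
  let h : (sp (chart R T.1 T.2).C).left ⟶ X.left := ((chart R T.1 T.2).hom e).left
  have hs : IsUnit (MvPolynomial.eval₂Hom (SegreX.z0 _) (sec (R := R) hqn T) (MvPolynomial.X l₀)) := by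
    rw [MvPolynomial.eval₂Hom_X']; exact isUnit_sec hqn T
  let r₁ := (sp (chart R T.1 T.2).C).left.toSpecΓ ≫
    Spec.map (CommRingCat.ofHom (ProjPt.coordHom (CohB1.polyGrading N (ULift.{u} ℤ))
      (MvPolynomial.eval₂Hom (SegreX.z0 _) (sec (R := R) hqn T)) hs))
  have hr₁ : r₁ ≫ chartZ = SegreX.ptS (sec hqn T) l₀ (isUnit_sec hqn T) := Category.assoc _ _ _
  let r : (sp (chart R T.1 T.2).C).left ⟶ M := pullback.lift (cS hqn T).left r₁ ((cS_fst hqn T).trans hr₁.symm)
  have hsq : h ≫ c.left = r ≫ pullback.fst fstP chartZ := by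
    rw [pullback.lift_fst]
    exact congrArg CommaMorphism.left (hc T)
  have hrange : c.left ⁻¹ᵁ (pullback.fst fstP chartZ).opensRange = h.opensRange := by
    apply SetLike.coe_injective
    show c.left ⁻¹' Set.range (pullback.fst fstP chartZ) = Set.range h
    rw [Scheme.Pullback.range_fst]
    ext x
    refine Iff.trans ?_ (preimage_basicOpen hqn he hc T x)
    show fstP (c.left x) ∈ Set.range chartZ ↔ _
    rw [Scheme.Hom.comp_apply]
    have hh : chartZ.opensRange = Proj.basicOpen (CohB1.polyGrading N (ULift.{u} ℤ)) (MvPolynomial.X l₀) :=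
      Proj.opensRange_awayι _ _ (ProjPt.X_mem _) one_pos
    rw [← hh]
    rfl
  have sq : IsPullback r h (pullback.fst fstP chartZ) c.left := IsOpenImmersion.isPullback _ _ _ _ hsq hrange
  suffices IsClosedImmersion r by
    show IsClosedImmersion (pullback.snd c.left (pullback.fst fstP chartZ))
    rw [← sq.flip.isoPullback_inv_snd]
    exact (MorphismProperty.cancel_left_of_respectsIso @IsClosedImmersion _ _).mpr this
  -- the retraction
  let st : M ⟶ Spec (CommRingCat.of R) := pullback.fst fstP chartZ ≫ (PR R N).hom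
  let ρ : R →+* Γ(M, ⊤) := ((Scheme.ΓSpecIso (CommRingCat.of R)).inv ≫ st.appTop).hom
  let cs : Fin (N + 1) → Γ(M, ⊤) := fun l => SegreX.coords (pullback.snd fstP chartZ) l
  have hupd : ∀ v : Var n T.1, ∃ (T' : Idx n q) (s : ℤˣ),
      MvPolynomial.X v = ((s : ℤ) : MvPolynomial (Var n T.1) R) * minor (vU R T) (tt T') := fun v => by
    obtain ⟨T', s, h'⟩ := minor_update (v := vU R T) T (vU_tt R T) v.1.2 ((T.1.orderIsoOfFin T.2).symm v.2)
    refine ⟨T', s, Eq.trans ?_ h'⟩
    rw [vU, dif_neg v.1.2, OrderIso.apply_symm_apply]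
    rfl
  choose T' s hT' using hupd
  let ψ : CommRingCat.of (MvPolynomial (Var n T.1) R) ⟶ Γ(M, ⊤) :=
    CommRingCat.ofHom (MvPolynomial.eval₂Hom ρ fun v => ((s v : ℤ) : Γ(M, ⊤)) * cs ((eps hqn).symm (T' v)))
  let back : M ⟶ (sp (chart R T.1 T.2).C).left := M.toSpecΓ ≫ Spec.map ψ
  have hrb : r ≫ back = 𝟙 (sp (chart R T.1 T.2).C).left := by
    rw [Scheme.toSpecΓ_naturality_assoc, ← Spec.map_comp,
      ProjPt.eq_toSpecΓ (R := CommRingCat.of (MvPolynomial (Var n T.1) R)) (𝟙 (sp (chart R T.1 T.2).C).left)]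
    congr 2
    apply CommRingCat.hom_ext
    refine MvPolynomial.ringHom_ext (fun a => ?_) (fun v => ?_)
    · show r.appTop.hom (ψ.hom (MvPolynomial.C a)) = _
      rw [show ψ.hom (MvPolynomial.C a) = ρ a from MvPolynomial.eval₂Hom_C _ _ _]
      have hst : r ≫ st = Spec.map (CommRingCat.ofHom (algebraMap R (MvPolynomial (Var n T.1) R))) := by
        rw [← Category.assoc, pullback.lift_fst]
        exact Over.w (cS hqn T)
      show ((Scheme.ΓSpecIso (CommRingCat.of R)).inv ≫ st.appTop ≫ r.appTop).hom a = _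
      rw [← Scheme.Hom.comp_appTop, hst, ← Scheme.ΓSpecIso_inv_naturality]
      rfl
    · show r.appTop.hom (ψ.hom (MvPolynomial.X v)) = _
      rw [show ψ.hom (MvPolynomial.X v) = _ from MvPolynomial.eval₂Hom_X' _ _ _, map_mul, map_intCast]
      have hcs : r.appTop.hom (cs ((eps hqn).symm (T' v))) = sec hqn T ((eps hqn).symm (T' v)) := by
        show r.appTop (SegreX.coords _ _) = _
        rw [← SegreX.coords_comp, pullback.lift_snd]
        show ((Scheme.ΓSpecIso _).inv ≫ r₁.appTop).hom _ = _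
        rw [Scheme.Hom.comp_appTop, Scheme.toSpecΓ_appTop, Scheme.ΓSpecIso_naturality,
          Iso.inv_hom_id_assoc]
        refine (ProjPt.coordHom_crd _ _ _ ?_ _).trans (MvPolynomial.eval₂Hom_X' _ _ _)
        rw [MvPolynomial.eval₂Hom_X', sec, Equiv.apply_symm_apply, minor_vU_self, map_one]
      rw [hcs, sec, Equiv.apply_symm_apply]
      have h4 := congrArg (Scheme.ΓSpecIso (CommRingCat.of (MvPolynomial (Var n T.1) R))).inv.hom (hT' v)
      rw [map_mul, map_intCast] at h4
      exact (h4.symm : _)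
  haveI : IsClosedImmersion (r ≫ back) := by rw [hrb]; infer_instance
  haveI : IsAffineHom fstP :=
    MorphismProperty.pullback_fst (P := @IsAffineHom) _ _ inferInstance
  haveI : IsAffineHom (pullback.snd fstP chartZ) :=
    MorphismProperty.pullback_snd (P := @IsAffineHom) _ _ inferInstance
  haveI : IsAffine M := isAffine_of_isAffineHom (pullback.snd fstP chartZ)
  haveI : IsSeparated back := inferInstance
  exact IsClosedImmersion.of_comp r back

include hqn he in
theorem exists_closedImmersion_projSpace :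
    ∃ c : X.left ⟶ CohB1.ProjSpaceOver (n.choose q - 1) (Spec (CommRingCat.of R)),
      IsClosedImmersion c ∧
        c ≫ CohB1.ProjSpaceOver.toBase (n.choose q - 1) (Spec (CommRingCat.of R)) = X.hom := by
  obtain ⟨c, hc⟩ := exists_plucker hqn he
  exact ⟨c.left, isClosedImmersion_plucker hqn he hc, Over.w c⟩

end Groth.Agent.Grass60.Plucker
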