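import Groth.Prelude.Def_GrassD

/-!
# Calculus of `Grass.quotBC` along composites
-/

set_option autoImplicit false

universe u

open CategoryTheory CategoryTheory.Limits AlgebraicGeometry Grass

namespace Groth.Agent.Grass60.QuotBC

variable {X F F' T : Scheme.{u}} {π : F ⟶ X} {E : X.Modules} {Q : F.Modules}
  {q : (Scheme.Modules.pullback π).obj E ⟶ Q}

theorem quotBC_map {M : F.Modules} {h : T ⟶ F} {g : T ⟶ X} (hg : h ≫ π = g) (t : Q ⟶ M) :
    quotBC hg (q ≫ t) = quotBC hg q ≫ (Scheme.Modules.pullback h).map t := by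
  simp [quotBC]

theorem cancel_two {C : Type*} [Category C] {A A' B M N : C} (α : A ⟶ B) (β : B ⟶ M) (γ : M ≅ N) (δ : N ≅ A')
    (p : A ⟶ A') (h : α ≫ β ≫ γ.hom ≫ δ.hom = p) : α ≫ β = p ≫ δ.inv ≫ γ.inv := by
  rw [← h]; simp

theorem assembly {C : Type*} [Category C] {A A' B M N P R : C} {α : A ⟶ B} {β : B ⟶ M} {p : A ⟶ A'} {δ : A' ⟶ N}
    {γ : N ⟶ M} {m₁ : N ⟶ P} {c : P ⟶ R} {m₂ : M ⟶ R} (key : α ≫ β = p ≫ δ ≫ γ) (nat : m₁ ≫ c = γ ≫ m₂) :
    (p ≫ δ ≫ m₁) ≫ c = α ≫ β ≫ m₂ := by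
  rw [reassoc_of% key]; simp [nat]

/-- The coherence of inverse images along a triple composite, in the form used for `quotBC`. -/
theorem pullback_coherence (a : T ⟶ F') (b : F' ⟶ F) (π : F ⟶ X) (E : X.Modules) :
    (Scheme.Modules.pullbackComp a (b ≫ π)).inv.app E ≫
      (Scheme.Modules.pullback a).map ((Scheme.Modules.pullbackComp b π).inv.app E) =
      (Scheme.Modules.pullbackCongr (Category.assoc a b π).symm).hom.app E ≫
        (Scheme.Modules.pullbackComp (a ≫ b) π).inv.app E ≫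
          (Scheme.Modules.pullbackComp a b).inv.app ((Scheme.Modules.pullback π).obj E) := by
  refine cancel_two _ _ ((Scheme.Modules.pullbackComp a b).app ((Scheme.Modules.pullback π).obj E))
    ((Scheme.Modules.pullbackComp (a ≫ b) π).app E) _ ?_
  have h := congrArg (fun α => α.app E) (Scheme.Modules.pseudofunctor_associativity (f := a) (g := b) (h := π))
  simp only [NatTrans.comp_app, Functor.whiskerRight_app, Functor.whiskerLeft_app, Functor.associator_hom_app,
    eqToHom_app] at h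
  erw [Category.id_comp] at h
  refine h.trans ?_
  simp [Scheme.Modules.pullbackCongr]

theorem quotBC_comp {π' : F' ⟶ X} {b : F' ⟶ F} (hb : b ≫ π = π') {a : T ⟶ F'} {g : T ⟶ X} (ha : a ≫ π' = g)
    (hab : (a ≫ b) ≫ π = g) :
    quotBC hab q ≫ (Scheme.Modules.pullbackComp a b).inv.app Q = quotBC ha (quotBC hb q) := by
  subst hb ha
  refine (assembly (pullback_coherence a b π E) ((Scheme.Modules.pullbackComp a b).inv.naturality q)).trans ?_
  simp [quotBC, Scheme.Modules.pullbackCongr]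

theorem quotBC_quotBC {M : F'.Modules} {π' : F' ⟶ X} {b : F' ⟶ F} (hb : b ≫ π = π') {a : T ⟶ F'}
    {g : T ⟶ F} (hg : a ≫ b = g) (ha : a ≫ π' = g ≫ π) (ψ : (Scheme.Modules.pullback b).obj Q ⟶ M) :
    quotBC (show g ≫ π = g ≫ π from rfl) q ≫ quotBC hg ψ = quotBC ha (quotBC hb q ≫ ψ) := by
  subst hg
  rw [quotBC_map ha ψ, ← quotBC_comp hb ha rfl]
  simp [quotBC, Scheme.Modules.pullbackCongr]

theorem quotBC_comp_congr {π' : F' ⟶ X} {b : F' ⟶ F} (hb : b ≫ π = π') {a : T ⟶ F'}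
    {g : T ⟶ F} (hg : a ≫ b = g) (ha : a ≫ π' = g ≫ π) :
    quotBC ha (quotBC hb q) ≫ (Scheme.Modules.pullbackComp a b).hom.app Q ≫
      (Scheme.Modules.pullbackCongr hg).hom.app Q = quotBC (show g ≫ π = g ≫ π from rfl) q := by
  subst hg
  rw [← quotBC_comp hb ha rfl]
  refine (Category.assoc _ _ _).trans ?_
  simp [Scheme.Modules.pullbackCongr]

theorem epi_quotBC {h : T ⟶ F} {g : T ⟶ X} (hg : h ≫ π = g) [Epi q] : Epi (quotBC hg q) := by
  have := epi_pullback_map h q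
  infer_instance

end Groth.Agent.Grass60.QuotBC
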