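import Groth.Prelude.Def_FlatMod2
import Groth.Agent.PicClLib.Basic
import Mathlib.AlgebraicGeometry.Modules.Sheaf

/-!
# Inverse images of finite locally free modules of given rank
-/

set_option autoImplicit false

universe u

open CategoryTheory CategoryTheory.Limits AlgebraicGeometry

namespace Groth.Agent.Grass60

theorem nonempty_pullback_freeMod {X S : Scheme.{u}} (f : X ⟶ S) (n : ℕ) :
    Nonempty ((Scheme.Modules.pullback f).obj (FlatMod.freeMod S n) ≅ FlatMod.freeMod X n) := by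
  obtain ⟨e⟩ := PicClLib.nonempty_pullback_structureModule f
  have : (Scheme.Modules.pullback f).IsLeftAdjoint :=
    (Scheme.Modules.pullbackPushforwardAdjunction f).isLeftAdjoint
  exact ⟨PreservesCoproduct.iso (Scheme.Modules.pullback f) _ ≪≫ Sigma.mapIso fun _ => e⟩

theorem isFinLocFreeOfRank_pullback {X Y : Scheme.{u}} (φ : Y ⟶ X) {M : X.Modules} {n : ℕ}
    (h : FlatMod.IsFinLocFreeOfRank n M) : FlatMod.IsFinLocFreeOfRank n ((Scheme.Modules.pullback φ).obj M) := fun y => by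
  obtain ⟨U, hU, ⟨a⟩⟩ := h (φ y)
  obtain ⟨b⟩ := nonempty_pullback_freeMod (φ ∣_ U) n
  exact ⟨φ ⁻¹ᵁ U, hU, ⟨(Scheme.Modules.restrictFunctorIsoPullback _).app _ ≪≫
    (Scheme.Modules.pullbackComp _ φ).app M ≪≫
    (Scheme.Modules.pullbackCongr (morphismRestrict_ι φ U).symm).app M ≪≫
    ((Scheme.Modules.pullbackComp _ U.ι).app M).symm ≪≫
    (Scheme.Modules.pullback (φ ∣_ U)).mapIso (((Scheme.Modules.restrictFunctorIsoPullback U.ι).app M).symm ≪≫ a) ≪≫ b⟩⟩

end Groth.Agent.Grass60
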